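import Mathlib
import Cfsg.Prelude.Def_Local
import Cfsg.Agent.Lib.Helper55.Cores

set_option autoImplicit false
set_option linter.style.haveILetI false
set_option linter.unusedSectionVars false

namespace Cfsg.Agent.Lib.Helper54

open Cfsg

variable {G : Type*} [Group G] {G' : Type*} [Group G']

/-! ### Elementwise description of `O_{p',p}` -/

theorem pPrimePCore_normal' (p : ℕ) : (pPrimePCore p G).Normal := by
  unfold pPrimePCore
  exact Subgroup.Normal.comap (pCore_normal p _) _

theorem pPrimeCore_le_pPrimePCore (p : ℕ) : pPrimeCore p G ≤ pPrimePCore p G := by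
  unfold pPrimePCore
  exact Helper55.le_comap_mk' _ _

theorem exists_pow_mem_pPrimeCore (p : ℕ) {x : G} (hx : x ∈ pPrimePCore p G) :
    ∃ j : ℕ, x ^ (p ^ j) ∈ pPrimeCore p G := by
  unfold pPrimePCore at hx
  rw [Subgroup.mem_comap] at hx
  have hp : IsPGroup p (pCore p (G ⧸ pPrimeCore p G)) := Helper55.pCore_isPGroup p
  obtain ⟨j, hj⟩ := hp ⟨_, hx⟩
  refine ⟨j, ?_⟩
  have h1 := congrArg Subtype.val hj
  simp only [Subgroup.coe_pow, Subgroup.coe_one] at h1
  rw [← map_pow] at h1
  rwa [QuotientGroup.mk'_apply, QuotientGroup.eq_one_iff] at h1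

theorem le_pPrimePCore_of_forall_pow_mem (p : ℕ) (M : Subgroup G) [hM : M.Normal]
    (h : ∀ m ∈ M, ∃ j : ℕ, m ^ (p ^ j) ∈ pPrimeCore p G) : M ≤ pPrimePCore p G := by
  unfold pPrimePCore
  rw [← Subgroup.map_le_iff_le_comap]
  haveI : (M.map (QuotientGroup.mk' (pPrimeCore p G))).Normal :=
    Subgroup.Normal.map hM _ (QuotientGroup.mk'_surjective _)
  apply Helper55.le_pCore
  intro ⟨y, hy⟩
  obtain ⟨m, hm, rfl⟩ := hy
  obtain ⟨j, hj⟩ := h m hm
  refine ⟨j, ?_⟩
  apply Subtype.ext
  simp only [Subgroup.coe_pow, Subgroup.coe_one]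
  rw [← map_pow, QuotientGroup.mk'_apply, QuotientGroup.eq_one_iff]
  exact hj

/-- when the `p'`-core is trivial, `O_{p',p} = O_p` -/
theorem pPrimePCore_eq_pCore_of_pPrimeCore_eq_bot (p : ℕ) (h : pPrimeCore p G = ⊥) :
    pPrimePCore p G = pCore p G := by
  apply le_antisymm
  · haveI := pPrimePCore_normal' (G := G) p
    apply Helper55.le_pCore
    intro ⟨x, hx⟩
    obtain ⟨j, hj⟩ := exists_pow_mem_pPrimeCore p hx
    rw [h, Subgroup.mem_bot] at hj
    exact ⟨j, Subtype.ext hj⟩
  · haveI := Helper55.pCore_normal' (G := G) p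
    apply le_pPrimePCore_of_forall_pow_mem
    intro m hm
    obtain ⟨j, hj⟩ := (Helper55.pCore_isPGroup (G := G) p) ⟨m, hm⟩
    refine ⟨j, ?_⟩
    have h1 := congrArg Subtype.val hj
    simp only [Subgroup.coe_pow, Subgroup.coe_one] at h1
    rw [h1]; exact Subgroup.one_mem _

/-! ### Transfer along a surjection with `p'`-kernel -/

section transfer

variable [Finite G] (p : ℕ) [hp : Fact p.Prime] (f : G →* G') (hf : Function.Surjective f)
  (hker : (Nat.card f.ker).Coprime p)

include hf hker

theorem comap_pPrimeCore : (pPrimeCore p G').comap f = pPrimeCore p G := by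
  haveI : Finite G' := Finite.of_surjective f hf
  apply le_antisymm
  · haveI : ((pPrimeCore p G').comap f).Normal := Subgroup.Normal.comap (pPrimeCore_normal p G') f
    apply Helper55.le_pPrimeCore
    -- card of comap = card ker * card
    have hcard : Nat.card ((pPrimeCore p G').comap f) = Nat.card f.ker * Nat.card (pPrimeCore p G') := by
      have h1 : f.ker ≤ (pPrimeCore p G').comap f := Subgroup.ker_le_comap f _
      rw [← Helper55.card_mul_relIndex_eq h1]
      congr 1
      rw [Subgroup.relIndex_ker, Subgroup.map_comap_eq_self_of_surjective hf]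
    rw [hcard]
    exact Nat.Coprime.mul_left hker (Helper55.pPrimeCore_card_coprime p)
  · rw [← Subgroup.map_le_iff_le_comap]
    haveI : ((pPrimeCore p G).map f).Normal := Subgroup.Normal.map (pPrimeCore_normal p G) f hf
    apply Helper55.le_pPrimeCore
    have hdvd : Nat.card ((pPrimeCore p G).map f) ∣ Nat.card (pPrimeCore p G) :=
      Subgroup.card_map_dvd (pPrimeCore p G) f
    exact Nat.Coprime.coprime_dvd_left hdvd (Helper55.pPrimeCore_card_coprime p)

theorem ker_le_pPrimeCore : f.ker ≤ pPrimeCore p G := by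
  rw [← comap_pPrimeCore p f hf hker]
  exact Subgroup.ker_le_comap f _

theorem map_pPrimeCore : (pPrimeCore p G).map f = pPrimeCore p G' := by
  rw [← comap_pPrimeCore p f hf hker, Subgroup.map_comap_eq_self_of_surjective hf]

theorem comap_pPrimePCore : (pPrimePCore p G').comap f = pPrimePCore p G := by
  apply le_antisymm
  · haveI : ((pPrimePCore p G').comap f).Normal :=
      Subgroup.Normal.comap (pPrimePCore_normal' p) f
    apply le_pPrimePCore_of_forall_pow_mem
    intro m hm
    rw [Subgroup.mem_comap] at hm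
    obtain ⟨j, hj⟩ := exists_pow_mem_pPrimeCore p hm
    refine ⟨j, ?_⟩
    rw [← comap_pPrimeCore p f hf hker, Subgroup.mem_comap, map_pow]
    exact hj
  · rw [← Subgroup.map_le_iff_le_comap]
    haveI : ((pPrimePCore p G).map f).Normal := Subgroup.Normal.map (pPrimePCore_normal' p) f hf
    apply le_pPrimePCore_of_forall_pow_mem
    rintro _ ⟨m, hm, rfl⟩
    obtain ⟨j, hj⟩ := exists_pow_mem_pPrimeCore p hm
    refine ⟨j, ?_⟩
    rw [← map_pow, ← map_pPrimeCore p f hf hker]
    exact Subgroup.mem_map_of_mem f hj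

theorem map_pPrimePCore : (pPrimePCore p G).map f = pPrimePCore p G' := by
  rw [← comap_pPrimePCore p f hf hker, Subgroup.map_comap_eq_self_of_surjective hf]

end transfer

end Cfsg.Agent.Lib.Helper54
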