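import Mathlib
import Cfsg.Prelude.Def_Local
import Cfsg.Agent.Lib.Helper55.Cores
import Cfsg.Agent.Lib.Helper54.PConstr1

set_option autoImplicit false
set_option linter.style.haveILetI false
set_option linter.unusedSectionVars false

namespace Cfsg.Agent.Lib.Helper54

open Cfsg

variable {G : Type*} [Group G] {G' : Type*} [Group G']

/-- Sylow conjugacy inside `K₀ Q`: if `g Q g⁻¹ ≤ K₀ Q` with `K₀` a normal `p'`-subgroup and `Q` a
`p`-subgroup then `k⁻¹ g` normalizes `Q` for some `k ∈ K₀`. -/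
theorem exists_mem_normalizer_of_conj_le_sup [Finite G] (p : ℕ) [Fact p.Prime] (K₀ : Subgroup G)
    [hK₀n : K₀.Normal] (hK₀ : (Nat.card K₀).Coprime p) (Q : Subgroup G) (hQ : IsPGroup p Q) (g : G)
    (hg : ∀ u ∈ Q, g * u * g⁻¹ ∈ K₀ ⊔ Q) :
    ∃ k ∈ K₀, k⁻¹ * g ∈ Subgroup.normalizer (Q : Set G) := by
  classical
  obtain ⟨H, hH⟩ : ∃ H, H = K₀ ⊔ Q := ⟨_, rfl⟩
  have hQH : Q ≤ H := hH ▸ le_sup_right
  obtain ⟨Q', hQ'⟩ : ∃ Q', Q' = Q.map (MulAut.conj g).toMonoidHom := ⟨_, rfl⟩
  have hQ'H : Q' ≤ H := by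
    rw [hQ', hH]; rintro _ ⟨u, hu, rfl⟩; exact hg u hu
  have hQ'p : IsPGroup p Q' := hQ' ▸ hQ.map _
  have hidx : ¬ p ∣ (Q.subgroupOf H).index := by
    have h1 : Nat.card Q * Q.relIndex H = Nat.card H := Helper55.card_mul_relIndex_eq hQH
    have h2 : Nat.card H ∣ Nat.card Q * Nat.card K₀ := by
      rw [hH, sup_comm]; exact Helper55.card_sup_dvd_mul Q K₀
    rw [← h1] at h2
    have h3 : Q.relIndex H ∣ Nat.card K₀ :=
      Nat.dvd_of_mul_dvd_mul_left Nat.card_pos h2
    intro hdvd
    have h4 : p ∣ Nat.card K₀ := hdvd.trans h3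
    have h5 := Nat.Coprime.eq_one_of_dvd hK₀.symm h4
    exact (Fact.out : p.Prime).one_lt.ne' h5
  let QS : Sylow p H := (hQ.comap_subtype : IsPGroup p (Q.subgroupOf H)).toSylow hidx
  obtain ⟨PS, hPS⟩ := (hQ'p.comap_subtype : IsPGroup p (Q'.subgroupOf H)).exists_le_sylow
  obtain ⟨h, hh⟩ := MulAction.exists_smul_eq H QS PS
  have key : ∀ u ∈ Q, (h : G)⁻¹ * (g * u * g⁻¹) * (h : G) ∈ Q := by
    intro u hu
    have hmemH : g * u * g⁻¹ ∈ H := hQ'H (by rw [hQ']; exact ⟨u, hu, rfl⟩)
    have h1 : (⟨g * u * g⁻¹, hmemH⟩ : H) ∈ (PS : Subgroup H) := by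
      apply hPS
      rw [Subgroup.mem_comap, hQ']
      exact ⟨u, hu, rfl⟩
    rw [← hh, Sylow.coe_subgroup_smul, Subgroup.mem_pointwise_smul_iff_inv_smul_mem] at h1
    have h1' : h⁻¹ * (⟨g * u * g⁻¹, hmemH⟩ : H) * h ∈ (QS : Subgroup H) := by
      have := h1
      rw [MulAut.smul_def, MulAut.conj_inv_apply] at this
      exact this
    have h2 : h⁻¹ * (⟨g * u * g⁻¹, hmemH⟩ : H) * h ∈ Q.subgroupOf H := by
      have : ((QS : Sylow p H) : Subgroup H) = Q.subgroupOf H := IsPGroup.toSylow_coe _ _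
      rw [← this]; exact h1'
    rw [Subgroup.mem_subgroupOf] at h2
    exact h2
  have hhH : (h : G) ∈ K₀ ⊔ Q := hH ▸ h.2
  obtain ⟨k, hk, q, hq, hkq⟩ := Subgroup.mem_sup_of_normal_left.mp hhH
  refine ⟨k, hk, ?_⟩
  apply Subgroup.mem_normalizer_fintype
  intro u hu
  have h1 := key u hu
  have h2 : k⁻¹ * g * u * (k⁻¹ * g)⁻¹ = q * ((h : G)⁻¹ * (g * u * g⁻¹) * (h : G)) * q⁻¹ := by
    rw [← hkq]; group
  rw [h2]
  exact Q.mul_mem (Q.mul_mem hq h1) (Q.inv_mem hq)


/-- using `p`-constraint with a subgroup of `G` that is a Sylow `p`-subgroup of `O_{p',p}(G)` -/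
theorem IsPConstrained.centralizer_le [Finite G] {p : ℕ} [Fact p.Prime] (h : IsPConstrained p G)
    (P : Subgroup G) (hPL : P ≤ pPrimePCore p G) (hP : IsPGroup p P)
    (hidx : ¬ p ∣ P.relIndex (pPrimePCore p G)) :
    Subgroup.centralizer (P : Set G) ≤ pPrimePCore p G := by
  have hP' : IsPGroup p (P.subgroupOf (pPrimePCore p G)) := hP.comap_subtype
  have hidx' : ¬ p ∣ (P.subgroupOf (pPrimePCore p G)).index := hidx
  have h1 := h (hP'.toSylow hidx')
  have h2 : ((hP'.toSylow hidx' : Sylow p (pPrimePCore p G)) :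
      Subgroup (pPrimePCore p G)).map (pPrimePCore p G).subtype = P := by
    rw [IsPGroup.toSylow_coe, Subgroup.subgroupOf_map_subtype]
    exact inf_eq_left.mpr hPL
  rw [h2] at h1
  exact h1

/-- if one Sylow `p`-subgroup of a normal subgroup `M` has its centralizer inside `M`, so do all -/
theorem centralizer_sylow_le_of_exists [Finite G] {p : ℕ} [Fact p.Prime] (M : Subgroup G)
    [hM : M.Normal] (P₀ : Sylow p M)
    (h : Subgroup.centralizer (((P₀ : Subgroup M).map M.subtype : Subgroup G) : Set G) ≤ M)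
    (P₁ : Sylow p M) :
    Subgroup.centralizer (((P₁ : Subgroup M).map M.subtype : Subgroup G) : Set G) ≤ M := by
  obtain ⟨l, hl⟩ := MulAction.exists_smul_eq M P₀ P₁
  intro c hc
  rw [Subgroup.mem_centralizer_iff] at hc
  have h1 : (l : G)⁻¹ * c * (l : G) ∈ Subgroup.centralizer
      (((P₀ : Subgroup M).map M.subtype : Subgroup G) : Set G) := by
    rw [Subgroup.mem_centralizer_iff]
    rintro _ ⟨u, hu, rfl⟩
    have hmem : l * u * l⁻¹ ∈ (P₁ : Subgroup M) := by
      rw [← hl, Sylow.coe_subgroup_smul, Subgroup.mem_pointwise_smul_iff_inv_smul_mem,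
        MulAut.smul_def, MulAut.conj_inv_apply]
      have : l⁻¹ * (l * u * l⁻¹) * l = u := by group
      rw [this]; exact hu
    have h2 := hc ((l : G) * (u : G) * (l : G)⁻¹) ⟨l * u * l⁻¹, hmem, rfl⟩
    have e1 : M.subtype u * ((l : G)⁻¹ * c * (l : G)) =
        (l : G)⁻¹ * ((l : G) * (u : G) * (l : G)⁻¹ * c) * (l : G) := by
      simp only [Subgroup.coe_subtype]; group
    have e2 : (l : G)⁻¹ * c * (l : G) * M.subtype u =
        (l : G)⁻¹ * (c * ((l : G) * (u : G) * (l : G)⁻¹)) * (l : G) := by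
      simp only [Subgroup.coe_subtype]; group
    rw [e1, e2, h2]
  have h3 := h h1
  have h4 : c = (l : G) * ((l : G)⁻¹ * c * (l : G)) * (l : G)⁻¹ := by group
  rw [h4]
  exact hM.conj_mem _ h3 _

theorem isPConstrained_of_exists [Finite G] {p : ℕ} [Fact p.Prime]
    (P₀ : Sylow p (pPrimePCore p G))
    (h : Subgroup.centralizer (((P₀ : Subgroup (pPrimePCore p G)).map
      (pPrimePCore p G).subtype : Subgroup G) : Set G) ≤ pPrimePCore p G) :
    IsPConstrained p G := by
  haveI := pPrimePCore_normal' (G := G) p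
  intro P₁
  exact centralizer_sylow_le_of_exists _ P₀ h P₁


section transfer

variable [Finite G] (p : ℕ) [hp : Fact p.Prime] (f : G →* G') (hf : Function.Surjective f)
  (hker : (Nat.card f.ker).Coprime p)

include hf hker

/-- `p`-constraint lifts along a surjection with `p'`-kernel -/
theorem isPConstrained_of_map (h' : IsPConstrained p G') : IsPConstrained p G := by
  haveI : Finite G' := Finite.of_surjective f hf
  intro P₀
  have key : ∀ (L' : Subgroup G') (_ : (pPrimePCore p G).map f = L'),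
      (∀ P : Sylow p L', Subgroup.centralizer (((P : Subgroup L').map L'.subtype : Subgroup G') :
        Set G') ≤ L') →
      Subgroup.centralizer (((P₀ : Subgroup (pPrimePCore p G)).map
        (pPrimePCore p G).subtype : Subgroup G) : Set G) ≤ pPrimePCore p G := by
    intro L' hL' hall
    subst hL'
    have h1 := hall (P₀.mapSurjective (f.subgroupMap_surjective _))
    intro c hc
    rw [Subgroup.mem_centralizer_iff] at hc
    have h2 : f c ∈ Subgroup.centralizer ((((P₀.mapSurjective (f.subgroupMap_surjective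
        (pPrimePCore p G)) : Sylow p ((pPrimePCore p G).map f)) :
        Subgroup ((pPrimePCore p G).map f)).map ((pPrimePCore p G).map f).subtype :
        Subgroup G') : Set G') := by
      rw [Subgroup.mem_centralizer_iff]
      rintro _ ⟨y, hy, rfl⟩
      rw [SetLike.mem_coe, Sylow.coe_mapSurjective] at hy
      obtain ⟨u, hu, rfl⟩ := hy
      have h3 := hc (u : G) ⟨u, hu, rfl⟩
      change f (u : G) * f c = f c * f (u : G)
      rw [← map_mul, ← map_mul, h3]
    have h3 := h1 h2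
    rw [← comap_pPrimePCore p f hf hker, Subgroup.mem_comap, ← map_pPrimePCore p f hf hker]
    exact h3
  exact key _ (map_pPrimePCore p f hf hker) h'

/-- `p`-constraint descends along a surjection with `p'`-kernel -/
theorem isPConstrained_map (h : IsPConstrained p G) : IsPConstrained p G' := by
  haveI : Finite G' := Finite.of_surjective f hf
  have key : ∀ (L' : Subgroup G') (_ : (pPrimePCore p G).map f = L'),
      (∀ P : Sylow p L', Subgroup.centralizer (((P : Subgroup L').map L'.subtype : Subgroup G') :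
        Set G') ≤ L') := by
    intro L' hL'
    subst hL'
    haveI hLn : ((pPrimePCore p G).map f).Normal :=
      Subgroup.Normal.map (pPrimePCore_normal' p) f hf
    obtain ⟨P₀⟩ : Nonempty (Sylow p (pPrimePCore p G)) := inferInstance
    apply centralizer_sylow_le_of_exists _ (P₀.mapSurjective (f.subgroupMap_surjective _))
    intro c' hc'
    rw [Subgroup.mem_centralizer_iff] at hc'
    obtain ⟨c, rfl⟩ := hf c'
    obtain ⟨P, hPdef⟩ : ∃ P : Subgroup G, P = (P₀ : Subgroup (pPrimePCore p G)).map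
      (pPrimePCore p G).subtype := ⟨_, rfl⟩
    have hPp : IsPGroup p P := hPdef ▸ P₀.2.map _
    have hcomm : ∀ u ∈ P, f u * f c = f c * f u := by
      intro u hu
      rw [hPdef] at hu
      obtain ⟨v, hv, rfl⟩ := hu
      apply hc'
      refine ⟨f.subgroupMap _ v, ?_, rfl⟩
      rw [SetLike.mem_coe, Sylow.coe_mapSurjective]
      exact ⟨v, hv, rfl⟩
    haveI : f.ker.Normal := MonoidHom.normal_ker f
    have hg : ∀ u ∈ P, c * u * c⁻¹ ∈ f.ker ⊔ P := by
      intro u hu
      have h1 : c * u * c⁻¹ * u⁻¹ ∈ f.ker := by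
        rw [MonoidHom.mem_ker, map_mul, map_mul, map_mul, map_inv, map_inv, ← hcomm u hu]
        group
      have h2 : c * u * c⁻¹ = (c * u * c⁻¹ * u⁻¹) * u := by group
      rw [h2]
      exact Subgroup.mul_mem_sup h1 hu
    obtain ⟨k, hk, hd⟩ := exists_mem_normalizer_of_conj_le_sup p f.ker hker P hPp c hg
    have hdis : P ⊓ f.ker = ⊥ := by
      apply disjoint_iff.mp
      apply Subgroup.disjoint_of_coprime_natCard
      obtain ⟨j, hj⟩ := IsPGroup.iff_card.mp hPp
      rw [hj]
      exact Nat.Coprime.pow_left j hker.symm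
    have hdc : k⁻¹ * c ∈ Subgroup.centralizer (P : Set G) := by
      rw [Subgroup.mem_centralizer_iff]
      intro u hu
      have h1 : (k⁻¹ * c) * u * (k⁻¹ * c)⁻¹ ∈ P := (Subgroup.mem_normalizer_iff.mp hd u).mp hu
      have h2 : (k⁻¹ * c) * u * (k⁻¹ * c)⁻¹ * u⁻¹ ∈ f.ker := by
        rw [MonoidHom.mem_ker] at hk ⊢
        simp only [map_mul, map_inv, hk, inv_one, one_mul]
        rw [← hcomm u hu]
        group
      have h3 : (k⁻¹ * c) * u * (k⁻¹ * c)⁻¹ * u⁻¹ ∈ P ⊓ f.ker := ⟨P.mul_mem h1 (P.inv_mem hu), h2⟩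
      rw [hdis, Subgroup.mem_bot] at h3
      calc u * (k⁻¹ * c) = ((k⁻¹ * c) * u * (k⁻¹ * c)⁻¹ * u⁻¹)⁻¹ * ((k⁻¹ * c) * u) := by group
        _ = (k⁻¹ * c) * u := by rw [h3, inv_one, one_mul]
    have hdL : k⁻¹ * c ∈ pPrimePCore p G := by
      have := h P₀
      rw [← hPdef] at this
      exact this hdc
    have hkL : k ∈ pPrimePCore p G :=
      pPrimeCore_le_pPrimePCore p (ker_le_pPrimeCore p f hf hker hk)
    have hcL : c ∈ pPrimePCore p G := by
      have : c = k * (k⁻¹ * c) := by group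
      rw [this]
      exact Subgroup.mul_mem _ hkL hdL
    exact Subgroup.mem_map_of_mem f hcL
  exact key _ (map_pPrimePCore p f hf hker)

theorem isPConstrained_iff_of_surjective : IsPConstrained p G ↔ IsPConstrained p G' :=
  ⟨isPConstrained_map p f hf hker, isPConstrained_of_map p f hf hker⟩

end transfer

/-- `p`-constraint is invariant under isomorphism -/
theorem isPConstrained_of_mulEquiv [Finite G] (p : ℕ) [Fact p.Prime] (e : G ≃* G')
    (h : IsPConstrained p G) : IsPConstrained p G' := by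
  apply isPConstrained_map p e.toMonoidHom e.surjective _ h
  have : e.toMonoidHom.ker = ⊥ := (MonoidHom.ker_eq_bot_iff _).mpr e.injective
  rw [this, Subgroup.card_bot]
  exact Nat.coprime_one_left p

end Cfsg.Agent.Lib.Helper54
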