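import Mathlib
import Cfsg.Prelude.Def_Local
import Cfsg.Agent.Lib.Helper55.Cores
import Cfsg.Agent.Lib.Helper24.PxQ
import Cfsg.Agent.Lib.Helper54.PConstr2

set_option autoImplicit false
set_option linter.style.haveILetI false
set_option linter.unusedSectionVars false

namespace Cfsg.Agent.Lib.Helper54

open Cfsg

variable {G : Type*} [Group G] {G' : Type*} [Group G']

/-- trivial `p'`-core and self-centralizing `p`-core imply `p`-constraint -/
theorem isPConstrained_of_charP [Finite G] (p : ℕ) [Fact p.Prime] (h0 : pPrimeCore p G = ⊥)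
    (hc : Subgroup.centralizer (pCore p G : Set G) ≤ pCore p G) : IsPConstrained p G := by
  have hL : pPrimePCore p G = pCore p G := pPrimePCore_eq_pCore_of_pPrimeCore_eq_bot p h0
  intro P₀
  have hLp : IsPGroup p (pPrimePCore p G) := hL ▸ Helper55.pCore_isPGroup p
  have htop : (⊤ : Subgroup (pPrimePCore p G)) = P₀ :=
    P₀.3 (hLp.to_subgroup ⊤) le_top
  have h1 : ((P₀ : Subgroup (pPrimePCore p G)).map (pPrimePCore p G).subtype : Subgroup G) =
      pPrimePCore p G := by
    rw [← htop, ← MonoidHom.range_eq_map, Subgroup.range_subtype]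
  rw [h1, hL]
  exact hc

/-- `p`-constraint with trivial `p'`-core gives a self-centralizing `p`-core -/
theorem charP_of_isPConstrained [Finite G] (p : ℕ) [Fact p.Prime] (h0 : pPrimeCore p G = ⊥)
    (h : IsPConstrained p G) : Subgroup.centralizer (pCore p G : Set G) ≤ pCore p G := by
  have hL : pPrimePCore p G = pCore p G := pPrimePCore_eq_pCore_of_pPrimeCore_eq_bot p h0
  have h1 := IsPConstrained.centralizer_le h (pPrimePCore p G) le_rfl
    (hL ▸ Helper55.pCore_isPGroup p) (by
      rw [Subgroup.relIndex_self]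
      exact (Fact.out : p.Prime).not_dvd_one)
  rw [hL] at h1
  exact h1

/-- Frattini-type argument: normalizers of `p`-subgroups map onto normalizers modulo a normal
`p'`-subgroup. -/
theorem exists_mem_normalizer_map_eq [Finite G] (p : ℕ) [Fact p.Prime] (f : G →* G')
    (hf : Function.Surjective f) (hker : (Nat.card f.ker).Coprime p) (Q : Subgroup G)
    (hQ : IsPGroup p Q) (n' : G') (hn' : n' ∈ Subgroup.normalizer ((Q.map f : Subgroup G') : Set G')) :
    ∃ n ∈ Subgroup.normalizer (Q : Set G), f n = n' := by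
  obtain ⟨g, rfl⟩ := hf n'
  haveI : f.ker.Normal := MonoidHom.normal_ker f
  have hg : ∀ u ∈ Q, g * u * g⁻¹ ∈ f.ker ⊔ Q := by
    intro u hu
    have h1 : f g * f u * (f g)⁻¹ ∈ Q.map f :=
      (Subgroup.mem_normalizer_iff.mp hn' (f u)).mp (Subgroup.mem_map_of_mem f hu)
    obtain ⟨v, hv, hfv⟩ := h1
    have h2 : g * u * g⁻¹ * v⁻¹ ∈ f.ker := by
      rw [MonoidHom.mem_ker, map_mul, map_mul, map_mul, map_inv, map_inv, hfv]
      group
    have h3 : g * u * g⁻¹ = (g * u * g⁻¹ * v⁻¹) * v := by group
    rw [h3]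
    exact Subgroup.mul_mem_sup h2 hv
  obtain ⟨k, hk, hd⟩ := exists_mem_normalizer_of_conj_le_sup p f.ker hker Q hQ g hg
  refine ⟨k⁻¹ * g, hd, ?_⟩
  rw [MonoidHom.mem_ker] at hk
  rw [map_mul, map_inv, hk, inv_one, one_mul]


/-- a finite group all of whose `p'`-elements are trivial is a `p`-group -/
theorem isPGroup_of_forall_coprime_eq_one {X : Type*} [Group X] [Finite X] (p : ℕ)
    [Fact p.Prime] (W : Subgroup X)
    (h : ∀ w ∈ W, (orderOf w).Coprime p → w = 1) : IsPGroup p W := by
  intro ⟨w, hw⟩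
  have hpos : orderOf w ≠ 0 := (orderOf_pos w).ne'
  obtain ⟨j, m, hm, hjm⟩ := Nat.exists_eq_pow_mul_and_not_dvd hpos p (Fact.out : p.Prime).ne_one
  refine ⟨j, ?_⟩
  apply Subtype.ext
  simp only [Subgroup.coe_pow, Subgroup.coe_one]
  apply h _ (W.pow_mem hw _)
  have h1 : orderOf (w ^ p ^ j) = m := by
    rw [orderOf_pow' w (pow_ne_zero j (Fact.out : p.Prime).ne_zero), hjm]
    have : Nat.gcd (p ^ j * m) (p ^ j) = p ^ j := Nat.gcd_eq_right (dvd_mul_right _ _)
    rw [this]
    exact Nat.mul_div_cancel_left m (pow_pos (Fact.out : p.Prime).pos j)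
  rw [h1]
  exact ((Nat.Prime.coprime_iff_not_dvd (Fact.out : p.Prime)).mpr hm).symm


section normalizer

variable {Y : Type*} [Group Y] [Finite Y] (p : ℕ) [hp : Fact p.Prime]
  (h0 : pPrimeCore p Y = ⊥)
  (hc : Subgroup.centralizer (pCore p Y : Set Y) ≤ pCore p Y)
  (Q : Subgroup Y) (hQ : IsPGroup p Q)

include h0 hc hQ

/-- a `p'`-subgroup centralizing `Q` and `C_R(Q)` is trivial -/
theorem eq_bot_of_centralizes (A : Subgroup Y) (hA : (Nat.card A).Coprime p)
    (hAQ : Q ≤ Subgroup.centralizer (A : Set Y))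
    (hAC : pCore p Y ⊓ Subgroup.centralizer (Q : Set Y) ≤ Subgroup.centralizer (A : Set Y)) :
    A = ⊥ := by
  haveI : (pCore p Y).Normal := Helper55.pCore_normal' p
  have hRp : IsPGroup p (pCore p Y) := Helper55.pCore_isPGroup p
  have h1 : A ≤ Subgroup.centralizer (pCore p Y : Set Y) :=
    Helper24.thompson_PxQ Q A (pCore p Y) hQ hA hRp hAQ
      (by rw [Subgroup.normalizer_eq_top]; exact le_top)
      (by rw [Subgroup.normalizer_eq_top]; exact le_top) hAC
  have h2 : A ≤ pCore p Y := h1.trans hc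
  have hAp : IsPGroup p A := hRp.to_le h2
  obtain ⟨j, hj⟩ := IsPGroup.iff_card.mp hAp
  have h3 : Nat.card A = 1 := by
    rw [hj] at hA ⊢
    rcases Nat.eq_zero_or_pos j with h | h
    · rw [h, pow_zero]
    · exfalso
      have := (Nat.coprime_pow_left_iff h p p).mp hA
      rw [Nat.coprime_self] at this
      exact (Fact.out : p.Prime).one_lt.ne' this
  exact Subgroup.card_eq_one.mp h3

theorem pPrimeCore_normalizer_eq_bot :
    pPrimeCore p (Subgroup.normalizer (Q : Set Y)) = ⊥ := by
  obtain ⟨N, hN⟩ : ∃ N, N = Subgroup.normalizer (Q : Set Y) := ⟨_, rfl⟩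
  rw [← hN]
  haveI : (pCore p Y).Normal := Helper55.pCore_normal' p
  have hRp : IsPGroup p (pCore p Y) := Helper55.pCore_isPGroup p
  obtain ⟨KN, hKN⟩ : ∃ KN, KN = pPrimeCore p N := ⟨_, rfl⟩
  rw [← hKN]
  haveI hKNn : KN.Normal := hKN ▸ Helper55.pPrimeCore_normal' p
  have hKNc : (Nat.card KN).Coprime p := hKN ▸ Helper55.pPrimeCore_card_coprime p
  have hQN : Q ≤ N := hN ▸ Subgroup.le_normalizer
  haveI hQNn : (Q.subgroupOf N).Normal := by
    subst hN; exact Subgroup.normal_in_normalizer
  have hQNp : IsPGroup p (Q.subgroupOf N) := hQ.comap_subtype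
  -- the normal p-subgroup C_R(Q) of N
  haveI hRNn : ((pCore p Y).subgroupOf N).Normal := Subgroup.Normal.subgroupOf inferInstance N
  haveI hCNn : ((Subgroup.centralizer (Q : Set Y)).subgroupOf N).Normal := by
    subst hN; exact Subgroup.normal_subgroupOf_centralizer_normalizer _
  have hdisj : ∀ (M : Subgroup N), IsPGroup p M → Disjoint KN M := by
    intro M hM
    apply Subgroup.disjoint_of_coprime_natCard
    obtain ⟨j, hj⟩ := IsPGroup.iff_card.mp hM
    rw [hj]
    exact Nat.Coprime.pow_right j hKNc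
  have hcard : Nat.card (KN.map N.subtype) = Nat.card KN :=
    Nat.card_congr (Subgroup.equivMapOfInjective KN N.subtype N.subtype_injective).symm.toEquiv
  have hbot : KN.map N.subtype = ⊥ := by
    apply eq_bot_of_centralizes p h0 hc Q hQ
    · rw [hcard]; exact hKNc
    · intro q hq
      rw [Subgroup.mem_centralizer_iff]
      rintro _ ⟨k, hk, rfl⟩
      have := Subgroup.commute_of_normal_of_disjoint KN (Q.subgroupOf N) hKNn hQNn
        (hdisj _ hQNp) k ⟨q, hQN hq⟩ hk (by rw [Subgroup.mem_subgroupOf]; exact hq)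
      exact congrArg Subtype.val this.eq
    · intro r hr
      rw [Subgroup.mem_centralizer_iff]
      rintro _ ⟨k, hk, rfl⟩
      have hrN : r ∈ N := by
        rw [hN]; exact Subgroup.centralizer_le_normalizer _ hr.2
      have hMp : IsPGroup p ((pCore p Y).subgroupOf N ⊓
          (Subgroup.centralizer (Q : Set Y)).subgroupOf N : Subgroup N) :=
        (hRp.comap_subtype : IsPGroup p ((pCore p Y).subgroupOf N)).to_le inf_le_left
      have := Subgroup.commute_of_normal_of_disjoint KN _ hKNn
        (Subgroup.normal_inf_normal _ _) (hdisj _ hMp) k ⟨r, hrN⟩ hk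
        (Subgroup.mem_inf.mpr ⟨Subgroup.mem_subgroupOf.mpr hr.1, Subgroup.mem_subgroupOf.mpr hr.2⟩)
      exact congrArg Subtype.val this.eq
  rw [eq_bot_iff]
  intro k hk
  have : (k : Y) ∈ KN.map N.subtype := ⟨k, hk, rfl⟩
  rw [hbot, Subgroup.mem_bot] at this
  rw [Subgroup.mem_bot]
  exact Subtype.ext this


theorem centralizer_pCore_normalizer_le :
    Subgroup.centralizer (pCore p (Subgroup.normalizer (Q : Set Y)) :
      Set (Subgroup.normalizer (Q : Set Y))) ≤ pCore p (Subgroup.normalizer (Q : Set Y)) := by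
  obtain ⟨N, hN⟩ : ∃ N, N = Subgroup.normalizer (Q : Set Y) := ⟨_, rfl⟩
  rw [← hN]
  haveI : (pCore p Y).Normal := Helper55.pCore_normal' p
  have hRp : IsPGroup p (pCore p Y) := Helper55.pCore_isPGroup p
  obtain ⟨P₁, hP₁⟩ : ∃ P₁, P₁ = pCore p N := ⟨_, rfl⟩
  rw [← hP₁]
  haveI hP₁n : P₁.Normal := hP₁ ▸ Helper55.pCore_normal' p
  have hQN : Q ≤ N := hN ▸ Subgroup.le_normalizer
  haveI hQNn : (Q.subgroupOf N).Normal := by
    subst hN; exact Subgroup.normal_in_normalizer
  have hQNp : IsPGroup p (Q.subgroupOf N) := hQ.comap_subtype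
  have hQP₁ : Q.subgroupOf N ≤ P₁ := hP₁ ▸ Helper55.le_pCore p _ hQNp
  haveI hRNn : ((pCore p Y).subgroupOf N).Normal := Subgroup.Normal.subgroupOf inferInstance N
  have hRP₁ : (pCore p Y).subgroupOf N ≤ P₁ :=
    hP₁ ▸ Helper55.le_pCore p _ (hRp.comap_subtype)
  obtain ⟨W, hW⟩ : ∃ W, W = Subgroup.centralizer (P₁ : Set N) := ⟨_, rfl⟩
  rw [← hW]
  haveI hWn : W.Normal := hW ▸ Subgroup.normal_centralizer
  have hWp : IsPGroup p W := by
    apply isPGroup_of_forall_coprime_eq_one
    intro w hw hcop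
    rw [hW, Subgroup.mem_centralizer_iff] at hw
    have hbot : Subgroup.zpowers (w : Y) = ⊥ := by
      apply eq_bot_of_centralizes p h0 hc Q hQ
      · rw [Nat.card_zpowers, Subgroup.orderOf_coe]; exact hcop
      · intro q hq
        rw [Subgroup.mem_centralizer_iff]
        intro a ha
        rw [SetLike.mem_coe, Subgroup.mem_zpowers_iff] at ha
        obtain ⟨n, rfl⟩ := ha
        have h1 := hw ⟨q, hQN hq⟩ (hQP₁ (Subgroup.mem_subgroupOf.mpr hq))
        have h2 : q * (w : Y) = (w : Y) * q := congrArg Subtype.val h1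
        exact ((Commute.zpow_right (show Commute q (w : Y) from h2) n).eq).symm
      · intro r hr
        rw [Subgroup.mem_centralizer_iff]
        intro a ha
        rw [SetLike.mem_coe, Subgroup.mem_zpowers_iff] at ha
        obtain ⟨n, rfl⟩ := ha
        have hrN : r ∈ N := by
          rw [hN]; exact Subgroup.centralizer_le_normalizer _ hr.2
        have h1 := hw ⟨r, hrN⟩ (hRP₁ (Subgroup.mem_subgroupOf.mpr hr.1))
        have h2 : r * (w : Y) = (w : Y) * r := congrArg Subtype.val h1
        exact ((Commute.zpow_right (show Commute r (w : Y) from h2) n).eq).symm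
    have : (w : Y) ∈ Subgroup.zpowers (w : Y) := Subgroup.mem_zpowers _
    rw [hbot, Subgroup.mem_bot] at this
    exact Subtype.ext this
  exact hP₁ ▸ Helper55.le_pCore p W hWp

/-- In a group of characteristic `p` (trivial `p'`-core, self-centralizing `p`-core) the normalizer
of a `p`-subgroup is `p`-constrained. -/
theorem isPConstrained_normalizer_of_charP :
    IsPConstrained p (Subgroup.normalizer (Q : Set Y)) :=
  isPConstrained_of_charP p (pPrimeCore_normalizer_eq_bot p h0 hc Q hQ)
    (centralizer_pCore_normalizer_le p h0 hc Q hQ)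

end normalizer

/-- **p-constraint is inherited by normalizers of p-subgroups.** -/
theorem isPConstrained_normalizer {H : Type*} [Group H] [Finite H] (p : ℕ) [Fact p.Prime]
    (h : IsPConstrained p H) (Q : Subgroup H) (hQ : IsPGroup p Q) :
    IsPConstrained p (Subgroup.normalizer (Q : Set H)) := by
  obtain ⟨K, hK⟩ : ∃ K, K = pPrimeCore p H := ⟨_, rfl⟩
  haveI hKn : K.Normal := hK ▸ Helper55.pPrimeCore_normal' p
  have hKc : (Nat.card K).Coprime p := hK ▸ Helper55.pPrimeCore_card_coprime p
  have hsurj : Function.Surjective (QuotientGroup.mk' K) := QuotientGroup.mk'_surjective K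
  have hker : (Nat.card (QuotientGroup.mk' K).ker).Coprime p := by
    rw [QuotientGroup.ker_mk']; exact hKc
  have h0 : pPrimeCore p (H ⧸ K) = ⊥ := by
    subst hK; exact Helper55.pPrimeCore_quotient_eq_bot p
  have hbar : IsPConstrained p (H ⧸ K) := isPConstrained_map p _ hsurj hker h
  have hc := charP_of_isPConstrained p h0 hbar
  have hQbar : IsPGroup p (Q.map (QuotientGroup.mk' K)) := hQ.map _
  have hN := isPConstrained_normalizer_of_charP p h0 hc _ hQbar
  -- the restriction of the quotient map to normalizers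
  let φ : Subgroup.normalizer (Q : Set H) →*
      Subgroup.normalizer ((Q.map (QuotientGroup.mk' K) : Subgroup (H ⧸ K)) : Set (H ⧸ K)) :=
    ((QuotientGroup.mk' K).comp (Subgroup.normalizer (Q : Set H)).subtype).codRestrict _ (by
      intro n
      exact Subgroup.le_normalizer_map _ ⟨n, n.2, rfl⟩)
  have hφsurj : Function.Surjective φ := by
    rintro ⟨n', hn'⟩
    obtain ⟨n, hn, hfn⟩ := exists_mem_normalizer_map_eq p _ hsurj hker Q hQ n' hn'
    exact ⟨⟨n, hn⟩, Subtype.ext hfn⟩
  have hφker : (Nat.card φ.ker).Coprime p := by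
    let ι : φ.ker →* K :=
      { toFun := fun x => ⟨((x : Subgroup.normalizer (Q : Set H)) : H), by
          have h1 : φ (x : Subgroup.normalizer (Q : Set H)) = 1 := x.2
          have h2 : (QuotientGroup.mk' K) ((x : Subgroup.normalizer (Q : Set H)) : H) = 1 :=
            congrArg Subtype.val h1
          rwa [QuotientGroup.mk'_apply, QuotientGroup.eq_one_iff] at h2⟩
        map_one' := rfl
        map_mul' := fun _ _ => rfl }
    have hι : Function.Injective ι := by
      intro x y hxy
      have : ((x : Subgroup.normalizer (Q : Set H)) : H) = ((y : Subgroup.normalizer (Q : Set H)) : H) :=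
        congrArg (fun z : K => (z : H)) hxy
      exact Subtype.ext (Subtype.ext this)
    exact Nat.Coprime.coprime_dvd_left (Subgroup.card_dvd_of_injective ι hι) hKc
  exact isPConstrained_of_map p φ hφsurj hφker hN

end Cfsg.Agent.Lib.Helper54
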