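import Mathlib
import Cfsg.Prelude.Def_Local
import Cfsg.Agent.Lib.Helper55.Cores
import Cfsg.Agent.Lib.Helper24.PxQ
import Cfsg.Agent.Lib.Helper24.Coprime
import Cfsg.Agent.Lib.Helper54.PConstr3

set_option autoImplicit false
set_option linter.style.haveILetI false
set_option linter.unusedSectionVars false

namespace Cfsg.Agent.Lib.Helper54

open Cfsg

theorem pCore_characteristic' (p : ℕ) (X : Type*) [Group X] : (pCore p X).Characteristic := by
  rw [Subgroup.characteristic_iff_map_le]
  intro φ
  rw [Subgroup.map_le_iff_le_comap]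
  unfold Cfsg.pCore
  apply sSup_le
  intro N hN
  rw [← Subgroup.map_le_iff_le_comap]
  apply le_sSup
  exact ⟨Subgroup.Normal.map hN.1 _ φ.surjective, hN.2.map _⟩

theorem pPrimeCore_characteristic' (p : ℕ) (X : Type*) [Group X] :
    (pPrimeCore p X).Characteristic := by
  rw [Subgroup.characteristic_iff_map_le]
  intro φ
  rw [Subgroup.map_le_iff_le_comap]
  unfold Cfsg.pPrimeCore
  apply sSup_le
  intro N hN
  rw [← Subgroup.map_le_iff_le_comap]
  apply le_sSup
  refine ⟨Subgroup.Normal.map hN.1 _ φ.surjective, ?_⟩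
  have : Nat.card ↥(N.map φ.toMonoidHom) = Nat.card ↥N :=
    Nat.card_congr (N.equivMapOfInjective φ.toMonoidHom φ.injective).symm.toEquiv
  rw [this]; exact hN.2

/-- the `p`-core of a normal subgroup lies in the `p`-core -/
theorem map_pCore_le_of_normal {N : Type*} [Group N] (p : ℕ) (W : Subgroup N) [W.Normal] :
    (pCore p W).map W.subtype ≤ pCore p N := by
  haveI : (pCore p W).Characteristic := pCore_characteristic' p W
  haveI : ((pCore p W).map W.subtype).Normal := ConjAct.normal_of_characteristic_of_normal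
  exact Helper55.le_pCore p _ ((Helper55.pCore_isPGroup p).map _)

/-- the `p'`-core of a normal subgroup lies in the `p'`-core -/
theorem map_pPrimeCore_le_of_normal {N : Type*} [Group N] [Finite N] (p : ℕ) (W : Subgroup N)
    [W.Normal] : (pPrimeCore p W).map W.subtype ≤ pPrimeCore p N := by
  haveI : (pPrimeCore p W).Characteristic := pPrimeCore_characteristic' p W
  haveI : ((pPrimeCore p W).map W.subtype).Normal := ConjAct.normal_of_characteristic_of_normal
  apply Helper55.le_pPrimeCore p
  have : Nat.card ↥((pPrimeCore p W).map W.subtype) = Nat.card ↥(pPrimeCore p W) :=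
    Nat.card_congr ((pPrimeCore p W).equivMapOfInjective W.subtype
      W.subtype_injective).symm.toEquiv
  rw [this]
  exact Helper55.pPrimeCore_card_coprime p


/-- **Key step.** If `O_{p'}(N) = 1`, `x ∈ O_p(N)` and `C_N(x)` is `p`-constrained, then
`C_N(O_p(N)) ≤ O_p(N)`. -/
theorem centralizer_pCore_le_of_centralizer_isPConstrained {N : Type*} [Group N] [Finite N]
    (p : ℕ) [Fact p.Prime] (h0 : pPrimeCore p N = ⊥) (x : N) (hx : x ∈ pCore p N)
    (hX : IsPConstrained p (Subgroup.centralizer ({x} : Set N))) :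
    Subgroup.centralizer (pCore p N : Set N) ≤ pCore p N := by
  obtain ⟨R, hR⟩ : ∃ R, R = pCore p N := ⟨_, rfl⟩
  rw [← hR] at hx ⊢
  haveI hRn : R.Normal := hR ▸ Helper55.pCore_normal' p
  have hRp : IsPGroup p R := hR ▸ Helper55.pCore_isPGroup p
  obtain ⟨X, hXdef⟩ : ∃ X, X = Subgroup.centralizer ({x} : Set N) := ⟨_, rfl⟩
  rw [← hXdef] at hX
  have hmemX : ∀ y, y ∈ X ↔ x * y = y * x := by
    intro y
    rw [hXdef, Subgroup.mem_centralizer_iff]
    constructor
    · intro h; exact h x rfl
    · intro h z hz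
      rw [Set.mem_singleton_iff] at hz
      rw [hz]; exact h
  obtain ⟨W, hW⟩ : ∃ W, W = Subgroup.centralizer (R : Set N) := ⟨_, rfl⟩
  rw [← hW]
  haveI hWn : W.Normal := hW ▸ Subgroup.normal_centralizer
  have hmemW : ∀ w, w ∈ W ↔ ∀ r ∈ R, r * w = w * r := by
    intro w
    rw [hW, Subgroup.mem_centralizer_iff]
    rfl
  have hWX : W ≤ X := by
    intro w hw
    rw [hmemX]
    exact (hmemW w).mp hw x hx
  -- cores of `W`
  have hKW : pPrimeCore p W = ⊥ := by
    have h1 := map_pPrimeCore_le_of_normal p W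
    rw [h0, le_bot_iff] at h1
    exact (Subgroup.map_eq_bot_iff_of_injective _ W.subtype_injective).mp h1
  have hPW : (pCore p W).map W.subtype ≤ R := hR ▸ map_pCore_le_of_normal p W
  -- a subgroup of `N` normalized by `X`, contained in `W`, gives a normal subgroup of `W`
  have hsubW : ∀ (M : Subgroup N), (∀ g ∈ X, ∀ m ∈ M, g * m * g⁻¹ ∈ M) →
      (M.subgroupOf W).Normal := by
    intro M hM
    refine ⟨fun m hm w => ?_⟩
    rw [Subgroup.mem_subgroupOf] at hm ⊢
    exact hM w (hWX w.2) m hm
  -- the image of a normal subgroup of `X` is normalized by `X`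
  have hnormX : ∀ (M : Subgroup X), M.Normal →
      ∀ g ∈ X, ∀ m ∈ M.map X.subtype, g * m * g⁻¹ ∈ M.map X.subtype := by
    rintro M hM g hg _ ⟨m, hm, rfl⟩
    exact ⟨⟨g, hg⟩ * m * ⟨g, hg⟩⁻¹, hM.conj_mem m hm ⟨g, hg⟩, rfl⟩
  -- Step 1: `O_{p'}(X) = 1`
  obtain ⟨KX, hKX⟩ : ∃ KX, KX = pPrimeCore p X := ⟨_, rfl⟩
  haveI hKXn : KX.Normal := hKX ▸ Helper55.pPrimeCore_normal' p
  have hKXc : (Nat.card KX).Coprime p := hKX ▸ Helper55.pPrimeCore_card_coprime p
  have hKX'c : (Nat.card (KX.map X.subtype)).Coprime p := by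
    have : Nat.card ↥(KX.map X.subtype) = Nat.card ↥KX :=
      Nat.card_congr (KX.equivMapOfInjective X.subtype X.subtype_injective).symm.toEquiv
    rw [this]; exact hKXc
  have hxp : IsPGroup p (Subgroup.zpowers x) := hRp.to_le (Subgroup.zpowers_le.mpr hx)
  have hKXW : KX.map X.subtype ≤ W := by
    rw [hW]
    apply Helper24.thompson_PxQ (Subgroup.zpowers x) (KX.map X.subtype) R hxp hKX'c hRp
    · rw [Subgroup.zpowers_le, Subgroup.mem_centralizer_iff]
      rintro _ ⟨k, _, rfl⟩
      exact ((hmemX k).mp k.2).symm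
    · rw [Subgroup.normalizer_eq_top]; exact le_top
    · rw [Subgroup.normalizer_eq_top]; exact le_top
    · intro r hr
      rw [Subgroup.mem_centralizer_iff]
      rintro _ ⟨k, hk, rfl⟩
      have hrX : r ∈ X := by
        rw [hmemX]
        have hr2 : r ∈ Subgroup.centralizer ((Subgroup.zpowers x : Subgroup N) : Set N) := hr.2
        rw [Subgroup.mem_centralizer_iff] at hr2
        exact hr2 x (Subgroup.mem_zpowers x)
      haveI : (R.subgroupOf X).Normal := Subgroup.Normal.subgroupOf hRn X
      have hdisj : Disjoint KX (R.subgroupOf X) := by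
        apply Subgroup.disjoint_of_coprime_natCard
        have hRXp : IsPGroup p (R.subgroupOf X) := hRp.comap_subtype
        obtain ⟨j, hj⟩ := IsPGroup.iff_card.mp hRXp
        rw [hj]
        exact Nat.Coprime.pow_right j hKXc
      have := Subgroup.commute_of_normal_of_disjoint KX (R.subgroupOf X) hKXn inferInstance
        hdisj k ⟨r, hrX⟩ hk (Subgroup.mem_subgroupOf.mpr hr.1)
      exact congrArg Subtype.val this.eq
  have hKX0 : pPrimeCore p X = ⊥ := by
    rw [← hKX]
    haveI := hsubW (KX.map X.subtype) (hnormX KX hKXn)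
    have h1 : (KX.map X.subtype).subgroupOf W ≤ pPrimeCore p W := by
      apply Helper55.le_pPrimeCore p
      have : Nat.card ↥((KX.map X.subtype).subgroupOf W) = Nat.card ↥(KX.map X.subtype) :=
        Nat.card_congr (Subgroup.subgroupOfEquivOfLe hKXW).toEquiv
      rw [this]; exact hKX'c
    rw [hKW, le_bot_iff, Subgroup.subgroupOf_eq_bot] at h1
    have h2 : KX.map X.subtype = ⊥ := by
      rw [← le_bot_iff]
      intro k hk
      exact h1.le_bot ⟨hk, hKXW hk⟩
    exact (Subgroup.map_eq_bot_iff_of_injective _ X.subtype_injective).mp h2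
  -- Step 2: `X` has a self-centralizing `p`-core
  have hcX := charP_of_isPConstrained p hKX0 hX
  obtain ⟨PX, hPX⟩ : ∃ PX, PX = pCore p X := ⟨_, rfl⟩
  rw [← hPX] at hcX
  haveI hPXn : PX.Normal := hPX ▸ Helper55.pCore_normal' p
  have hPXp : IsPGroup p PX := hPX ▸ Helper55.pCore_isPGroup p
  obtain ⟨P', hP'⟩ : ∃ P', P' = PX.map X.subtype := ⟨_, rfl⟩
  have hP'p : IsPGroup p P' := hP' ▸ hPXp.map _
  have hP'X : ∀ g ∈ X, ∀ m ∈ P', g * m * g⁻¹ ∈ P' := hP' ▸ hnormX PX hPXn
  have hP'W : P' ⊓ W ≤ R := by
    haveI := hsubW P' hP'X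
    have h1 : P'.subgroupOf W ≤ pCore p W :=
      Helper55.le_pCore p _ (hP'p.comap_subtype)
    have h2 := Subgroup.map_mono (f := W.subtype) h1
    rw [Subgroup.subgroupOf_map_subtype] at h2
    exact h2.trans hPW
  -- Step 3: `W` is a `p`-group
  have hWp : IsPGroup p W := by
    apply isPGroup_of_forall_coprime_eq_one
    intro w hw hcop
    obtain ⟨A, hA⟩ : ∃ A, A = Subgroup.zpowers w := ⟨_, rfl⟩
    have hAW : A ≤ W := hA ▸ Subgroup.zpowers_le.mpr hw
    have hAnorm : A ≤ Subgroup.normalizer (P' : Set N) := by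
      intro a ha
      apply Subgroup.mem_normalizer_fintype
      intro m hm
      exact hP'X a (hWX (hAW ha)) m hm
    have hAcard : (Nat.card A).Coprime (Nat.card P') := by
      obtain ⟨j, hj⟩ := IsPGroup.iff_card.mp hP'p
      rw [hj, hA, Nat.card_zpowers]
      exact Nat.Coprime.pow_right j hcop
    have hAsolv : Group.IsSolvable A := by
      rw [hA]; infer_instance
    have h1 := Helper24.commutator_commutator_eq A P' hAnorm hAcard (Or.inl hAsolv)
    have h2 : ⁅P', A⁆ ≤ R := by
      refine le_trans (le_inf (Helper24.commutator_le_of_le_normalizer P' A hAnorm) ?_) hP'W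
      exact (Subgroup.commutator_mono le_rfl hAW).trans (Subgroup.commutator_le_right P' W)
    have h3 : ⁅⁅P', A⁆, A⁆ = ⊥ := by
      rw [Subgroup.commutator_eq_bot_iff_le_centralizer]
      intro r hr
      rw [Subgroup.mem_centralizer_iff]
      intro a ha
      exact ((hmemW a).mp (hAW ha) r (h2 hr)).symm
    rw [h3] at h1
    have h4 : P' ≤ Subgroup.centralizer (A : Set N) :=
      Subgroup.commutator_eq_bot_iff_le_centralizer.mp h1.symm
    have hwX : w ∈ X := hWX hw
    have h5 : (⟨w, hwX⟩ : X) ∈ Subgroup.centralizer (PX : Set X) := by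
      rw [Subgroup.mem_centralizer_iff]
      intro m hm
      have hm' : (m : N) ∈ P' := by rw [hP']; exact ⟨m, hm, rfl⟩
      have := Subgroup.mem_centralizer_iff.mp (h4 hm') w (by rw [hA]; exact Subgroup.mem_zpowers w)
      exact Subtype.ext this.symm
    have h6 := hcX h5
    obtain ⟨j, hj⟩ := hPXp ⟨_, h6⟩
    have hj' : w ^ p ^ j = 1 := by
      have := congrArg (fun z : PX => ((z : X) : N)) hj
      simpa using this
    have h7 : orderOf w ∣ p ^ j := orderOf_dvd_of_pow_eq_one hj'
    have h8 : orderOf w = 1 := Nat.Coprime.eq_one_of_dvd (Nat.Coprime.pow_right j hcop) h7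
    exact orderOf_eq_one_iff.mp h8
  exact hR ▸ Helper55.le_pCore p W hWp


/-- **p-constraint from the centralizer of an element of a normal `p`-subgroup.** If `x` lies in a
normal `p`-subgroup of the finite group `N` and `C_N(x)` is `p`-constrained, so is `N`. -/
theorem isPConstrained_of_centralizer_singleton {N : Type*} [Group N] [Finite N]
    (p : ℕ) [Fact p.Prime] (T : Subgroup N) [hTn : T.Normal] (hT : IsPGroup p T) (x : N)
    (hx : x ∈ T) (hX : IsPConstrained p (Subgroup.centralizer ({x} : Set N))) :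
    IsPConstrained p N := by
  obtain ⟨K, hK⟩ : ∃ K, K = pPrimeCore p N := ⟨_, rfl⟩
  haveI hKn : K.Normal := hK ▸ Helper55.pPrimeCore_normal' p
  have hKc : (Nat.card K).Coprime p := hK ▸ Helper55.pPrimeCore_card_coprime p
  have hsurj : Function.Surjective (QuotientGroup.mk' K) := QuotientGroup.mk'_surjective K
  have hker : (Nat.card (QuotientGroup.mk' K).ker).Coprime p := by
    rw [QuotientGroup.ker_mk']; exact hKc
  have h0 : pPrimeCore p (N ⧸ K) = ⊥ := by
    subst hK; exact Helper55.pPrimeCore_quotient_eq_bot p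
  obtain ⟨f, hf⟩ : ∃ f : N →* N ⧸ K, f = QuotientGroup.mk' K := ⟨_, rfl⟩
  rw [← hf] at hsurj hker
  have hfker : f.ker = K := by rw [hf]; exact QuotientGroup.ker_mk' K
  have hmemC : ∀ {Z : Type _} [Group Z] (z y : Z),
      y ∈ Subgroup.centralizer ({z} : Set Z) ↔ z * y = y * z := by
    intro Z _ z y
    rw [Subgroup.mem_centralizer_iff]
    constructor
    · intro h; exact h z rfl
    · intro h w hw
      rw [Set.mem_singleton_iff] at hw
      rw [hw]; exact h
  -- the image of `x` lies in the `p`-core of the quotient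
  have hxbar : f x ∈ pCore p (N ⧸ K) := by
    haveI : (T.map f).Normal := Subgroup.Normal.map hTn f hsurj
    exact Helper55.le_pCore p (T.map f) (hT.map f) (Subgroup.mem_map_of_mem f hx)
  -- the restriction of the quotient map to centralizers
  let φ : Subgroup.centralizer ({x} : Set N) →* Subgroup.centralizer ({f x} : Set (N ⧸ K)) :=
    (f.comp (Subgroup.centralizer ({x} : Set N)).subtype).codRestrict _ (by
      intro n
      rw [hmemC]
      have := (hmemC x n).mp n.2
      change f x * f n = f n * f x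
      rw [← map_mul, ← map_mul, this])
  have hxp : IsPGroup p (Subgroup.zpowers x) := hT.to_le (Subgroup.zpowers_le.mpr hx)
  have hφsurj : Function.Surjective φ := by
    rintro ⟨n', hn'⟩
    obtain ⟨n, rfl⟩ := hsurj n'
    rw [hmemC] at hn'
    have hcop : (Nat.card (Subgroup.zpowers x)).Coprime (Nat.card K) := by
      obtain ⟨j, hj⟩ := IsPGroup.iff_card.mp hxp
      rw [hj]
      exact Nat.Coprime.pow_left j hKc.symm
    have hfix : ∀ a ∈ Subgroup.zpowers x, a * n * a⁻¹ * n⁻¹ ∈ K := by
      intro a ha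
      rw [Subgroup.mem_zpowers_iff] at ha
      obtain ⟨j, rfl⟩ := ha
      rw [← hfker, MonoidHom.mem_ker, map_mul, map_mul, map_mul, map_inv, map_inv, map_zpow]
      have hc : Commute (f x) (f n) := hn'
      have := (hc.zpow_left j).eq
      rw [this]
      group
    obtain ⟨k, hk, hc⟩ := Helper24.fixed_point_lemma K (Subgroup.zpowers x)
      (by rw [Subgroup.normalizer_eq_top]; exact le_top) hcop
      (Or.inr inferInstance) n hfix
    have hc' : k⁻¹ * n ∈ Subgroup.centralizer ({x} : Set N) := by
      rw [hmemC]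
      rw [Subgroup.mem_centralizer_iff] at hc
      exact hc x (Subgroup.mem_zpowers x)
    refine ⟨⟨k⁻¹ * n, hc'⟩, Subtype.ext ?_⟩
    change f (k⁻¹ * n) = f n
    have hk1 : f k = 1 := by
      rw [← MonoidHom.mem_ker, hfker]; exact hk
    rw [map_mul, map_inv, hk1, inv_one, one_mul]
  have hφker : (Nat.card φ.ker).Coprime p := by
    let ι : φ.ker →* K :=
      { toFun := fun y => ⟨((y : Subgroup.centralizer ({x} : Set N)) : N), by
          have h1 : φ (y : Subgroup.centralizer ({x} : Set N)) = 1 := y.2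
          have h2 : f ((y : Subgroup.centralizer ({x} : Set N)) : N) = 1 :=
            congrArg Subtype.val h1
          have h3 : ((y : Subgroup.centralizer ({x} : Set N)) : N) ∈ f.ker := h2
          exact hfker.le h3⟩
        map_one' := rfl
        map_mul' := fun _ _ => rfl }
    have hι : Function.Injective ι := by
      intro y z hyz
      have : ((y : Subgroup.centralizer ({x} : Set N)) : N) =
          ((z : Subgroup.centralizer ({x} : Set N)) : N) :=
        congrArg (fun z : K => (z : N)) hyz
      exact Subtype.ext (Subtype.ext this)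
    exact Nat.Coprime.coprime_dvd_left (Subgroup.card_dvd_of_injective ι hι) hKc
  have hXbar : IsPConstrained p (Subgroup.centralizer ({f x} : Set (N ⧸ K))) :=
    isPConstrained_map p φ hφsurj hφker hX
  have hc := centralizer_pCore_le_of_centralizer_isPConstrained p h0 (f x) hxbar hXbar
  have hbar : IsPConstrained p (N ⧸ K) := isPConstrained_of_charP p h0 hc
  exact isPConstrained_of_map p f hsurj hker hbar


/-- `A ∩ B` viewed inside `B` or inside `A` -/
def subgroupOfSwap {G : Type*} [Group G] (A B : Subgroup G) : A.subgroupOf B ≃* B.subgroupOf A where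
  toFun y := ⟨⟨y.1.1, Subgroup.mem_subgroupOf.mp y.2⟩, Subgroup.mem_subgroupOf.mpr y.1.2⟩
  invFun w := ⟨⟨w.1.1, Subgroup.mem_subgroupOf.mp w.2⟩, Subgroup.mem_subgroupOf.mpr w.1.2⟩
  left_inv _ := rfl
  right_inv _ := rfl
  map_mul' _ _ := rfl

/-- the centralizer of an element of a subgroup, computed inside the subgroup -/
theorem centralizer_singleton_subtype {G : Type*} [Group G] (N : Subgroup G) (x : N) :
    Subgroup.centralizer ({x} : Set N) =
      (Subgroup.centralizer ({(x : G)} : Set G)).subgroupOf N := by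
  ext w
  rw [Subgroup.mem_subgroupOf, Subgroup.mem_centralizer_iff, Subgroup.mem_centralizer_iff]
  constructor
  · intro h z hz
    rw [Set.mem_singleton_iff] at hz
    rw [hz]
    exact congrArg Subtype.val (h x rfl)
  · intro h z hz
    rw [Set.mem_singleton_iff] at hz
    rw [hz]
    exact Subtype.ext (h x rfl)

/-- Normalizers of `p`-subgroups are `p`-constrained as soon as the centralizer of some element of
the centre of the `p`-subgroup is. -/
theorem isPConstrained_normalizer_of_centralizer {G : Type*} [Group G] [Finite G] (p : ℕ)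
    [Fact p.Prime] (T : Subgroup G) (hT : IsPGroup p T) (x : G) (hxT : x ∈ T)
    (hxc : ∀ t ∈ T, t * x = x * t)
    (hC : IsPConstrained p (Subgroup.centralizer ({x} : Set G))) :
    IsPConstrained p (Subgroup.normalizer (T : Set G)) := by
  obtain ⟨C, hCdef⟩ : ∃ C, C = Subgroup.centralizer ({x} : Set G) := ⟨_, rfl⟩
  rw [← hCdef] at hC
  have hTC : T ≤ C := by
    intro t ht
    rw [hCdef, Subgroup.mem_centralizer_iff]
    intro z hz
    rw [Set.mem_singleton_iff] at hz
    rw [hz]
    exact (hxc t ht).symm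
  have h1 := isPConstrained_normalizer p hC (T.subgroupOf C) hT.comap_subtype
  rw [← Subgroup.subgroupOf_normalizer_eq hTC] at h1
  obtain ⟨N, hN⟩ : ∃ N, N = Subgroup.normalizer (T : Set G) := ⟨_, rfl⟩
  rw [← hN] at h1 ⊢
  have hTN : T ≤ N := hN ▸ Subgroup.le_normalizer
  have h2 : IsPConstrained p (C.subgroupOf N) :=
    isPConstrained_of_mulEquiv p (subgroupOfSwap N C) h1
  haveI hTNn : (T.subgroupOf N).Normal := by
    subst hN; exact Subgroup.normal_in_normalizer
  have h3 : IsPConstrained p (Subgroup.centralizer ({(⟨x, hTN hxT⟩ : N)} : Set N)) := by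
    rw [centralizer_singleton_subtype, ← hCdef]
    exact h2
  exact isPConstrained_of_centralizer_singleton p (T.subgroupOf N) hT.comap_subtype
    ⟨x, hTN hxT⟩ (Subgroup.mem_subgroupOf.mpr hxT) h3

end Cfsg.Agent.Lib.Helper54
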