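import Mathlib
import Cfsg.Prelude.Def_Local
import Cfsg.Agent.Lib.Helper55.Cores
import Cfsg.Agent.Lib.Helper54.PConstr4

set_option autoImplicit false
set_option linter.style.haveILetI false
set_option linter.unusedSectionVars false

namespace Cfsg.Agent.Lib.Helper54

open Cfsg

variable {G : Type*} [Group G] {G' : Type*} [Group G']

/-- the restriction of a homomorphism to the normalizer of a subgroup -/
def normalizerMap (f : G →* G') (Q : Subgroup G) :
    Subgroup.normalizer (Q : Set G) →* Subgroup.normalizer ((Q.map f : Subgroup G') : Set G') :=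
  (f.comp (Subgroup.normalizer (Q : Set G)).subtype).codRestrict _ (by
    intro n
    exact Subgroup.le_normalizer_map _ ⟨n, n.2, rfl⟩)

@[simp] theorem normalizerMap_coe (f : G →* G') (Q : Subgroup G)
    (n : Subgroup.normalizer (Q : Set G)) : ((normalizerMap f Q n : _) : G') = f (n : G) := rfl

section transfer

variable [Finite G] (p : ℕ) [hp : Fact p.Prime] (f : G →* G') (hf : Function.Surjective f)
  (hker : (Nat.card f.ker).Coprime p)

include hker in
theorem normalizerMap_ker_coprime (Q : Subgroup G) :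
    (Nat.card (normalizerMap f Q).ker).Coprime p := by
  let ι : (normalizerMap f Q).ker →* f.ker :=
    { toFun := fun x => ⟨((x : Subgroup.normalizer (Q : Set G)) : G), by
        have h1 : normalizerMap f Q (x : Subgroup.normalizer (Q : Set G)) = 1 := x.2
        have h2 : f ((x : Subgroup.normalizer (Q : Set G)) : G) = 1 :=
          congrArg Subtype.val h1
        exact h2⟩
      map_one' := rfl
      map_mul' := fun _ _ => rfl }
  have hι : Function.Injective ι := by
    intro x y hxy
    have : ((x : Subgroup.normalizer (Q : Set G)) : G) =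
        ((y : Subgroup.normalizer (Q : Set G)) : G) :=
      congrArg (fun z : f.ker => (z : G)) hxy
    exact Subtype.ext (Subtype.ext this)
  exact Nat.Coprime.coprime_dvd_left (Subgroup.card_dvd_of_injective ι hι) hker

include hf hker in
theorem normalizerMap_surjective (Q : Subgroup G) (hQ : IsPGroup p Q) :
    Function.Surjective (normalizerMap f Q) := by
  rintro ⟨n', hn'⟩
  obtain ⟨n, hn, hfn⟩ := exists_mem_normalizer_map_eq p f hf hker Q hQ n' hn'
  exact ⟨⟨n, hn⟩, Subtype.ext hfn⟩

include hker in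
/-- centralizers of `p`-subgroups map onto centralizers modulo a normal `p'`-subgroup -/
theorem exists_mem_centralizer_map_eq (P : Subgroup G) (hPp : IsPGroup p P) (c' : G')
    (hc' : c' ∈ Subgroup.centralizer ((P.map f : Subgroup G') : Set G'))
    (hc'r : c' ∈ f.range) :
    ∃ c ∈ Subgroup.centralizer (P : Set G), f c = c' := by
  obtain ⟨c, rfl⟩ := hc'r
  rw [Subgroup.mem_centralizer_iff] at hc'
  have hcomm : ∀ u ∈ P, f u * f c = f c * f u := by
    intro u hu
    exact hc' (f u) ⟨u, hu, rfl⟩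
  haveI : f.ker.Normal := MonoidHom.normal_ker f
  have hg : ∀ u ∈ P, c * u * c⁻¹ ∈ f.ker ⊔ P := by
    intro u hu
    have h1 : c * u * c⁻¹ * u⁻¹ ∈ f.ker := by
      rw [MonoidHom.mem_ker, map_mul, map_mul, map_mul, map_inv, map_inv, ← hcomm u hu]
      group
    have h2 : c * u * c⁻¹ = (c * u * c⁻¹ * u⁻¹) * u := by group
    rw [h2]
    exact Subgroup.mul_mem_sup h1 hu
  obtain ⟨k, hk, hd⟩ := exists_mem_normalizer_of_conj_le_sup p f.ker hker P hPp c hg
  have hdis : P ⊓ f.ker = ⊥ := by
    apply disjoint_iff.mp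
    apply Subgroup.disjoint_of_coprime_natCard
    obtain ⟨j, hj⟩ := IsPGroup.iff_card.mp hPp
    rw [hj]
    exact Nat.Coprime.pow_left j hker.symm
  have hdc : k⁻¹ * c ∈ Subgroup.centralizer (P : Set G) := by
    rw [Subgroup.mem_centralizer_iff]
    intro u hu
    have h1 : (k⁻¹ * c) * u * (k⁻¹ * c)⁻¹ ∈ P := (Subgroup.mem_normalizer_iff.mp hd u).mp hu
    have h2 : (k⁻¹ * c) * u * (k⁻¹ * c)⁻¹ * u⁻¹ ∈ f.ker := by
      rw [MonoidHom.mem_ker] at hk ⊢
      simp only [map_mul, map_inv, hk, inv_one, one_mul]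
      rw [← hcomm u hu]
      group
    have h3 : (k⁻¹ * c) * u * (k⁻¹ * c)⁻¹ * u⁻¹ ∈ P ⊓ f.ker := ⟨P.mul_mem h1 (P.inv_mem hu), h2⟩
    rw [hdis, Subgroup.mem_bot] at h3
    calc u * (k⁻¹ * c) = ((k⁻¹ * c) * u * (k⁻¹ * c)⁻¹ * u⁻¹)⁻¹ * ((k⁻¹ * c) * u) := by group
      _ = (k⁻¹ * c) * u := by rw [h3, inv_one, one_mul]
  refine ⟨k⁻¹ * c, hdc, ?_⟩
  rw [MonoidHom.mem_ker] at hk
  rw [map_mul, map_inv, hk, inv_one, one_mul]

end transfer

/-- a Sylow `p`-subgroup of a `p`-group is the whole group -/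
theorem sylow_map_subtype_eq_of_isPGroup {p : ℕ} (M : Subgroup G) (hM : IsPGroup p M)
    (Q : Sylow p M) : (Q : Subgroup M).map M.subtype = M := by
  have htop : (⊤ : Subgroup M) = Q := Q.3 (hM.to_subgroup ⊤) le_top
  rw [← htop, ← MonoidHom.range_eq_map, Subgroup.range_subtype]

/-- **`O_{p'}` of the normalizer of a `p`-subgroup** when `G / O_{p'}(G)` has a self-centralizing
`p`-core. -/
theorem map_pPrimeCore_normalizer_eq [Finite G] (p : ℕ) [Fact p.Prime]
    (hc : Subgroup.centralizer (pCore p (G ⧸ pPrimeCore p G) : Set (G ⧸ pPrimeCore p G)) ≤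
      pCore p (G ⧸ pPrimeCore p G)) (P : Subgroup G) (hP : IsPGroup p P) :
    (pPrimeCore p (Subgroup.normalizer (P : Set G))).map (Subgroup.normalizer (P : Set G)).subtype =
      pPrimeCore p G ⊓ Subgroup.normalizer (P : Set G) := by
  have hsurj : Function.Surjective (QuotientGroup.mk' (pPrimeCore p G)) :=
    QuotientGroup.mk'_surjective _
  have hker : (Nat.card (QuotientGroup.mk' (pPrimeCore p G)).ker).Coprime p := by
    rw [QuotientGroup.ker_mk']; exact Helper55.pPrimeCore_card_coprime p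
  have h0 : pPrimeCore p (G ⧸ pPrimeCore p G) = ⊥ := Helper55.pPrimeCore_quotient_eq_bot p
  have hPbar : IsPGroup p (P.map (QuotientGroup.mk' (pPrimeCore p G))) := hP.map _
  have hNbar0 := pPrimeCore_normalizer_eq_bot p h0 hc _ hPbar
  have hmap := map_pPrimeCore p (normalizerMap (QuotientGroup.mk' (pPrimeCore p G)) P)
    (normalizerMap_surjective p _ hsurj hker P hP) (normalizerMap_ker_coprime p _ hker P)
  rw [hNbar0] at hmap
  apply le_antisymm
  · rintro _ ⟨k, hk, rfl⟩
    refine ⟨?_, k.2⟩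
    have h1 : normalizerMap (QuotientGroup.mk' (pPrimeCore p G)) P k ∈
        (pPrimeCore p (Subgroup.normalizer (P : Set G))).map
          (normalizerMap (QuotientGroup.mk' (pPrimeCore p G)) P) := ⟨k, hk, rfl⟩
    rw [hmap, Subgroup.mem_bot] at h1
    have h2 : (QuotientGroup.mk' (pPrimeCore p G)) (k : G) = 1 := congrArg Subtype.val h1
    rwa [QuotientGroup.mk'_apply, QuotientGroup.eq_one_iff] at h2
  · intro k hk
    refine ⟨⟨k, hk.2⟩, ?_, rfl⟩
    haveI : ((pPrimeCore p G).subgroupOf (Subgroup.normalizer (P : Set G))).Normal :=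
      Subgroup.Normal.subgroupOf (Helper55.pPrimeCore_normal' p) _
    apply Helper55.le_pPrimeCore p ((pPrimeCore p G).subgroupOf (Subgroup.normalizer (P : Set G)))
    · exact Nat.Coprime.coprime_dvd_left
        (Subgroup.card_comap_dvd_of_injective _ _ (Subgroup.subtype_injective _))
        (Helper55.pPrimeCore_card_coprime p)
    · exact Subgroup.mem_subgroupOf.mpr hk.1

end Cfsg.Agent.Lib.Helper54
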