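import Mathlib
import Cfsg.Prelude.Def_Local
import Cfsg.Agent.Lib.Helper22.FStar
import Cfsg.Agent.Lib.Helper22.Fitting
import Cfsg.Agent.Lib.Helper24.PxQ
import Cfsg.Agent.Lib.Helper2.PResidual
import Cfsg.Agent.Lib.Helper54.PConstr5

set_option autoImplicit false
set_option linter.style.haveILetI false
set_option linter.unusedSectionVars false

namespace Cfsg.Agent.Lib.Helper54

open Cfsg

/-- a finite perfect group is generated by its `p'`-elements: a normal subgroup containing all
`p'`-elements is everything -/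
theorem eq_top_of_perfect_of_coprime_mem {X : Type*} [Group X] [Finite X] (p : ℕ) [Fact p.Prime]
    (hperf : commutator X = ⊤) (M : Subgroup X) [M.Normal]
    (hM : ∀ g : X, (orderOf g).Coprime p → g ∈ M) : M = ⊤ := by
  have hp : IsPGroup p (X ⧸ M) := Helper2.isPGroup_quotient_of_coprime_mem M hM
  haveI : Group.IsNilpotent (X ⧸ M) := hp.isNilpotent
  haveI : Group.IsPerfect (X ⧸ M) := by
    haveI : Group.IsPerfect X := ⟨hperf⟩
    infer_instance
  by_contra hne
  have : Nontrivial (X ⧸ M) := by
    rw [← not_subsingleton_iff_nontrivial]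
    intro hs
    apply hne
    rw [eq_top_iff]
    intro g _
    have := Subsingleton.elim (QuotientGroup.mk g : X ⧸ M) 1
    rwa [QuotientGroup.eq_one_iff] at this
  exact Group.IsPerfect.not_isNilpotent (X ⧸ M) inferInstance

/-- Thompson `P × Q` for a single `p'`-element -/
theorem commute_of_coprime_of_commute_fixed {G : Type*} [Group G] [Finite G] (p : ℕ)
    [Fact p.Prime] (P R : Subgroup G) (hP : IsPGroup p P) (hR : IsPGroup p R) [hRn : R.Normal]
    (y : G) (hy : (orderOf y).Coprime p) (hyP : ∀ u ∈ P, u * y = y * u)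
    (hyR : ∀ r ∈ R, (∀ u ∈ P, u * r = r * u) → r * y = y * r) :
    y ∈ Subgroup.centralizer (R : Set G) := by
  have h1 : Subgroup.zpowers y ≤ Subgroup.centralizer (R : Set G) := by
    apply Helper24.thompson_PxQ P (Subgroup.zpowers y) R hP _ hR
    · intro u hu
      rw [Subgroup.mem_centralizer_iff]
      intro a ha
      rw [SetLike.mem_coe, Subgroup.mem_zpowers_iff] at ha
      obtain ⟨n, rfl⟩ := ha
      exact ((Commute.zpow_left (show Commute y u from (hyP u hu).symm) n).eq)
    · rw [Subgroup.normalizer_eq_top]; exact le_top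
    · rw [Subgroup.normalizer_eq_top]; exact le_top
    · intro r hr
      have hr2 : r ∈ Subgroup.centralizer (P : Set G) := hr.2
      rw [Subgroup.mem_centralizer_iff] at hr2
      have h2 := hyR r hr.1 hr2
      rw [Subgroup.mem_centralizer_iff]
      intro a ha
      rw [SetLike.mem_coe, Subgroup.mem_zpowers_iff] at ha
      obtain ⟨n, rfl⟩ := ha
      exact ((Commute.zpow_left (show Commute y r from h2.symm) n).eq)
    · rw [Nat.card_zpowers]; exact hy
  exact h1 (Subgroup.mem_zpowers y)

/-- elements mapping into the layer of `N / O_{p'}(N)` centralize every normal `p`-subgroup of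
`N` -/
theorem commute_of_mem_comap_layer {N : Type*} [Group N] [Finite N] (p : ℕ) [Fact p.Prime]
    (T : Subgroup N) [hTn : T.Normal] (hT : IsPGroup p T) (l : N)
    (hl : QuotientGroup.mk' (pPrimeCore p N) l ∈ layer (N ⧸ pPrimeCore p N)) (t : N) (ht : t ∈ T) :
    l * t = t * l := by
  have hsurj : Function.Surjective (QuotientGroup.mk' (pPrimeCore p N)) :=
    QuotientGroup.mk'_surjective _
  have hTF : T.map (QuotientGroup.mk' (pPrimeCore p N)) ≤ fittingSubgroup (N ⧸ pPrimeCore p N) := by
    apply Helper22.le_fittingSubgroup (Subgroup.Normal.map hTn _ hsurj)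
    exact (hT.map _).isNilpotent
  have h1 := Helper22.layer_le_centralizer_fitting (N ⧸ pPrimeCore p N) hl
  rw [Subgroup.mem_centralizer_iff] at h1
  have h2 := h1 _ (hTF (Subgroup.mem_map_of_mem _ ht))
  have h3 : l * t * l⁻¹ * t⁻¹ ∈ pPrimeCore p N := by
    have h0 : QuotientGroup.mk' (pPrimeCore p N) (l * t * l⁻¹ * t⁻¹) = 1 := by
      rw [map_mul, map_mul, map_mul, map_inv, map_inv, ← h2]
      group
    rwa [QuotientGroup.mk'_apply, QuotientGroup.eq_one_iff] at h0
  have h4 : l * t * l⁻¹ * t⁻¹ ∈ T := T.mul_mem (hTn.conj_mem t ht l) (T.inv_mem ht)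
  have hdisj : Disjoint T (pPrimeCore p N) := by
    apply Subgroup.disjoint_of_coprime_natCard
    obtain ⟨j, hj⟩ := IsPGroup.iff_card.mp hT
    rw [hj]
    exact Nat.Coprime.pow_left j (Helper55.pPrimeCore_card_coprime p).symm
  have h5 : l * t * l⁻¹ * t⁻¹ = 1 := by
    have := hdisj.le_bot ⟨h4, h3⟩
    rwa [Subgroup.mem_bot] at this
  calc l * t = (l * t * l⁻¹ * t⁻¹) * (t * l) := by group
    _ = t * l := by rw [h5, one_mul]

/-- an element of `N` whose image modulo `O_{p'}(N)` has order prime to `p` has order prime to `p` -/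
theorem orderOf_coprime_of_map_coprime {N : Type*} [Group N] [Finite N] (p : ℕ) [Fact p.Prime]
    (n : N) (h : (orderOf (QuotientGroup.mk' (pPrimeCore p N) n)).Coprime p) :
    (orderOf n).Coprime p := by
  have h1 : n ^ orderOf (QuotientGroup.mk' (pPrimeCore p N) n) ∈ pPrimeCore p N := by
    have h0 : QuotientGroup.mk' (pPrimeCore p N)
        (n ^ orderOf (QuotientGroup.mk' (pPrimeCore p N) n)) = 1 := by
      rw [map_pow, pow_orderOf_eq_one]
    rwa [QuotientGroup.mk'_apply, QuotientGroup.eq_one_iff] at h0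
  have h2 : (n ^ orderOf (QuotientGroup.mk' (pPrimeCore p N) n)) ^ Nat.card (pPrimeCore p N) = 1 := by
    have := pow_card_eq_one' (G := pPrimeCore p N)
      (x := ⟨_, h1⟩)
    exact congrArg Subtype.val this
  rw [← pow_mul] at h2
  exact Nat.Coprime.coprime_dvd_left (orderOf_dvd_of_pow_eq_one h2)
    (Nat.Coprime.mul_left h (Helper55.pPrimeCore_card_coprime p))

/-- **`L_{p'}(N_G(P))` centralizes `O_p(G)`.** -/
theorem comap_layer_normalizer_le_centralizer_pCore {G : Type*} [Group G] [Finite G] (p : ℕ)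
    [Fact p.Prime] (P : Subgroup G) (hP : IsPGroup p P) :
    ((layer (Subgroup.normalizer (P : Set G) ⧸ pPrimeCore p (Subgroup.normalizer (P : Set G)))).comap
      (QuotientGroup.mk' (pPrimeCore p (Subgroup.normalizer (P : Set G))))).map
        (Subgroup.normalizer (P : Set G)).subtype ≤ Subgroup.centralizer (pCore p G : Set G) := by
  obtain ⟨N, hN⟩ : ∃ N, N = Subgroup.normalizer (P : Set G) := ⟨_, rfl⟩
  rw [← hN]
  obtain ⟨R, hR⟩ : ∃ R, R = pCore p G := ⟨_, rfl⟩
  rw [← hR]
  haveI hRn : R.Normal := hR ▸ Helper55.pCore_normal' p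
  have hRp : IsPGroup p R := hR ▸ Helper55.pCore_isPGroup p
  have hPN : P ≤ N := hN ▸ Subgroup.le_normalizer
  haveI hPNn : (P.subgroupOf N).Normal := by
    subst hN; exact Subgroup.normal_in_normalizer
  haveI hRNn : (R.subgroupOf N).Normal := Subgroup.Normal.subgroupOf hRn N
  have hsurj : Function.Surjective (QuotientGroup.mk' (pPrimeCore p N)) :=
    QuotientGroup.mk'_surjective _
  -- `p'`-elements mapping into the layer centralize `R`
  have key : ∀ n : N, QuotientGroup.mk' (pPrimeCore p N) n ∈ layer (N ⧸ pPrimeCore p N) →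
      (orderOf n).Coprime p → (n : G) ∈ Subgroup.centralizer (R : Set G) := by
    intro n hn hcop
    apply commute_of_coprime_of_commute_fixed p P R hP hRp (n : G)
    · rw [Subgroup.orderOf_coe]; exact hcop
    · intro u hu
      have := commute_of_mem_comap_layer p (P.subgroupOf N) hP.comap_subtype n hn ⟨u, hPN hu⟩
        (Subgroup.mem_subgroupOf.mpr hu)
      exact (congrArg Subtype.val this).symm
    · intro r hr hrP
      have hrN : r ∈ N := by
        rw [hN]
        apply Subgroup.centralizer_le_normalizer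
        rw [Subgroup.mem_centralizer_iff]
        exact hrP
      have := commute_of_mem_comap_layer p (R.subgroupOf N) hRp.comap_subtype n hn ⟨r, hrN⟩
        (Subgroup.mem_subgroupOf.mpr hr)
      exact (congrArg Subtype.val this).symm
  -- the normal subgroup `C = C_N(R)` of `N`
  obtain ⟨C, hC⟩ : ∃ C : Subgroup N, C = (Subgroup.centralizer (R : Set G)).subgroupOf N :=
    ⟨_, rfl⟩
  haveI hCn : C.Normal := by
    rw [hC]; exact Subgroup.Normal.subgroupOf Subgroup.normal_centralizer N
  obtain ⟨E, hE⟩ : ∃ E, E = layer (N ⧸ pPrimeCore p N) := ⟨_, rfl⟩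
  rw [← hE] at key
  have hEperf : commutator E = ⊤ := by
    have h1 : ⁅E, E⁆ = E := hE ▸ Helper22.layer_perfect _
    have : Group.IsPerfect E := Subgroup.isPerfect_iff.mpr h1
    exact this.commutator_eq_top
  haveI hCmapn : (C.map (QuotientGroup.mk' (pPrimeCore p N))).Normal :=
    Subgroup.Normal.map hCn _ hsurj
  have htop : (C.map (QuotientGroup.mk' (pPrimeCore p N))).subgroupOf E = ⊤ := by
    apply eq_top_of_perfect_of_coprime_mem p hEperf
    intro e he
    obtain ⟨n, hn⟩ := hsurj (e : N ⧸ pPrimeCore p N)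
    rw [Subgroup.mem_subgroupOf, ← hn]
    refine Subgroup.mem_map_of_mem _ ?_
    rw [hC, Subgroup.mem_subgroupOf]
    apply key n (hn ▸ e.2)
    apply orderOf_coprime_of_map_coprime p n
    rw [hn, Subgroup.orderOf_coe]
    exact he
  rintro _ ⟨l, hl0, rfl⟩
  have hl : QuotientGroup.mk' (pPrimeCore p N) l ∈ E := by rw [hE]; exact hl0
  have h1 : (⟨_, hl⟩ : E) ∈ (C.map (QuotientGroup.mk' (pPrimeCore p N))).subgroupOf E := by
    rw [htop]; trivial
  rw [Subgroup.mem_subgroupOf] at h1
  obtain ⟨c, hc, hcl⟩ := h1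
  have hcl' : QuotientGroup.mk' (pPrimeCore p N) c = QuotientGroup.mk' (pPrimeCore p N) l := hcl
  have hk1 : QuotientGroup.mk' (pPrimeCore p N) (c⁻¹ * l) = 1 := by
    rw [map_mul, map_inv, hcl', inv_mul_cancel]
  have hk : c⁻¹ * l ∈ pPrimeCore p N := by
    have h0 := hk1
    rwa [QuotientGroup.mk'_apply, QuotientGroup.eq_one_iff] at h0
  have hkC : ((c⁻¹ * l : N) : G) ∈ Subgroup.centralizer (R : Set G) := by
    apply key
    · rw [hk1]; exact E.one_mem
    · have h2 : (c⁻¹ * l) ^ Nat.card (pPrimeCore p N) = 1 := by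
        have := pow_card_eq_one' (G := pPrimeCore p N) (x := ⟨_, hk⟩)
        exact congrArg Subtype.val this
      exact Nat.Coprime.coprime_dvd_left (orderOf_dvd_of_pow_eq_one h2)
        (Helper55.pPrimeCore_card_coprime p)
  have hcC : (c : G) ∈ Subgroup.centralizer (R : Set G) := by
    have hc' : c ∈ (Subgroup.centralizer (R : Set G)).subgroupOf N := hC ▸ hc
    exact Subgroup.mem_subgroupOf.mp hc'
  have : (N.subtype l : G) = (c : G) * ((c⁻¹ * l : N) : G) := by
    simp
  rw [this]
  exact Subgroup.mul_mem _ hcC hkC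

end Cfsg.Agent.Lib.Helper54
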