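import Mathlib
import Cfsg.Prelude.Def_Local
import Cfsg.Agent.Lib.Helper21.Components
import Cfsg.Agent.Lib.Helper54.LBalance

set_option autoImplicit false
set_option linter.style.haveILetI false
set_option linter.unusedSectionVars false

namespace Cfsg.Agent.Lib.Helper54

open Cfsg

/-- `O_p(G) ≤ F(G)` -/
theorem pCore_le_fittingSubgroup {G : Type*} [Group G] [Finite G] (p : ℕ) [Fact p.Prime] :
    pCore p G ≤ fittingSubgroup G :=
  Helper22.le_fittingSubgroup (Helper55.pCore_normal' p) (Helper55.pCore_isPGroup p).isNilpotent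

/-- a normal `p`-subgroup lies in `F(G)` -/
theorem le_fittingSubgroup_of_isPGroup {G : Type*} [Group G] [Finite G] (p : ℕ) [Fact p.Prime]
    (T : Subgroup G) [hT : T.Normal] (hTp : IsPGroup p T) : T ≤ fittingSubgroup G :=
  Helper22.le_fittingSubgroup hT hTp.isNilpotent

/-- **Components of `N_G(P)` centralize `O_p(G)`** (`P` any `p`-subgroup). -/
theorem component_normalizer_le_centralizer_pCore {G : Type*} [Group G] [Finite G] (p : ℕ)
    [Fact p.Prime] (P : Subgroup G) (hP : IsPGroup p P)
    (K : Subgroup (Subgroup.normalizer (P : Set G))) (hK : IsComponent K) :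
    K.map (Subgroup.normalizer (P : Set G)).subtype ≤ Subgroup.centralizer (pCore p G : Set G) := by
  obtain ⟨N, hN⟩ : ∃ N, N = Subgroup.normalizer (P : Set G) := ⟨_, rfl⟩
  revert K
  rw [← hN]
  intro K hK
  obtain ⟨R, hR⟩ : ∃ R, R = pCore p G := ⟨_, rfl⟩
  rw [← hR]
  haveI hRn : R.Normal := hR ▸ Helper55.pCore_normal' p
  have hRp : IsPGroup p R := hR ▸ Helper55.pCore_isPGroup p
  have hPN : P ≤ N := hN ▸ Subgroup.le_normalizer
  haveI hPNn : (P.subgroupOf N).Normal := by
    subst hN; exact Subgroup.normal_in_normalizer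
  haveI hRNn : (R.subgroupOf N).Normal := Subgroup.Normal.subgroupOf hRn N
  have hKF := Helper22.component_le_centralizer_fitting hK
  have hcomm : ∀ (T : Subgroup N) [T.Normal], IsPGroup p T → ∀ k ∈ K, ∀ t ∈ T, t * k = k * t := by
    intro T _ hT k hk t ht
    have := hKF hk
    rw [Subgroup.mem_centralizer_iff] at this
    exact this t (le_fittingSubgroup_of_isPGroup p T hT ht)
  have key : ∀ k ∈ K, (orderOf k).Coprime p → (k : G) ∈ Subgroup.centralizer (R : Set G) := by
    intro k hk hcop
    apply commute_of_coprime_of_commute_fixed p P R hP hRp (k : G)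
    · rw [Subgroup.orderOf_coe]; exact hcop
    · intro u hu
      have := hcomm (P.subgroupOf N) hP.comap_subtype k hk ⟨u, hPN hu⟩
        (Subgroup.mem_subgroupOf.mpr hu)
      exact congrArg Subtype.val this
    · intro r hr hrP
      have hrN : r ∈ N := by
        rw [hN]
        apply Subgroup.centralizer_le_normalizer
        rw [Subgroup.mem_centralizer_iff]
        exact hrP
      have := hcomm (R.subgroupOf N) hRp.comap_subtype k hk ⟨r, hrN⟩
        (Subgroup.mem_subgroupOf.mpr hr)
      exact congrArg Subtype.val this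
  obtain ⟨C, hC⟩ : ∃ C : Subgroup N, C = (Subgroup.centralizer (R : Set G)).subgroupOf N :=
    ⟨_, rfl⟩
  haveI hCn : C.Normal := by
    rw [hC]; exact Subgroup.Normal.subgroupOf Subgroup.normal_centralizer N
  have hKperf : commutator K = ⊤ := by
    have h1 : ⁅K, K⁆ = K := Helper22.component_perfect hK
    have : Group.IsPerfect K := Subgroup.isPerfect_iff.mpr h1
    exact this.commutator_eq_top
  have htop : C.subgroupOf K = ⊤ := by
    apply eq_top_of_perfect_of_coprime_mem p hKperf
    intro k hk
    rw [Subgroup.mem_subgroupOf, hC, Subgroup.mem_subgroupOf]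
    apply key k k.2
    rw [← Subgroup.orderOf_coe] at hk
    exact hk
  rintro _ ⟨k, hk, rfl⟩
  have h1 : (⟨k, hk⟩ : K) ∈ C.subgroupOf K := by rw [htop]; trivial
  rw [Subgroup.mem_subgroupOf] at h1
  have h2 : k ∈ (Subgroup.centralizer (R : Set G)).subgroupOf N := hC ▸ h1
  exact Subgroup.mem_subgroupOf.mp h2

/-- **`E(N_G(P)) = E(G)` for `P ≤ O_p(G)`.** -/
theorem layer_normalizer_eq_of_le_pCore {G : Type*} [Group G] [Finite G] (p : ℕ) [Fact p.Prime]
    (P : Subgroup G) (hP : P ≤ pCore p G) :
    (layer (Subgroup.normalizer (P : Set G))).map (Subgroup.normalizer (P : Set G)).subtype =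
      layer G := by
  have hPp : IsPGroup p P := (Helper55.pCore_isPGroup p).to_le hP
  have hcomp := component_normalizer_le_centralizer_pCore p P hPp
  obtain ⟨N, hN⟩ : ∃ N, N = Subgroup.normalizer (P : Set G) := ⟨_, rfl⟩
  rw [← hN] at hcomp ⊢
  have hCN : Subgroup.centralizer (pCore p G : Set G) ≤ N := by
    rw [hN]
    exact (Subgroup.centralizer_le hP).trans (Subgroup.centralizer_le_normalizer _)
  apply le_antisymm
  · rw [Subgroup.map_le_iff_le_comap]
    apply sSup_le
    intro K hK
    have hKC := hcomp K hK
    -- `K.map N.subtype` is a component of `G`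
    have hcompG : IsComponent (K.map N.subtype) := by
      refine ⟨?_, Helper21.quasisimple_of_mulEquiv
        (K.equivMapOfInjective N.subtype N.subtype_injective) hK.2⟩
      haveI : (Subgroup.centralizer (pCore p G : Set G)).Normal := by
        haveI := Helper55.pCore_normal' (G := G) p
        exact Subgroup.normal_centralizer
      apply Subgroup.IsSubnormal.trans hKC _ (Subgroup.Normal.isSubnormal inferInstance)
      have h1 : (K.map N.subtype).subgroupOf (Subgroup.centralizer (pCore p G : Set G)) =
          K.comap (Subgroup.inclusion hCN) := by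
        ext c
        rw [Subgroup.mem_subgroupOf, Subgroup.mem_comap]
        constructor
        · rintro ⟨k, hk, hkc⟩
          have : k = Subgroup.inclusion hCN c := Subtype.ext hkc
          rw [← this]; exact hk
        · intro h
          exact ⟨_, h, rfl⟩
      rw [h1]
      exact hK.1.comap _
    intro k hk
    exact Helper22.component_le_layer hcompG ⟨k, hk, rfl⟩
  · apply sSup_le
    intro L hL
    have hLF := Helper22.component_le_centralizer_fitting hL
    have hLN : L ≤ N := by
      intro l hl
      rw [hN]
      apply Subgroup.centralizer_le_normalizer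
      rw [Subgroup.mem_centralizer_iff]
      intro u hu
      have := hLF hl
      rw [Subgroup.mem_centralizer_iff] at this
      exact this u (pCore_le_fittingSubgroup p (hP hu))
    have h1 := Helper22.component_le_layer (Helper21.component_subgroupOf hL hLN)
    intro l hl
    exact ⟨⟨l, hLN hl⟩, h1 (Subgroup.mem_subgroupOf.mpr hl), rfl⟩

end Cfsg.Agent.Lib.Helper54
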