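import Mathlib
import Cfsg.Prelude.Def_Local
import Cfsg.Agent.Lib.Helper55.SolvCore
import Cfsg.Agent.Lib.Helper55.Cores
import Cfsg.Agent.Lib.Helper24.PxQ
import Cfsg.Agent.Lib.Helper54.PConstr5

set_option autoImplicit false
set_option linter.style.haveILetI false
set_option linter.unusedSectionVars false

namespace Cfsg.Agent.Lib.Helper54

open Cfsg

/-- **Balance for `p`-constrained groups.** Let `H / O_{p'}(H)` have a self-centralizing `p`-core,
`P` a `p`-subgroup and `Y` a `p'`-subgroup centralizing `P` and normalized by `C_H(P)`. Then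
`Y ≤ O_{p'}(H)`. -/
theorem le_pPrimeCore_of_normalized_by_centralizer {H : Type*} [Group H] [Finite H] (p : ℕ)
    [Fact p.Prime]
    (hc : Subgroup.centralizer (pCore p (H ⧸ pPrimeCore p H) : Set (H ⧸ pPrimeCore p H)) ≤
      pCore p (H ⧸ pPrimeCore p H))
    (P : Subgroup H) (hP : IsPGroup p P) (Y : Subgroup H) (hY : (Nat.card Y).Coprime p)
    (hYP : Y ≤ Subgroup.centralizer (P : Set H))
    (hnorm : ∀ g ∈ Subgroup.centralizer (P : Set H), ∀ y ∈ Y, g * y * g⁻¹ ∈ Y) :
    Y ≤ pPrimeCore p H := by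
  have hsurj : Function.Surjective (QuotientGroup.mk' (pPrimeCore p H)) :=
    QuotientGroup.mk'_surjective _
  have hker : (Nat.card (QuotientGroup.mk' (pPrimeCore p H)).ker).Coprime p := by
    rw [QuotientGroup.ker_mk']; exact Helper55.pPrimeCore_card_coprime p
  obtain ⟨f, hf⟩ : ∃ f : H →* H ⧸ pPrimeCore p H, f = QuotientGroup.mk' (pPrimeCore p H) :=
    ⟨_, rfl⟩
  rw [← hf] at hsurj hker
  obtain ⟨R, hR⟩ : ∃ R, R = pCore p (H ⧸ pPrimeCore p H) := ⟨_, rfl⟩
  rw [← hR] at hc
  haveI hRn : R.Normal := hR ▸ Helper55.pCore_normal' p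
  have hRp : IsPGroup p R := hR ▸ Helper55.pCore_isPGroup p
  have hYbar : (Nat.card (Y.map f)).Coprime p :=
    Nat.Coprime.coprime_dvd_left (Subgroup.card_map_dvd Y f) hY
  have hdisj : Disjoint R (Y.map f) := by
    apply Subgroup.disjoint_of_coprime_natCard
    obtain ⟨j, hj⟩ := IsPGroup.iff_card.mp hRp
    rw [hj]
    exact Nat.Coprime.pow_left j hYbar.symm
  have h1 : Y.map f ≤ Subgroup.centralizer (R : Set (H ⧸ pPrimeCore p H)) := by
    apply Helper24.thompson_PxQ (P.map f) (Y.map f) R (hP.map f) hYbar hRp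
    · rintro _ ⟨u, hu, rfl⟩
      rw [Subgroup.mem_centralizer_iff]
      rintro _ ⟨y, hy, rfl⟩
      have := Subgroup.mem_centralizer_iff.mp (hYP hy) u hu
      rw [← map_mul, ← map_mul, this]
    · rw [Subgroup.normalizer_eq_top]; exact le_top
    · rw [Subgroup.normalizer_eq_top]; exact le_top
    · intro r hr
      rw [Subgroup.mem_centralizer_iff]
      rintro _ ⟨y, hy, rfl⟩
      obtain ⟨g, hg, hgr⟩ := exists_mem_centralizer_map_eq p f hker P hP r hr.2
        (by rw [MonoidHom.range_eq_top.mpr hsurj]; trivial)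
      have h2 : g * y * g⁻¹ * y⁻¹ ∈ Y := Y.mul_mem (hnorm g hg y hy) (Y.inv_mem hy)
      have h3 : f (g * y * g⁻¹ * y⁻¹) ∈ R := by
        rw [map_mul, map_mul, map_mul, map_inv, map_inv, hgr]
        have h4 : f y * r⁻¹ * (f y)⁻¹ ∈ R := hRn.conj_mem _ (R.inv_mem hr.1) _
        have h5 : r * f y * r⁻¹ * (f y)⁻¹ = r * (f y * r⁻¹ * (f y)⁻¹) := by group
        rw [h5]
        exact R.mul_mem hr.1 h4
      have h6 := hdisj.le_bot ⟨h3, Subgroup.mem_map_of_mem f h2⟩
      rw [Subgroup.mem_bot, map_mul, map_mul, map_mul, map_inv, map_inv, hgr] at h6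
      calc f y * r = (r * f y * r⁻¹ * (f y)⁻¹)⁻¹ * (r * f y) := by group
        _ = r * f y := by rw [h6, inv_one, one_mul]
  have h2 : Y.map f ≤ R := h1.trans hc
  intro y hy
  have h3 : f y ∈ R ⊓ Y.map f := ⟨h2 (Subgroup.mem_map_of_mem f hy), Subgroup.mem_map_of_mem f hy⟩
  have h4 := hdisj.le_bot h3
  rw [Subgroup.mem_bot, hf, QuotientGroup.mk'_apply, QuotientGroup.eq_one_iff] at h4
  exact h4

/-- the hypothesis of `le_pPrimeCore_of_normalized_by_centralizer` holds in solvable groups -/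
theorem centralizer_pCore_quotient_le_of_isSolvable {H : Type*} [Group H] [Finite H]
    [Group.IsSolvable H] (p : ℕ) [Fact p.Prime] :
    Subgroup.centralizer (pCore p (H ⧸ pPrimeCore p H) : Set (H ⧸ pPrimeCore p H)) ≤
      pCore p (H ⧸ pPrimeCore p H) :=
  Helper55.centralizer_pCore_le p (Helper55.pPrimeCore_quotient_eq_bot p)

end Cfsg.Agent.Lib.Helper54
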