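import Mathlib
import Cfsg.Prelude.Def_Local
import Cfsg.Agent.Lib.Helper63.PLength
import Cfsg.Agent.Lib.Helper55.SolvCore
import Cfsg.Agent.Lib.Helper55.Cores
import Cfsg.Agent.Lib.Helper47.Quot
import Cfsg.Agent.Lib.Helper3.Burnside
import Cfsg.Agent.Lib.Helper32.PPrimeP

set_option autoImplicit false
set_option linter.style.haveILetI false

/-!
# Groups of exponent dividing `6` have `2`-length and `3`-length at most `1`

The `3`-length statement is the Hall–Higman argument: an `A₄` acting faithfully on an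
`F₃`-module contains an element of order `3` with minimal polynomial `(t - 1)³`.
-/

namespace Cfsg.Agent.Lib.Helper54

open Cfsg

universe u

/-- ring form of the Hall–Higman computation for `A₄` acting on a module of characteristic `3`
in which every element of order `3` has vanishing trace polynomial `1 + y + y²`. -/
theorem klein_trace_ring {R : Type*} [Ring R] (a b c x : R) (h3 : (1 : R) + 1 + 1 = 0)
    (haa : a * a = 1) (hba : b * a = c) (hca : c * a = b) (hcb : c * b = a) (hac : a * c = b)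
    (hax : a * x = x * b) (hbx : b * x = x * c) (hcx : c * x = x * a)
    (h1 : 1 + x + x * x = 0) (ha : 1 + x * a + (x * a) * (x * a) = 0)
    (hb : 1 + x * b + (x * b) * (x * b) = 0) (hc : 1 + x * c + (x * c) * (x * c) = 0) :
    a = 1 := by
  have e1 : (x * a) * (x * a) = x * x * c := by
    calc (x * a) * (x * a) = x * ((a * x) * a) := by simp only [mul_assoc]
      _ = x * ((x * b) * a) := by rw [hax]
      _ = x * x * (b * a) := by simp only [mul_assoc]
      _ = x * x * c := by rw [hba]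
  have e2 : (x * b) * (x * b) = x * x * a := by
    calc (x * b) * (x * b) = x * ((b * x) * b) := by simp only [mul_assoc]
      _ = x * ((x * c) * b) := by rw [hbx]
      _ = x * x * (c * b) := by simp only [mul_assoc]
      _ = x * x * a := by rw [hcb]
  have e3 : (x * c) * (x * c) = x * x * b := by
    calc (x * c) * (x * c) = x * ((c * x) * c) := by simp only [mul_assoc]
      _ = x * ((x * a) * c) := by rw [hcx]
      _ = x * x * (a * c) := by simp only [mul_assoc]
      _ = x * x * b := by rw [hac]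
  rw [e1] at ha
  rw [e2] at hb
  rw [e3] at hc
  have hS : ((1 : R) + 1 + 1 + 1) + x * (1 + a + b + c) + x * x * (1 + a + b + c) = 0 := by
    calc ((1 : R) + 1 + 1 + 1) + x * (1 + a + b + c) + x * x * (1 + a + b + c)
        = (1 + x + x * x) + (1 + x * a + x * x * c) + (1 + x * b + x * x * a)
          + (1 + x * c + x * x * b) := by noncomm_ring
      _ = 0 := by rw [h1, ha, hb, hc]; simp
  have hσ : (1 + a + b + c) * (1 - a) = 0 := by
    have : (1 + a + b + c) * (1 - a) = 1 + a + b + c - a - a * a - b * a - c * a := by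
      noncomm_ring
    rw [this, haa, hba, hca]; abel
  have h4 : ((1 : R) + 1 + 1 + 1) * (1 - a) = 0 := by
    have : ((1 : R) + 1 + 1 + 1) * (1 - a) = (((1 : R) + 1 + 1 + 1) + x * (1 + a + b + c) + x * x * (1 + a + b + c)) * (1 - a)
        - x * ((1 + a + b + c) * (1 - a)) - x * x * ((1 + a + b + c) * (1 - a)) := by
      noncomm_ring
    rw [this, hS, hσ]; simp
  have h5 : (1 : R) - a = (1 + 1 + 1 + 1) * (1 - a) - (1 + 1 + 1) * (1 - a) := by noncomm_ring
  rw [h4, h3] at h5
  simp at h5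
  exact (sub_eq_zero.mp h5).symm

/-- group-action form -/
theorem klein_trace_action {H V : Type*} [Group H] [Group V] (hV : ∀ v w : V, v * w = w * v)
    (h3 : ∀ v : V, v ^ 3 = 1) (φ : H →* MulAut V) (a b c x : H)
    (haa : φ (a * a) = 1) (hba : φ (b * a) = φ c) (hca : φ (c * a) = φ b)
    (hcb : φ (c * b) = φ a) (hac : φ (a * c) = φ b)
    (hax : a * x = x * b) (hbx : b * x = x * c) (hcx : c * x = x * a)
    (ht : ∀ y : H, (y = x ∨ y = x * a ∨ y = x * b ∨ y = x * c) →
      ∀ v : V, v * φ y v * φ y (φ y v) = 1) : ∀ v : V, φ a v = v := by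
  let _ : CommGroup V := { (inferInstance : Group V) with mul_comm := hV }
  let E : H → AddMonoid.End (Additive V) := fun g =>
    MonoidHom.toAdditive ((φ g : V ≃* V) : V →* V)
  have hE_mul : ∀ g h : H, E (g * h) = E g * E h := by
    intro g h
    apply AddMonoidHom.ext
    intro v
    show Additive.ofMul (φ (g * h) (Additive.toMul v)) =
      Additive.ofMul (φ g (Additive.toMul (Additive.ofMul (φ h (Additive.toMul v)))))
    rw [map_mul]
    rfl
  have hE_one : E 1 = 1 := by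
    apply AddMonoidHom.ext
    intro v
    show Additive.ofMul (φ 1 (Additive.toMul v)) = v
    rw [map_one]
    rfl
  have hE_congr : ∀ g h : H, φ g = φ h → E g = E h := by
    intro g h hgh
    apply AddMonoidHom.ext
    intro v
    show Additive.ofMul (φ g (Additive.toMul v)) = Additive.ofMul (φ h (Additive.toMul v))
    rw [hgh]
  have hE_t : ∀ y : H, (y = x ∨ y = x * a ∨ y = x * b ∨ y = x * c) →
      1 + E y + E y * E y = 0 := by
    intro y hy
    apply AddMonoidHom.ext
    intro v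
    have := ht y hy (Additive.toMul v)
    show v + Additive.ofMul (φ y (Additive.toMul v)) +
      Additive.ofMul (φ y (Additive.toMul (Additive.ofMul (φ y (Additive.toMul v))))) = 0
    exact congrArg Additive.ofMul this
  have h3' : (1 : AddMonoid.End (Additive V)) + 1 + 1 = 0 := by
    apply AddMonoidHom.ext
    intro v
    show v + v + v = 0
    have := h3 (Additive.toMul v)
    rw [pow_succ, pow_two] at this
    exact congrArg Additive.ofMul this
  have key : E a = 1 := by
    apply klein_trace_ring (E a) (E b) (E c) (E x) h3'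
    · rw [← hE_mul, hE_congr (a * a) 1 (by rw [haa, map_one]), hE_one]
    · rw [← hE_mul]; exact hE_congr _ _ hba
    · rw [← hE_mul]; exact hE_congr _ _ hca
    · rw [← hE_mul]; exact hE_congr _ _ hcb
    · rw [← hE_mul]; exact hE_congr _ _ hac
    · rw [← hE_mul, ← hE_mul, hax]
    · rw [← hE_mul, ← hE_mul, hbx]
    · rw [← hE_mul, ← hE_mul, hcx]
    · exact hE_t x (Or.inl rfl)
    · rw [← hE_mul]; exact hE_t (x * a) (Or.inr (Or.inl rfl))
    · rw [← hE_mul]; exact hE_t (x * b) (Or.inr (Or.inr (Or.inl rfl)))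
    · rw [← hE_mul]; exact hE_t (x * c) (Or.inr (Or.inr (Or.inr rfl)))
  intro v
  have := congrArg (fun f : AddMonoid.End (Additive V) => f (Additive.ofMul v)) key
  exact congrArg Additive.toMul this

theorem cube_mul_eq {M : Type*} [Monoid M] (x k k' k'' : M) (h1 : k * x = x * k')
    (h2 : k' * x = x * k'') :
    (x * k) * (x * k) * (x * k) = x * x * x * (k'' * k' * k) := by
  calc (x * k) * (x * k) * (x * k) = x * ((k * x) * k) * (x * k) := by simp only [mul_assoc]
    _ = x * ((x * k') * k) * (x * k) := by rw [h1]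
    _ = x * x * (k' * ((k * x) * k)) := by simp only [mul_assoc]
    _ = x * x * (k' * ((x * k') * k)) := by rw [h1]
    _ = x * x * ((k' * x) * (k' * k)) := by simp only [mul_assoc]
    _ = x * x * ((x * k'') * (k' * k)) := by rw [h2]
    _ = x * x * x * (k'' * k' * k) := by simp only [mul_assoc]

theorem eq_one_of_pow_eq_one_of_coprime {M : Type*} [Monoid M] {g : M} {m n : ℕ}
    (hmn : Nat.Coprime m n) (hm : g ^ m = 1) (hn : g ^ n = 1) : g = 1 := by
  have h1 : orderOf g ∣ Nat.gcd m n :=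
    Nat.dvd_gcd (orderOf_dvd_of_pow_eq_one hm) (orderOf_dvd_of_pow_eq_one hn)
  rw [hmn.gcd_eq_one, Nat.dvd_one] at h1
  exact orderOf_eq_one_iff.mp h1

/-- in a group of exponent dividing `6`, an element whose cube lies in a `3`-subgroup has
cube `1`. -/
theorem cube_eq_one_of_mem {H : Type*} [Group H] {P : Subgroup H} (hP : IsPGroup 3 P)
    (h6 : ∀ h : H, h ^ 6 = 1) {g : H} (hg : g * g * g ∈ P) : g * g * g = 1 := by
  obtain ⟨k, hk⟩ := hP ⟨g * g * g, hg⟩
  have hk' : (g * g * g) ^ (3 ^ k) = 1 := by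
    have := congrArg Subtype.val hk
    simpa using this
  have h2 : (g * g * g) ^ 2 = 1 := by
    have : (g * g * g) ^ 2 = g ^ 6 := by
      rw [show g * g * g = g ^ 3 by rw [pow_succ, pow_two], ← pow_mul]
    rw [this, h6]
  exact eq_one_of_pow_eq_one_of_coprime
    (Nat.Coprime.pow_right k (by norm_num : Nat.Coprime 2 3)) h2 hk'

/-- Key lemma: in a group of exponent dividing `6`, an involution `a` generating together with an
element `x` of order `3` a copy of `A₄` modulo the normal `3`-subgroup `P` centralizes `P`. -/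
theorem exp6_centralizes_aux : ∀ (n : ℕ) (H : Type u) [Group H] [Finite H] (P : Subgroup H)
    [P.Normal], Nat.card P ≤ n → IsPGroup 3 P → (∀ h : H, h ^ 6 = 1) → ∀ a x : H, a * a = 1 →
    x * x * x = 1 → (a * (x⁻¹ * a * x)) * ((x⁻¹ * a * x) * a)⁻¹ ∈ P →
    a * (x⁻¹ * a * x) * (x⁻¹ * (x⁻¹ * a * x) * x) ∈ P → ∀ u ∈ P, a * u * a⁻¹ = u := by
  intro n
  induction n with
  | zero =>
    intro H _ _ P _ hcard
    have := Nat.card_pos (α := P)
    omega
  | succ n ih =>
    intro H _ _ P _ hcard hP h6 a x haa hxxx hcomm hprod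
    haveI : Fact (Nat.Prime 3) := ⟨Nat.prime_three⟩
    by_cases hPbot : P = ⊥
    · intro u hu
      rw [hPbot, Subgroup.mem_bot] at hu
      rw [hu]; group
    haveI hCn : (Subgroup.centralizer (P : Set H)).Normal := Subgroup.normal_centralizer
    obtain ⟨Z, hZ⟩ : ∃ Z : Subgroup H, Z = P ⊓ Subgroup.centralizer (P : Set H) := ⟨_, rfl⟩
    haveI hZn : Z.Normal := by rw [hZ]; infer_instance
    have hZP : Z ≤ P := by rw [hZ]; exact inf_le_left
    have hZc : ∀ v ∈ Z, ∀ p ∈ P, p * v = v * p := by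
      intro v hv p hp
      rw [hZ] at hv
      exact Subgroup.mem_centralizer_iff.mp hv.2 p hp
    -- a nontrivial element of Z
    obtain ⟨z, hzZ, hz1⟩ : ∃ z ∈ Z, z ≠ 1 := by
      haveI : Nontrivial ↥P := (Subgroup.nontrivial_iff_ne_bot P).2 hPbot
      haveI := hP.center_nontrivial
      obtain ⟨z₀, hz₀⟩ := exists_ne (1 : Subgroup.center ↥P)
      refine ⟨((z₀ : ↥P) : H), ?_, ?_⟩
      · rw [hZ]
        refine ⟨(z₀ : ↥P).2, Subgroup.mem_centralizer_iff.mpr ?_⟩
        intro p hp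
        have := Subgroup.mem_center_iff.mp z₀.2 ⟨p, hp⟩
        exact congrArg Subtype.val this
      · intro h
        apply hz₀
        apply Subtype.ext
        apply Subtype.ext
        exact h
    -- names
    obtain ⟨b, hb⟩ : ∃ b : H, b = x⁻¹ * a * x := ⟨_, rfl⟩
    obtain ⟨c, hc⟩ : ∃ c : H, c = x⁻¹ * b * x := ⟨_, rfl⟩
    rw [← hb] at hcomm hprod
    rw [← hc] at hprod
    have hbb : b * b = 1 := by
      rw [hb]
      calc x⁻¹ * a * x * (x⁻¹ * a * x) = x⁻¹ * (a * a) * x := by group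
        _ = 1 := by rw [haa]; group
    have hcc : c * c = 1 := by
      rw [hc]
      calc x⁻¹ * b * x * (x⁻¹ * b * x) = x⁻¹ * (b * b) * x := by group
        _ = 1 := by rw [hbb]; group
    have hax : a * x = x * b := by rw [hb]; group
    have hbx : b * x = x * c := by rw [hc]; group
    have hcx : c * x = x * a := by
      have hx2 : x⁻¹ * x⁻¹ = x := by
        calc x⁻¹ * x⁻¹ = x⁻¹ * x⁻¹ * (x * x * x) := by rw [hxxx, mul_one]
          _ = x := by group
      rw [hc, hb]
      calc x⁻¹ * (x⁻¹ * a * x) * x * x = (x⁻¹ * x⁻¹) * a * (x * x * x) := by group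
        _ = x * a := by rw [hx2, hxxx, mul_one]
    -- relations modulo P
    obtain ⟨ρ, hρ⟩ : ∃ ρ : H →* H ⧸ P, ρ = QuotientGroup.mk' P := ⟨_, rfl⟩
    have hρ1 : ∀ g : H, g ∈ P → ρ g = 1 := by
      intro g hg
      rw [hρ, QuotientGroup.mk'_apply]
      exact (QuotientGroup.eq_one_iff g).2 hg
    have hρmem : ∀ g : H, ρ g = 1 → g ∈ P := by
      intro g hg
      rw [hρ, QuotientGroup.mk'_apply] at hg
      exact (QuotientGroup.eq_one_iff g).1 hg
    have raa : ρ a * ρ a = 1 := by rw [← map_mul, haa, map_one]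
    have rbb : ρ b * ρ b = 1 := by rw [← map_mul, hbb, map_one]
    have rcc : ρ c * ρ c = 1 := by rw [← map_mul, hcc, map_one]
    have rxxx : ρ x * ρ x * ρ x = 1 := by rw [← map_mul, ← map_mul, hxxx, map_one]
    have rab : ρ a * ρ b = ρ b * ρ a := by
      have := hρ1 _ hcomm
      rw [map_mul, map_inv, mul_inv_eq_one, map_mul, map_mul] at this
      exact this
    have rabc : ρ a * ρ b * ρ c = 1 := by
      have := hρ1 _ hprod
      rwa [map_mul, map_mul] at this
    have rainv : (ρ a)⁻¹ = ρ a := inv_eq_of_mul_eq_one_right raa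
    have rbinv : (ρ b)⁻¹ = ρ b := inv_eq_of_mul_eq_one_right rbb
    have rba : ρ b * ρ a = ρ c := by
      have h1 : ρ c = (ρ a * ρ b)⁻¹ := (inv_eq_of_mul_eq_one_right rabc).symm
      rw [h1, mul_inv_rev, rainv, rbinv]
    have rca : ρ c * ρ a = ρ b := by rw [← rba, mul_assoc, raa, mul_one]
    have rcb : ρ c * ρ b = ρ a := by rw [← rba, ← rab, mul_assoc, rbb, mul_one]
    have rac : ρ a * ρ c = ρ b := by rw [← rba, ← mul_assoc, rab, mul_assoc, raa, mul_one]
    have rax : ρ a * ρ x = ρ x * ρ b := by rw [← map_mul, hax, map_mul]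
    have rbx : ρ b * ρ x = ρ x * ρ c := by rw [← map_mul, hbx, map_mul]
    have rcx : ρ c * ρ x = ρ x * ρ a := by rw [← map_mul, hcx, map_mul]
    -- cubes
    have hcube : ∀ y : H, (y = x ∨ y = x * a ∨ y = x * b ∨ y = x * c) →
        ρ y * ρ y * ρ y = 1 := by
      intro y hy
      rcases hy with rfl | rfl | rfl | rfl
      · exact rxxx
      · rw [map_mul, cube_mul_eq (ρ x) (ρ a) (ρ b) (ρ c) rax rbx, rxxx, one_mul, mul_assoc, rba,
          rcc]
      · rw [map_mul, cube_mul_eq (ρ x) (ρ b) (ρ c) (ρ a) rbx rcx, rxxx, one_mul, mul_assoc, rcb,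
          raa]
      · rw [map_mul, cube_mul_eq (ρ x) (ρ c) (ρ a) (ρ b) rcx rax, rxxx, one_mul, mul_assoc, rac,
          rbb]
    have hcube' : ∀ g y : H, (y = x ∨ y = x * a ∨ y = x * b ∨ y = x * c) → ρ g = ρ y →
        g * g * g = 1 := by
      intro g y hy hgy
      apply cube_eq_one_of_mem hP h6
      apply hρmem
      rw [map_mul, map_mul, hgy]
      exact hcube y hy
    -- the action on Z
    obtain ⟨φ, hφ⟩ : ∃ φ : H →* MulAut ↥Z, φ = MulAut.conjNormal := ⟨_, rfl⟩
    have hφ_apply : ∀ (g : H) (v : ↥Z), ((φ g v : ↥Z) : H) = g * v * g⁻¹ := by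
      intro g v
      rw [hφ]
      exact MulAut.conjNormal_apply g v
    have hφP : ∀ p ∈ P, φ p = 1 := by
      intro p hp
      ext v
      rw [hφ_apply, MulAut.one_apply, hZc v v.2 p hp]
      group
    have hφ_congr : ∀ g h : H, ρ g = ρ h → φ g = φ h := by
      intro g h hgh
      have h1 : g⁻¹ * h ∈ P := by
        apply hρmem
        rw [map_mul, map_inv, hgh, inv_mul_cancel]
      have h2 : h = g * (g⁻¹ * h) := by group
      rw [h2, map_mul, hφP _ h1, mul_one]
    have hZa : ∀ v : ↥Z, φ a v = v := by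
      apply klein_trace_action (V := ↥Z) ?_ ?_ φ a b c x ?_ ?_ ?_ ?_ ?_ hax hbx hcx ?_
      · intro v w
        apply Subtype.ext
        exact hZc w w.2 v (hZP v.2)
      · intro v
        apply Subtype.ext
        have h1 : ((v : H) * v * v) = 1 := by
          apply cube_eq_one_of_mem hP h6
          exact P.mul_mem (P.mul_mem (hZP v.2) (hZP v.2)) (hZP v.2)
        rw [pow_succ, pow_two]
        exact h1
      · rw [haa, map_one]
      · apply hφ_congr; rw [map_mul]; exact rba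
      · apply hφ_congr; rw [map_mul]; exact rca
      · apply hφ_congr; rw [map_mul]; exact rcb
      · apply hφ_congr; rw [map_mul]; exact rac
      · intro y hy v
        apply Subtype.ext
        have h1 : y * y * y = 1 := hcube' y y hy rfl
        have h2 : ((v : H) * y) * (v * y) * (v * y) = 1 := by
          apply hcube' _ y hy
          rw [map_mul, hρ1 _ (hZP v.2), one_mul]
        show (v : H) * (φ y v : ↥Z) * (φ y (φ y v) : ↥Z) = 1
        rw [hφ_apply, hφ_apply, hφ_apply]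
        calc (v : H) * (y * v * y⁻¹) * (y * (y * v * y⁻¹) * y⁻¹)
            = ((v : H) * y) * (v * y) * (v * y) * (y * y * y)⁻¹ := by group
          _ = 1 := by rw [h1, h2]; group
    have hZa' : ∀ v ∈ Z, a * v * a⁻¹ = v := by
      intro v hv
      have := congrArg Subtype.val (hZa ⟨v, hv⟩)
      rw [hφ_apply] at this
      exact this
    -- the quotient by Z
    obtain ⟨π, hπ⟩ : ∃ π : H →* H ⧸ Z, π = QuotientGroup.mk' Z := ⟨_, rfl⟩
    have hπsurj : Function.Surjective π := by rw [hπ]; exact QuotientGroup.mk'_surjective Z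
    haveI hP'n : (P.map π).Normal := Subgroup.Normal.map inferInstance π hπsurj
    have hlt : Nat.card (P.map π) < Nat.card P := by
      classical
      haveI := Fintype.ofFinite ↥P
      haveI := Fintype.ofFinite ↥(P.map π)
      rw [Nat.card_eq_fintype_card, Nat.card_eq_fintype_card]
      apply Fintype.card_lt_of_surjective_not_injective (π.subgroupMap P)
        (π.subgroupMap_surjective P)
      intro hinj
      have h1 : (π.subgroupMap P) ⟨z, hZP hzZ⟩ = (π.subgroupMap P) 1 := by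
        apply Subtype.ext
        rw [map_one]
        show π z = 1
        rw [hπ, QuotientGroup.mk'_apply]
        exact (QuotientGroup.eq_one_iff z).2 hzZ
      have h2 := congrArg Subtype.val (hinj h1)
      exact hz1 h2
    have h6' : ∀ h : H ⧸ Z, h ^ 6 = 1 := by
      intro h
      obtain ⟨g, rfl⟩ := hπsurj h
      rw [← map_pow, h6, map_one]
    have hIH := ih (H ⧸ Z) (P.map π) (by omega) (hP.map π) h6' (π a) (π x)
      (by rw [← map_mul, haa, map_one]) (by rw [← map_mul, ← map_mul, hxxx, map_one])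
      (by
        have := Subgroup.mem_map_of_mem π hcomm
        rw [hb] at this
        simpa only [map_mul, map_inv] using this)
      (by
        have := Subgroup.mem_map_of_mem π hprod
        rw [hc, hb] at this
        simpa only [map_mul, map_inv] using this)
    intro u hu
    have h1 := hIH (π u) (Subgroup.mem_map_of_mem π hu)
    have hzu : u⁻¹ * (a * u * a⁻¹) ∈ Z := by
      have h2 : π (u⁻¹ * (a * u * a⁻¹)) = 1 := by
        rw [map_mul, map_mul, map_mul, map_inv, map_inv, h1, inv_mul_cancel]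
      rw [hπ, QuotientGroup.mk'_apply] at h2
      exact (QuotientGroup.eq_one_iff _).1 h2
    obtain ⟨w, hw⟩ : ∃ w : H, w = u⁻¹ * (a * u * a⁻¹) := ⟨_, rfl⟩
    rw [← hw] at hzu
    have hauw : a * u * a⁻¹ = u * w := by rw [hw]; group
    have haw := hZa' w hzu
    have hainv : a⁻¹ = a := inv_eq_of_mul_eq_one_right haa
    have h3 : u = u * (w * w) := by
      calc u = a * (a * u * a⁻¹) * a⁻¹ := by
            rw [hainv]
            calc u = 1 * u * 1 := by group
              _ = (a * a) * u * (a * a) := by rw [haa]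
              _ = a * (a * u * a) * a := by group
        _ = a * (u * w) * a⁻¹ := by rw [hauw]
        _ = (a * u * a⁻¹) * (a * w * a⁻¹) := by group
        _ = u * w * w := by rw [hauw, haw]
        _ = u * (w * w) := by group
    have hww : w * w = 1 := by
      have := mul_left_cancel (a := u) (b := 1) (c := w * w) (by rw [mul_one]; exact h3)
      exact this.symm
    have hw1 : w = 1 := by
      obtain ⟨k, hk⟩ := hP ⟨w, hZP hzu⟩
      have hk' : w ^ (3 ^ k) = 1 := by
        have := congrArg Subtype.val hk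
        simpa using this
      exact eq_one_of_pow_eq_one_of_coprime
        (Nat.Coprime.pow_right k (by norm_num : Nat.Coprime 2 3)) (by rw [pow_two]; exact hww) hk'
    rw [hauw, hw1, mul_one]

/-- the series `1 ≤ A ≤ B ≤ ⊤ ≤ ⊤ ≤ ⋯` -/
def exp6Series {G : Type*} [Group G] (A B : Subgroup G) : ℕ → Subgroup G
  | 0 => ⊥
  | 1 => A
  | 2 => B
  | _ + 3 => ⊤

/-- if a `p'`-power of every element lies in `O_{p',p}(G)`, then `G` has `p`-length at most `1`. -/
theorem pLengthLE_one_of_forall {G : Type*} [Group G] [Finite G] (p : ℕ) [Fact p.Prime]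
    (h : ∀ g : G, ∃ n : ℕ, n.Coprime p ∧ g ^ n ∈ pPrimePCore p G) : PLengthLE p 1 G := by
  rw [Cfsg.Agent.Lib.Helper63.pLengthLE_iff]
  refine ⟨exp6Series (pPrimeCore p G) (pPrimePCore p G), ⟨rfl, ?_, ?_, ?_⟩, rfl⟩
  · intro i
    match i with
    | 0 => exact (inferInstance : (⊥ : Subgroup G).Normal)
    | 1 => exact (inferInstance : (pPrimeCore p G).Normal)
    | 2 => exact Cfsg.Agent.Lib.Helper32.pPrimePCore_normal p G
    | (j + 3) => exact (inferInstance : (⊤ : Subgroup G).Normal)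
  · intro i hi
    match i with
    | 0 =>
      intro x hx
      refine ⟨Nat.card (pPrimeCore p G), Cfsg.Agent.Lib.Helper55.pPrimeCore_card_coprime p, ?_⟩
      have hx' : x ∈ pPrimeCore p G := hx
      have h1 : (⟨x, hx'⟩ : pPrimeCore p G) ^ Nat.card (pPrimeCore p G) = 1 := pow_card_eq_one'
      have h2 := congrArg Subtype.val h1
      simp only [Subgroup.coe_pow, Subgroup.coe_one] at h2
      show x ^ _ ∈ (⊥ : Subgroup G)
      rw [Subgroup.mem_bot]; exact h2
    | 1 => exact absurd hi (by decide)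
    | 2 =>
      intro x _
      exact h x
    | (j + 3) =>
      intro x _
      exact ⟨1, Nat.coprime_one_left p, Subgroup.mem_top _⟩
  · intro i hi
    match i with
    | 0 => exact absurd (by decide : Even 0) hi
    | 1 =>
      intro x hx
      have hx2 : (QuotientGroup.mk' (pPrimeCore p G)) x ∈ pCore p (G ⧸ pPrimeCore p G) := hx
      obtain ⟨m, hm⟩ := Cfsg.Agent.Lib.Helper55.pCore_isPGroup (G := G ⧸ pPrimeCore p G) p ⟨_, hx2⟩
      refine ⟨m, ?_⟩
      have h2 := congrArg Subtype.val hm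
      simp only [Subgroup.coe_pow, Subgroup.coe_one] at h2
      rw [← map_pow] at h2
      show x ^ (p ^ m) ∈ pPrimeCore p G
      exact (QuotientGroup.eq_one_iff _).1 h2
    | 2 => exact absurd (by decide : Even 2) hi
    | (j + 3) =>
      intro x _
      exact ⟨0, Subgroup.mem_top _⟩

/-- in a `2`-subgroup of a group of exponent dividing `6`, every element squares to `1` -/
theorem sq_eq_one_of_exp6 {H : Type*} [Group H] {Q : Subgroup H} (hQ : IsPGroup 2 Q)
    (h6 : ∀ h : H, h ^ 6 = 1) {s : H} (hs : s ∈ Q) : s * s = 1 := by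
  obtain ⟨k, hk⟩ := hQ ⟨s, hs⟩
  have hk' : s ^ (2 ^ k) = 1 := by
    have := congrArg Subtype.val hk
    simpa using this
  have h1 : (s * s) ^ (2 ^ k) = 1 := by
    rw [← pow_two, ← pow_mul, mul_comm, pow_mul, hk', one_pow]
  have h2 : (s * s) ^ 3 = 1 := by
    rw [← pow_two, ← pow_mul]
    exact h6 s
  exact eq_one_of_pow_eq_one_of_coprime
    (Nat.Coprime.pow_left k (by norm_num : Nat.Coprime 2 3)) h1 h2

/-- `2`-elements of a solvable group of exponent dividing `6` with `O_{2'} = 1` lie in `O_2`. -/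
theorem mem_pCore_two_of_exp6 {H : Type*} [Group H] [Finite H] [Group.IsSolvable H]
    (h6 : ∀ h : H, h ^ 6 = 1) (hO : pPrimeCore 2 H = ⊥) (t : H) (ht : t * t = 1) :
    t ∈ pCore 2 H := by
  have hHH := Cfsg.Agent.Lib.Helper55.centralizer_pCore_le (G := H) 2 hO
  have hP : IsPGroup 2 (pCore 2 H) := Cfsg.Agent.Lib.Helper55.pCore_isPGroup 2
  apply hHH
  rw [Subgroup.mem_centralizer_iff]
  intro u hu
  have htinv : t⁻¹ = t := inv_eq_of_mul_eq_one_right ht
  have huu : u * u = 1 := sq_eq_one_of_exp6 hP h6 hu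
  have huinv : u⁻¹ = u := inv_eq_of_mul_eq_one_right huu
  have h1 : (t * u) * (t * u) ∈ pCore 2 H := by
    have h2 : t * u * t⁻¹ ∈ pCore 2 H := (inferInstance : (pCore 2 H).Normal).conj_mem u hu t
    rw [htinv] at h2
    have h3 := (pCore 2 H).mul_mem h2 hu
    have h4 : t * u * t * u = (t * u) * (t * u) := by group
    rwa [h4] at h3
  have h5 : (t * u) * (t * u) = 1 := by
    obtain ⟨k, hk⟩ := hP ⟨_, h1⟩
    have hk' : ((t * u) * (t * u)) ^ (2 ^ k) = 1 := by
      have := congrArg Subtype.val hk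
      simpa using this
    have h2 : ((t * u) * (t * u)) ^ 3 = 1 := by
      rw [← pow_two, ← pow_mul]
      exact h6 _
    exact eq_one_of_pow_eq_one_of_coprime
      (Nat.Coprime.pow_left k (by norm_num : Nat.Coprime 2 3)) hk' h2
  have h6' : t * u = (t * u)⁻¹ := (inv_eq_of_mul_eq_one_right h5).symm
  rw [mul_inv_rev, htinv, huinv] at h6'
  exact h6'.symm

/-- `3`-elements of a solvable group of exponent dividing `6` with `O_{3'} = 1` lie in `O_3`. -/
theorem mem_pCore_three_of_exp6 {H : Type u} [Group H] [Finite H] [Group.IsSolvable H]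
    (h6 : ∀ h : H, h ^ 6 = 1) (hO : pPrimeCore 3 H = ⊥) (x : H) (hx : x * x * x = 1) :
    x ∈ pCore 3 H := by
  by_contra hxP
  have hHH := Cfsg.Agent.Lib.Helper55.centralizer_pCore_le (G := H) 3 hO
  have hP : IsPGroup 3 (pCore 3 H) := Cfsg.Agent.Lib.Helper55.pCore_isPGroup 3
  obtain ⟨ρ, hρ⟩ : ∃ ρ : H →* H ⧸ pCore 3 H, ρ = QuotientGroup.mk' (pCore 3 H) := ⟨_, rfl⟩
  have hρsurj : Function.Surjective ρ := by rw [hρ]; exact QuotientGroup.mk'_surjective _
  have hρ1 : ∀ g : H, g ∈ pCore 3 H → ρ g = 1 := by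
    intro g hg
    rw [hρ, QuotientGroup.mk'_apply]
    exact (QuotientGroup.eq_one_iff g).2 hg
  have hρmem : ∀ g : H, ρ g = 1 → g ∈ pCore 3 H := by
    intro g hg
    rw [hρ, QuotientGroup.mk'_apply] at hg
    exact (QuotientGroup.eq_one_iff g).1 hg
  haveI : Group.IsSolvable (H ⧸ pCore 3 H) := Group.isSolvable_of_surjective hρsurj
  have h6' : ∀ h : H ⧸ pCore 3 H, h ^ 6 = 1 := by
    intro h
    obtain ⟨g, rfl⟩ := hρsurj h
    rw [← map_pow, h6, map_one]
  -- `O_3` of the quotient is trivial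
  have hO3 : pCore 3 (H ⧸ pCore 3 H) = ⊥ := by
    rw [eq_bot_iff]
    intro y hy
    obtain ⟨g, rfl⟩ := hρsurj y
    have h1 : g ∈ (pCore 3 (H ⧸ pCore 3 H)).comap (QuotientGroup.mk' (pCore 3 H)) := by
      rw [Subgroup.mem_comap, ← hρ]; exact hy
    rw [Cfsg.Agent.Lib.Helper47.comap_pCore_quotient (pCore 3 H) hP] at h1
    rw [Subgroup.mem_bot]
    exact hρ1 g h1
  -- `O_{2'}` of the quotient is trivial
  have hO2' : pPrimeCore 2 (H ⧸ pCore 3 H) = ⊥ := by
    rw [eq_bot_iff, ← hO3]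
    apply Cfsg.Agent.Lib.Helper55.le_pCore
    intro g
    refine ⟨1, ?_⟩
    have hcop : (Nat.card (pPrimeCore 2 (H ⧸ pCore 3 H))).Coprime 2 :=
      Cfsg.Agent.Lib.Helper55.pPrimeCore_card_coprime 2
    have h1 : g ^ Nat.card (pPrimeCore 2 (H ⧸ pCore 3 H)) = 1 := pow_card_eq_one'
    have h2 : g ^ 6 = 1 := by
      apply Subtype.ext
      rw [Subgroup.coe_pow, Subgroup.coe_one]
      exact h6' _
    have h3 : orderOf g ∣ 2 * 3 := orderOf_dvd_of_pow_eq_one h2
    have h4 : (orderOf g).Coprime 2 :=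
      Nat.Coprime.coprime_dvd_left (orderOf_dvd_of_pow_eq_one h1) hcop
    have h5 : orderOf g ∣ 3 := h4.dvd_of_dvd_mul_left h3
    rw [pow_one]
    exact orderOf_dvd_iff_pow_eq_one.mp h5
  have hHH2 := Cfsg.Agent.Lib.Helper55.centralizer_pCore_le (G := H ⧸ pCore 3 H) 2 hO2'
  have hQ : IsPGroup 2 (pCore 2 (H ⧸ pCore 3 H)) := Cfsg.Agent.Lib.Helper55.pCore_isPGroup 2
  have hQn : (pCore 2 (H ⧸ pCore 3 H)).Normal := inferInstance
  have hsq : ∀ s ∈ pCore 2 (H ⧸ pCore 3 H), s * s = 1 := fun s hs => sq_eq_one_of_exp6 hQ h6' hs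
  have hQcomm : ∀ s ∈ pCore 2 (H ⧸ pCore 3 H), ∀ t ∈ pCore 2 (H ⧸ pCore 3 H), s * t = t * s := by
    intro s hs t ht
    have h1 := hsq (s * t) (Subgroup.mul_mem _ hs ht)
    have h2 : s * t = (s * t)⁻¹ := (inv_eq_of_mul_eq_one_right h1).symm
    rw [mul_inv_rev, inv_eq_of_mul_eq_one_right (hsq s hs),
      inv_eq_of_mul_eq_one_right (hsq t ht)] at h2
    exact h2
  have rxxx : ρ x * ρ x * ρ x = 1 := by rw [← map_mul, ← map_mul, hx, map_one]
  -- `ρ x` does not centralize `O_2`
  have hxQ : ρ x ∉ pCore 2 (H ⧸ pCore 3 H) := by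
    intro hmem
    apply hxP
    apply hρmem
    obtain ⟨k, hk⟩ := hQ ⟨_, hmem⟩
    have hk' : (ρ x) ^ (2 ^ k) = 1 := by
      have := congrArg Subtype.val hk
      simpa using this
    have h3 : (ρ x) ^ 3 = 1 := by rw [pow_succ, pow_two]; exact rxxx
    exact eq_one_of_pow_eq_one_of_coprime
      (Nat.Coprime.pow_left k (by norm_num : Nat.Coprime 2 3)) hk' h3
  have hxC : ρ x ∉ Subgroup.centralizer (pCore 2 (H ⧸ pCore 3 H) : Set (H ⧸ pCore 3 H)) :=
    fun h => hxQ (hHH2 h)
  rw [Subgroup.mem_centralizer_iff] at hxC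
  push Not at hxC
  obtain ⟨qb, hqb, hqx⟩ := hxC
  obtain ⟨q, rfl⟩ := hρsurj qb
  -- the involution
  obtain ⟨a₀, ha₀⟩ : ∃ a₀ : H, a₀ = q * (x⁻¹ * q * x) := ⟨_, rfl⟩
  obtain ⟨a, ha⟩ : ∃ a : H, a = a₀ * a₀ * a₀ := ⟨_, rfl⟩
  have haa : a * a = 1 := by
    rw [ha]
    have : a₀ * a₀ * a₀ * (a₀ * a₀ * a₀) = a₀ ^ 6 := by
      rw [show a₀ * a₀ * a₀ = a₀ ^ 3 by rw [pow_succ, pow_two], ← pow_add]
    rw [this, h6]
  -- conjugates of `ρ q`
  obtain ⟨q₁, hq₁⟩ : ∃ q₁ : H ⧸ pCore 3 H, q₁ = (ρ x)⁻¹ * ρ q * ρ x := ⟨_, rfl⟩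
  obtain ⟨q₂, hq₂⟩ : ∃ q₂ : H ⧸ pCore 3 H, q₂ = (ρ x)⁻¹ * q₁ * ρ x := ⟨_, rfl⟩
  have hconj : ∀ s ∈ pCore 2 (H ⧸ pCore 3 H), (ρ x)⁻¹ * s * ρ x ∈ pCore 2 (H ⧸ pCore 3 H) := by
    intro s hs
    have := hQn.conj_mem s hs (ρ x)⁻¹
    rwa [inv_inv] at this
  have hq₁Q : q₁ ∈ pCore 2 (H ⧸ pCore 3 H) := by rw [hq₁]; exact hconj _ hqb
  have hq₂Q : q₂ ∈ pCore 2 (H ⧸ pCore 3 H) := by rw [hq₂]; exact hconj _ hq₁Q
  have hxinv : (ρ x)⁻¹ * (ρ x)⁻¹ * (ρ x)⁻¹ = 1 := by
    have : (ρ x)⁻¹ * (ρ x)⁻¹ * (ρ x)⁻¹ = (ρ x * ρ x * ρ x)⁻¹ := by group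
    rw [this, rxxx, inv_one]
  have hq₃ : (ρ x)⁻¹ * q₂ * ρ x = ρ q := by
    rw [hq₂, hq₁]
    calc (ρ x)⁻¹ * ((ρ x)⁻¹ * ((ρ x)⁻¹ * ρ q * ρ x) * ρ x) * ρ x
        = ((ρ x)⁻¹ * (ρ x)⁻¹ * (ρ x)⁻¹) * ρ q * (ρ x * ρ x * ρ x) := by group
      _ = ρ q := by rw [hxinv, rxxx, one_mul, mul_one]
  have ra₀ : ρ a₀ = ρ q * q₁ := by rw [ha₀, hq₁]; simp only [map_mul, map_inv]
  have ha₀Q : ρ a₀ ∈ pCore 2 (H ⧸ pCore 3 H) := by rw [ra₀]; exact Subgroup.mul_mem _ hqb hq₁Q
  have ra : ρ a = ρ q * q₁ := by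
    rw [ha, map_mul, map_mul, hsq _ ha₀Q, one_mul, ra₀]
  obtain ⟨b, hb⟩ : ∃ b : H, b = x⁻¹ * a * x := ⟨_, rfl⟩
  obtain ⟨c, hc⟩ : ∃ c : H, c = x⁻¹ * b * x := ⟨_, rfl⟩
  have rb : ρ b = q₁ * q₂ := by
    rw [hb, map_mul, map_mul, map_inv, ra, hq₂, hq₁]; group
  have rc : ρ c = q₂ * ρ q := by
    rw [hc, map_mul, map_mul, map_inv, rb, ← hq₃, hq₂]; group
  have hcent := exp6_centralizes_aux (Nat.card (pCore 3 H)) H (pCore 3 H) le_rfl hP h6 a x haa hx
    (by
      rw [← hb]
      apply hρmem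
      rw [map_mul, map_inv, mul_inv_eq_one, map_mul, map_mul, ra, rb]
      exact hQcomm _ (Subgroup.mul_mem _ hqb hq₁Q) _ (Subgroup.mul_mem _ hq₁Q hq₂Q))
    (by
      rw [← hb, ← hc]
      apply hρmem
      rw [map_mul, map_mul, ra, rb, rc]
      calc ρ q * q₁ * (q₁ * q₂) * (q₂ * ρ q) = ρ q * (q₁ * q₁) * (q₂ * q₂) * ρ q := by group
        _ = 1 := by rw [hsq _ hq₁Q, hsq _ hq₂Q, mul_one, mul_one, hsq _ hqb])
  have haP : a ∈ pCore 3 H := by
    apply hHH
    rw [Subgroup.mem_centralizer_iff]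
    intro u hu
    have := hcent u hu
    calc u * a = (a * u * a⁻¹) * a := by rw [this]
      _ = a * u := by group
  have h1 : ρ q * q₁ = 1 := by rw [← ra]; exact hρ1 a haP
  have h2 : q₁ = ρ q := by
    have : q₁ = (ρ q)⁻¹ := (inv_eq_of_mul_eq_one_right h1).symm
    rw [this, inv_eq_of_mul_eq_one_right (hsq _ hqb)]
  apply hqx
  rw [hq₁] at h2
  calc ρ q * ρ x = ρ x * ((ρ x)⁻¹ * ρ q * ρ x) := by group
    _ = ρ x * ρ q := by rw [h2]

/-- A finite group of exponent dividing `6` is solvable (Burnside). -/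
theorem isSolvable_of_exp6 {G : Type u} [Group G] [Finite G] (h : ∀ x : G, x ^ 6 = 1) :
    Group.IsSolvable G := by
  apply Cfsg.Agent.Lib.Helper3.isSolvable_of_two_primes_aux 2 3 Nat.prime_two Nat.prime_three
    (Nat.card G) G rfl
  intro r hr hdvd
  haveI : Fact r.Prime := ⟨hr⟩
  obtain ⟨g, hg⟩ := exists_prime_orderOf_dvd_card' (G := G) r hdvd
  have h1 : r ∣ 2 * 3 := by rw [← hg]; exact orderOf_dvd_of_pow_eq_one (h g)
  rcases (Nat.Prime.dvd_mul hr).1 h1 with h2 | h2
  · exact Or.inl ((Nat.prime_dvd_prime_iff_eq hr Nat.prime_two).1 h2)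
  · exact Or.inr ((Nat.prime_dvd_prime_iff_eq hr Nat.prime_three).1 h2)

/-- **Hall–Higman**: a finite group of exponent dividing `6` has `2`-length and `3`-length at most
`1`. -/
theorem pLengthLE_of_exp6 {G : Type u} [Group G] [Finite G] (h : ∀ x : G, x ^ 6 = 1) :
    PLengthLE 2 1 G ∧ PLengthLE 3 1 G := by
  haveI : Group.IsSolvable G := isSolvable_of_exp6 h
  have hq : ∀ (p : ℕ) (y : G ⧸ pPrimeCore p G), y ^ 6 = 1 := by
    intro p y
    obtain ⟨g, rfl⟩ := QuotientGroup.mk'_surjective (pPrimeCore p G) y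
    rw [← map_pow, h, map_one]
  constructor
  · apply pLengthLE_one_of_forall 2
    intro g
    refine ⟨3, by norm_num, ?_⟩
    show (QuotientGroup.mk' (pPrimeCore 2 G)) (g ^ 3) ∈ pCore 2 (G ⧸ pPrimeCore 2 G)
    apply mem_pCore_two_of_exp6 (hq 2) (Cfsg.Agent.Lib.Helper55.pPrimeCore_quotient_eq_bot 2)
    rw [← map_mul, ← pow_add, h, map_one]
  · apply pLengthLE_one_of_forall 3
    intro g
    refine ⟨2, by norm_num, ?_⟩
    show (QuotientGroup.mk' (pPrimeCore 3 G)) (g ^ 2) ∈ pCore 3 (G ⧸ pPrimeCore 3 G)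
    apply mem_pCore_three_of_exp6 (hq 3) (Cfsg.Agent.Lib.Helper55.pPrimeCore_quotient_eq_bot 3)
    rw [← map_mul, ← map_mul, ← pow_add, ← pow_add, h, map_one]

end Cfsg.Agent.Lib.Helper54
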