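import Mathlib
import Cfsg.Prelude.Def_Local
import Cfsg.Agent.Lib.Helper54.Balance

set_option autoImplicit false
set_option linter.style.haveILetI false
set_option linter.unusedSectionVars false

namespace Cfsg.Agent.Lib.Helper54

open Cfsg

variable {G : Type*} [Group G]

theorem mem_centralizer_singleton_iff (a g : G) :
    g ∈ Subgroup.centralizer ({a} : Set G) ↔ a * g = g * a := by
  rw [Subgroup.mem_centralizer_iff]
  constructor
  · intro h; exact h a rfl
  · intro h w hw
    rw [Set.mem_singleton_iff] at hw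
    rw [hw]; exact h

theorem centralizerPPrimeCore_le (p : ℕ) (a : G) :
    centralizerPPrimeCore p a ≤ Subgroup.centralizer ({a} : Set G) :=
  Subgroup.map_subtype_le _

theorem conj_mem_centralizerPPrimeCore (p : ℕ) (a g x : G)
    (hg : g ∈ Subgroup.centralizer ({a} : Set G)) (hx : x ∈ centralizerPPrimeCore p a) :
    g * x * g⁻¹ ∈ centralizerPPrimeCore p a := by
  obtain ⟨x', hx', rfl⟩ := hx
  exact ⟨⟨g, hg⟩ * x' * ⟨g, hg⟩⁻¹, (Helper55.pPrimeCore_normal' p).conj_mem x' hx' ⟨g, hg⟩, rfl⟩

theorem card_centralizerPPrimeCore_coprime [Finite G] (p : ℕ) (a : G) :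
    (Nat.card (centralizerPPrimeCore p a)).Coprime p := by
  have : Nat.card (centralizerPPrimeCore p a) =
      Nat.card (pPrimeCore p (Subgroup.centralizer ({a} : Set G))) :=
    Nat.card_congr ((pPrimeCore p (Subgroup.centralizer ({a} : Set G))).equivMapOfInjective _
      (Subgroup.subtype_injective _)).symm.toEquiv
  rw [this]
  exact Helper55.pPrimeCore_card_coprime p

/-- **Balance**: if `C_G(b)` is `p`-constrained (in the form: `C_G(b) / O_{p'}` has a
self-centralizing `p`-core) and `a` is a `p`-element commuting with `b`, then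
`O_{p'}(C_G(a)) ∩ C_G(b) ≤ O_{p'}(C_G(b))`. -/
theorem centralizerPPrimeCore_inf_le [Finite G] (p : ℕ) [Fact p.Prime] (a b : G)
    (hab : a * b = b * a) (ha : IsPGroup p (Subgroup.zpowers a))
    (hc : Subgroup.centralizer
        (pCore p (Subgroup.centralizer ({b} : Set G) ⧸
          pPrimeCore p (Subgroup.centralizer ({b} : Set G))) :
          Set (Subgroup.centralizer ({b} : Set G) ⧸
            pPrimeCore p (Subgroup.centralizer ({b} : Set G)))) ≤
      pCore p (Subgroup.centralizer ({b} : Set G) ⧸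
        pPrimeCore p (Subgroup.centralizer ({b} : Set G)))) :
    centralizerPPrimeCore p a ⊓ Subgroup.centralizer ({b} : Set G) ≤ centralizerPPrimeCore p b := by
  obtain ⟨Cb, hCb⟩ : ∃ Cb, Cb = Subgroup.centralizer ({b} : Set G) := ⟨_, rfl⟩
  have hθb : centralizerPPrimeCore p b = (pPrimeCore p Cb).map Cb.subtype := by
    rw [hCb]; rfl
  rw [hθb]
  rw [← hCb] at hc ⊢
  have haCb : a ∈ Cb := by
    rw [hCb, mem_centralizer_singleton_iff]; exact hab.symm
  obtain ⟨Y, hY⟩ : ∃ Y : Subgroup Cb, Y = (centralizerPPrimeCore p a ⊓ Cb).subgroupOf Cb :=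
    ⟨_, rfl⟩
  have hmemY : ∀ y : Cb, y ∈ Y ↔ (y : G) ∈ centralizerPPrimeCore p a := by
    intro y
    rw [hY, Subgroup.mem_subgroupOf, Subgroup.mem_inf]
    exact ⟨fun h => h.1, fun h => ⟨h, y.2⟩⟩
  have hP : IsPGroup p (Subgroup.zpowers (⟨a, haCb⟩ : Cb)) := by
    rintro ⟨g, hg⟩
    rw [Subgroup.mem_zpowers_iff] at hg
    obtain ⟨n, rfl⟩ := hg
    obtain ⟨k, hk⟩ := ha ⟨a ^ n, Subgroup.zpow_mem_zpowers a n⟩
    refine ⟨k, ?_⟩
    have hk' : (a ^ n) ^ p ^ k = 1 := congrArg Subtype.val hk
    apply Subtype.ext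
    apply Subtype.ext
    simpa using hk'
  have hYle : Y ≤ pPrimeCore p Cb := by
    apply le_pPrimeCore_of_normalized_by_centralizer p hc _ hP Y
    · have h1 : Nat.card Y = Nat.card (centralizerPPrimeCore p a ⊓ Cb : Subgroup G) := by
        rw [hY]
        exact Nat.card_congr (Subgroup.subgroupOfEquivOfLe inf_le_right).toEquiv
      rw [h1]
      exact Nat.Coprime.coprime_dvd_left (Subgroup.card_dvd_of_le inf_le_left)
        (card_centralizerPPrimeCore_coprime p a)
    · intro y hy
      have hya : a * (y : G) = (y : G) * a :=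
        (mem_centralizer_singleton_iff a _).mp (centralizerPPrimeCore_le p a ((hmemY y).mp hy))
      rw [Subgroup.mem_centralizer_iff]
      intro u hu
      rw [SetLike.mem_coe, Subgroup.mem_zpowers_iff] at hu
      obtain ⟨n, rfl⟩ := hu
      have hc' : Commute (⟨a, haCb⟩ : Cb) y := Subtype.ext hya
      exact (hc'.zpow_left n).eq
    · intro g hg y hy
      rw [hmemY] at hy ⊢
      have hga : (g : G) ∈ Subgroup.centralizer ({a} : Set G) := by
        rw [mem_centralizer_singleton_iff]
        rw [Subgroup.mem_centralizer_iff] at hg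
        have := hg ⟨a, haCb⟩ (Subgroup.mem_zpowers _)
        exact congrArg Subtype.val this
      exact conj_mem_centralizerPPrimeCore p a g y hga hy
  rintro x ⟨hx1, hx2⟩
  exact ⟨⟨x, hx2⟩, hYle ((hmemY _).mpr hx1), rfl⟩

/-- **Solvable signalizer functor.** -/
theorem isSolvableSignalizerFunctor_of_solvable_centralizers [Finite G] (p : ℕ) [Fact p.Prime]
    (A : Subgroup G) (hA : IsElementaryAbelian p A)
    (hsolv : ∀ a ∈ A, a ≠ 1 → Group.IsSolvable (Subgroup.centralizer ({a} : Set G))) :
    IsSolvableSignalizerFunctor p A (fun a => centralizerPPrimeCore p a) := by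
  have hcomm : ∀ a ∈ A, ∀ b ∈ A, a * b = b * a := by
    intro a ha b hb
    have := hA.1.is_comm.comm (⟨a, ha⟩ : A) ⟨b, hb⟩
    exact congrArg Subtype.val this
  have hpg : ∀ a ∈ A, IsPGroup p (Subgroup.zpowers a) := by
    rintro a ha ⟨g, hg⟩
    rw [Subgroup.mem_zpowers_iff] at hg
    obtain ⟨n, rfl⟩ := hg
    refine ⟨1, Subtype.ext ?_⟩
    have h1 : a ^ p = 1 := hA.2 a ha
    simp only [pow_one, Subgroup.coe_pow, Subgroup.coe_one]
    rw [← zpow_natCast, ← zpow_mul, mul_comm, zpow_mul, zpow_natCast, h1, one_zpow]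
  refine ⟨⟨?_, ?_, ?_, ?_⟩, ?_⟩
  · intro a _ _
    exact centralizerPPrimeCore_le p a
  · intro a _ _
    exact ((Fact.out : p.Prime).coprime_iff_not_dvd).mp
      (card_centralizerPPrimeCore_coprime p a).symm
  · intro a ha _ b hb x hx
    apply conj_mem_centralizerPPrimeCore p a b x _ hx
    rw [mem_centralizer_singleton_iff]
    exact hcomm a ha b hb
  · intro a ha _ b hb hb1
    haveI := hsolv b hb hb1
    exact centralizerPPrimeCore_inf_le p a b (hcomm a ha b hb) (hpg a ha)
      (centralizer_pCore_quotient_le_of_isSolvable p)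
  · intro a ha ha1
    haveI := hsolv a ha ha1
    exact solvable_of_solvable_injective
      (Subgroup.inclusion_injective (centralizerPPrimeCore_le p a))

end Cfsg.Agent.Lib.Helper54
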