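import Mathlib

set_option autoImplicit false
set_option linter.style.haveILetI false
set_option linter.unusedSectionVars false

/-!
# The diagonal of `L × L^x × ⋯ × L^(x^(p-1))`

For a subgroup `L` whose conjugates `L^(x^i)`, `i < p`, pairwise commute and `x ^ p = 1`, the map
`a ↦ a * (x a x⁻¹) * ⋯ * (x^(p-1) a x^-(p-1))` is a homomorphism `L → C_G(x)`.
-/

namespace Cfsg.Agent.Lib.Helper54

section diag

variable {G : Type*} [Group G] (x : G)

/-- `dg x n a = a * (x a x⁻¹) * ⋯ * (x^(n-1) a x^-(n-1))` -/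
def dg : ℕ → G → G
  | 0, _ => 1
  | n + 1, a => dg n a * (x ^ n * a * (x ^ n)⁻¹)

@[simp] theorem dg_zero (a : G) : dg x 0 a = 1 := rfl

theorem dg_succ (n : ℕ) (a : G) : dg x (n + 1) a = dg x n a * (x ^ n * a * (x ^ n)⁻¹) := rfl

theorem dg_one_right (n : ℕ) : dg x n 1 = 1 := by
  induction n with
  | zero => rfl
  | succ n ih => rw [dg_succ, ih]; simp

/-- `x (dg n a) x⁻¹ = a⁻¹ dg (n+1) a` -/
theorem conj_dg (n : ℕ) (a : G) : x * dg x n a * x⁻¹ = a⁻¹ * dg x (n + 1) a := by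
  induction n with
  | zero => simp [dg]
  | succ n ih =>
    have h1 : x * dg x (n + 1) a * x⁻¹ =
        (x * dg x n a * x⁻¹) * (x ^ (n + 1) * a * (x ^ (n + 1))⁻¹) := by
      rw [dg_succ, pow_succ']; group
    rw [h1, ih, dg_succ x (n + 1), mul_assoc]

theorem dg_conj_of_commute (g : G) (hg : Commute g x) (n : ℕ) (a : G) :
    g * dg x n a * g⁻¹ = dg x n (g * a * g⁻¹) := by
  induction n with
  | zero => simp
  | succ n ih =>
    rw [dg_succ, dg_succ, ← ih]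
    have h1 : Commute g (x ^ n) := hg.pow_right n
    have h2 : g * (x ^ n) = (x ^ n) * g := h1.eq
    have h3 : (x ^ n)⁻¹ * g⁻¹ = g⁻¹ * (x ^ n)⁻¹ := by
      rw [← mul_inv_rev, ← mul_inv_rev, h2]
    calc g * (dg x n a * (x ^ n * a * (x ^ n)⁻¹)) * g⁻¹
        = g * dg x n a * (g⁻¹ * g) * (x ^ n) * a * ((x ^ n)⁻¹ * g⁻¹) := by group
      _ = g * dg x n a * g⁻¹ * (g * x ^ n) * a * ((x ^ n)⁻¹ * g⁻¹) := by group
      _ = g * dg x n a * g⁻¹ * (x ^ n * g) * a * (g⁻¹ * (x ^ n)⁻¹) := by rw [h2, h3]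
      _ = g * dg x n a * g⁻¹ * (x ^ n * (g * a * g⁻¹) * (x ^ n)⁻¹) := by group

variable (L : Subgroup G) (p : ℕ)
  (hcomm : ∀ i j : ℕ, i < p → j < p → i ≠ j → ∀ a ∈ L, ∀ b ∈ L,
    Commute (x ^ i * a * (x ^ i)⁻¹) (x ^ j * b * (x ^ j)⁻¹))

include hcomm

theorem commute_dg (n m : ℕ) (hnm : n ≤ m) (hm : m < p) (a c : G) (ha : a ∈ L) (hc : c ∈ L) :
    Commute (dg x n a) (x ^ m * c * (x ^ m)⁻¹) := by
  induction n with
  | zero => exact Commute.one_left _
  | succ n ih =>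
    rw [dg_succ]
    exact (ih (by omega)).mul_left (hcomm n m (by omega) hm (by omega) a ha c hc)

theorem dg_mul (n : ℕ) (hn : n ≤ p) (a b : G) (ha : a ∈ L) (hb : b ∈ L) :
    dg x n (a * b) = dg x n a * dg x n b := by
  induction n with
  | zero => simp
  | succ n ih =>
    rw [dg_succ, dg_succ, dg_succ, ih (by omega)]
    have h1 := commute_dg x L p hcomm n n le_rfl (by omega) b a hb ha
    have h2 : x ^ n * (a * b) * (x ^ n)⁻¹ = (x ^ n * a * (x ^ n)⁻¹) * (x ^ n * b * (x ^ n)⁻¹) := by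
      group
    rw [h2]
    calc dg x n a * dg x n b * (x ^ n * a * (x ^ n)⁻¹ * (x ^ n * b * (x ^ n)⁻¹))
        = dg x n a * (dg x n b * (x ^ n * a * (x ^ n)⁻¹)) * (x ^ n * b * (x ^ n)⁻¹) := by group
      _ = dg x n a * ((x ^ n * a * (x ^ n)⁻¹) * dg x n b) * (x ^ n * b * (x ^ n)⁻¹) := by
          rw [h1.eq]
      _ = dg x n a * (x ^ n * a * (x ^ n)⁻¹) * (dg x n b * (x ^ n * b * (x ^ n)⁻¹)) := by group

theorem commute_conj_dg (n : ℕ) (hn : n + 1 ≤ p) (a c : G) (ha : a ∈ L) (hc : c ∈ L) :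
    Commute (x * dg x n a * x⁻¹) c := by
  induction n with
  | zero => simp
  | succ n ih =>
    have h1 : x * dg x (n + 1) a * x⁻¹ =
        (x * dg x n a * x⁻¹) * (x ^ (n + 1) * a * (x ^ (n + 1))⁻¹) := by
      rw [dg_succ, pow_succ']; group
    rw [h1]
    have h2 := hcomm (n + 1) 0 (by omega) (by omega) (by omega) a ha c hc
    simp only [pow_zero, one_mul, inv_one, mul_one] at h2
    exact (ih (by omega)).mul_left h2

/-- `dg p a = a * T a` with `T a = x (dg (p-1) a) x⁻¹` commuting with `L` -/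
theorem dg_eq_mul_conj (hp : 0 < p) (a : G) :
    dg x p a = a * (x * dg x (p - 1) a * x⁻¹) := by
  obtain ⟨q, rfl⟩ : ∃ q, p = q + 1 := ⟨p - 1, by omega⟩
  rw [Nat.add_sub_cancel, conj_dg]
  group

theorem conj_dg_p (hp : 0 < p) (hxp : x ^ p = 1) (a : G) (ha : a ∈ L) :
    x * dg x p a * x⁻¹ = dg x p a := by
  rw [conj_dg, dg_succ, hxp]
  have h1 := dg_eq_mul_conj x L p hcomm hp a
  have h2 := commute_conj_dg x L p hcomm (p - 1) (by omega) a a ha ha
  rw [h1]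
  simp only [one_mul, inv_one, mul_one]
  calc a⁻¹ * (a * (x * dg x (p - 1) a * x⁻¹) * a)
      = (x * dg x (p - 1) a * x⁻¹) * a := by group
    _ = a * (x * dg x (p - 1) a * x⁻¹) := h2.eq

theorem commute_of_dg_eq_one (hp : 0 < p) (a : G) (ha : a ∈ L) (h : dg x p a = 1) (c : G)
    (hc : c ∈ L) : Commute a c := by
  have h1 := dg_eq_mul_conj x L p hcomm hp a
  rw [h] at h1
  have h2 := commute_conj_dg x L p hcomm (p - 1) (by omega) a c ha hc
  have h3 : a = (x * dg x (p - 1) a * x⁻¹)⁻¹ := eq_inv_of_mul_eq_one_left h1.symm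
  rw [h3]
  exact h2.inv_left

/-- the diagonal homomorphism `L → G` -/
def dgHom (hp : 0 < p) : L →* G where
  toFun a := dg x p (a : G)
  map_one' := dg_one_right x p
  map_mul' a b := dg_mul x L p hcomm p le_rfl a b a.2 b.2

omit hcomm in
@[simp] theorem dgHom_apply (hcomm' : ∀ i j : ℕ, i < p → j < p → i ≠ j → ∀ a ∈ L, ∀ b ∈ L,
    Commute (x ^ i * a * (x ^ i)⁻¹) (x ^ j * b * (x ^ j)⁻¹)) (hp : 0 < p) (a : L) :
    dgHom x L p hcomm' hp a = dg x p (a : G) := rfl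

end diag

end Cfsg.Agent.Lib.Helper54
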