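import Mathlib
import Cfsg.Prelude.Def_Local
import Cfsg.Agent.Lib.Helper21.Components
import Cfsg.Agent.Lib.Helper21.Quasisimple
import Cfsg.Agent.Lib.Helper22.FStar
import Cfsg.Agent.Lib.Helper24.Coprime
import Cfsg.Agent.Lib.Helper30.PPrimeCore
import Cfsg.Agent.Lib.Helper54.Diagonal
import Cfsg.Agent.Lib.Helper54.Balance2

set_option autoImplicit false
set_option linter.style.haveILetI false
set_option linter.unusedSectionVars false

namespace Cfsg.Agent.Lib.Helper54

open Cfsg

/-- a perfect nontrivial group all of whose normal subgroups are everything or central is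
quasisimple (after helper23) -/
theorem isQuasisimple_of_normal_central' {Q : Type*} [Group Q] [hperf : Group.IsPerfect Q]
    [hnt : Nontrivial Q]
    (h : ∀ M : Subgroup Q, M.Normal → M = ⊤ ∨ M ≤ Subgroup.center Q) : IsQuasisimple Q := by
  refine ⟨hperf, ?_⟩
  have hne : Subgroup.center Q ≠ ⊤ := by
    intro htop
    have : IsMulCommutative Q := by
      refine ⟨⟨fun a b => ?_⟩⟩
      have ha : a ∈ Subgroup.center Q := htop ▸ Subgroup.mem_top a
      exact (Subgroup.mem_center_iff.mp ha b).symm
    exact Group.IsPerfect.not_isMulCommutative Q this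
  refine @IsSimpleGroup.mk _ _ ?_ ?_
  · rw [← not_subsingleton_iff_nontrivial]
    intro hs
    apply hne
    rw [eq_top_iff]
    intro x _
    have : (QuotientGroup.mk' (Subgroup.center Q) x) = 1 := Subsingleton.elim _ _
    exact (QuotientGroup.eq_one_iff x).mp this
  · intro H hH
    have hM : (H.comap (QuotientGroup.mk' (Subgroup.center Q))).Normal := inferInstance
    rcases h _ hM with h1 | h1
    · right
      have := congrArg (Subgroup.map (QuotientGroup.mk' (Subgroup.center Q))) h1
      rw [Subgroup.map_comap_eq_self_of_surjective (QuotientGroup.mk'_surjective _),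
        Subgroup.map_top_of_surjective _ (QuotientGroup.mk'_surjective _)] at this
      exact this
    · left
      rw [eq_bot_iff]
      intro x hx
      obtain ⟨y, rfl⟩ := QuotientGroup.mk'_surjective (Subgroup.center Q) x
      have hy : y ∈ H.comap (QuotientGroup.mk' (Subgroup.center Q)) := hx
      rw [Subgroup.mem_bot]
      exact (QuotientGroup.eq_one_iff y).mpr (h1 hy)

/-- a component of a group with trivial `p'`-core is not a `p'`-group -/
theorem component_not_coprime' {G : Type*} [Group G] [Finite G] (p : ℕ)
    (hO : pPrimeCore p G = ⊥) {M : Subgroup G} (hM : IsComponent M) :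
    ¬ (Nat.card M).Coprime p := by
  intro hc
  have h1 := Helper30.subnormal_le_pPrimeCore p M hM.1 hc
  rw [hO, le_bot_iff] at h1
  exact Helper22.component_ne_bot hM h1

/-- a perfect finite group whose central quotient is a `p'`-group is a `p'`-group -/
theorem card_coprime_of_index_center_coprime {Q : Type*} [Group Q] [Finite Q] (p : ℕ)
    (hperf : commutator Q = ⊤) (h : (Subgroup.center Q).index.Coprime p) :
    (Nat.card Q).Coprime p := by
  have h3 := Subgroup.card_commutator_dvd_index_center_pow Q
  rw [hperf, Subgroup.card_top] at h3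
  exact Nat.Coprime.coprime_dvd_left h3 (Nat.Coprime.pow_left _ h)

theorem mem_normalizer_iff_map_conj_eq {G : Type*} [Group G] (g : G) (H : Subgroup G) :
    g ∈ Subgroup.normalizer (H : Set G) ↔ H.map (MulAut.conj g).toMonoidHom = H := by
  rw [Subgroup.mem_normalizer_iff]
  constructor
  · intro h
    ext y
    constructor
    · rintro ⟨z, hz, rfl⟩
      exact (h z).mp hz
    · intro hy
      refine ⟨g⁻¹ * y * g, ?_, ?_⟩
      · rw [SetLike.mem_coe, h]
        have : g * (g⁻¹ * y * g) * g⁻¹ = y := by group
        rw [this]; exact hy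
      · change g * (g⁻¹ * y * g) * g⁻¹ = y
        group
  · intro h z
    constructor
    · intro hz
      rw [← h]
      exact ⟨z, hz, rfl⟩
    · intro hz
      rw [← h] at hz
      obtain ⟨w, hw, hwz⟩ := hz
      have hwz' : g * w * g⁻¹ = g * z * g⁻¹ := hwz
      have : w = z := by
        have := congrArg (fun t => g⁻¹ * t * g) hwz'
        simpa [mul_assoc] using this
      rw [← this]; exact hw

/-- if `x ^ p = 1` and `k` is prime to `p` then `x` is a power of `x ^ k` -/
theorem mem_of_pow_mem_of_coprime' {G : Type*} [Group G] (S : Subgroup G) (x : G) (p k : ℕ)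
    (hxp : x ^ p = 1) (hk : Nat.Coprime k p) (h : x ^ k ∈ S) : x ∈ S := by
  have h1 : (1 : ℤ) = k * Nat.gcdA k p + p * Nat.gcdB k p := by
    have := Nat.gcd_eq_gcd_ab k p
    rw [hk] at this
    exact_mod_cast this
  have h2 : x = (x ^ k) ^ (Nat.gcdA k p) * (x ^ p) ^ (Nat.gcdB k p) := by
    rw [← zpow_natCast x k, ← zpow_natCast x p, ← zpow_mul, ← zpow_mul, ← zpow_add, ← h1, zpow_one]
  rw [h2, hxp, one_zpow, mul_one]
  exact S.zpow_mem h _

/-- **`O_{p'}(C_G(x))` centralizes the components not moved "properly" by `x`.** -/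
theorem commutator_component_centralizerPPrimeCore {G : Type*} [Group G] [Finite G] (p : ℕ)
    [Fact p.Prime] (hO : pPrimeCore p G = ⊥) (x : G) (hx : orderOf x = p) (L : Subgroup G)
    (hL : IsComponent L) (hne : ⁅L, Subgroup.zpowers x⁆ ≠ L) :
    ⁅L, centralizerPPrimeCore p x⁆ = ⊥ := by
  have hLperf : ⁅L, L⁆ = L := Helper22.component_perfect hL
  haveI hLperf' : Group.IsPerfect L := hL.2.1
  haveI hLnt : Nontrivial L := Helper21.quasisimple_nontrivial hL.2
  obtain ⟨C, hC⟩ : ∃ C, C = Subgroup.centralizer ({x} : Set G) := ⟨_, rfl⟩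
  have hΘ : centralizerPPrimeCore p x = (pPrimeCore p C).map C.subtype := by rw [hC]; rfl
  have hΘC : centralizerPPrimeCore p x ≤ C := hC ▸ centralizerPPrimeCore_le p x
  have hmemC : ∀ g, g ∈ C ↔ x * g = g * x := by
    intro g; rw [hC]; exact mem_centralizer_singleton_iff x g
  -- a component of `C` that is not a `p'`-group commutes with `Θ`
  have hcompC : ∀ J : Subgroup G, J ≤ C → IsComponent (J.subgroupOf C) →
      ¬ (Nat.card J).Coprime p → ∀ y ∈ centralizerPPrimeCore p x, ∀ j ∈ J, y * j = j * y := by
    intro J hJC hJ hJp y hy j hj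
    haveI hn : (pPrimeCore p C).Normal := Helper55.pPrimeCore_normal' p
    rcases Helper21.component_le_or_commutes_normal hJ hn with h | h
    · exfalso; apply hJp
      have h1 : Nat.card (J.subgroupOf C) = Nat.card J :=
        Nat.card_congr (Subgroup.subgroupOfEquivOfLe hJC).toEquiv
      rw [← h1]
      exact Nat.Coprime.coprime_dvd_left (Subgroup.card_dvd_of_le h)
        (Helper55.pPrimeCore_card_coprime p)
    · rw [hΘ] at hy
      obtain ⟨y', hy', rfl⟩ := hy
      have h2 := Subgroup.commutator_eq_bot_iff_le_centralizer.mp h hy'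
      rw [Subgroup.mem_centralizer_iff] at h2
      have h3 := h2 ⟨j, hJC hj⟩ (Subgroup.mem_subgroupOf.mpr hj)
      exact (congrArg Subtype.val h3).symm
  -- reduction of the goal
  suffices hsuff : ∀ y ∈ centralizerPPrimeCore p x, ∀ a ∈ L, ∀ c ∈ L,
      Commute (y * a * y⁻¹ * a⁻¹) c by
    have h1 : ⁅⁅centralizerPPrimeCore p x, L⁆, L⁆ = ⊥ := by
      rw [Subgroup.commutator_eq_bot_iff_le_centralizer, Subgroup.commutator_le]
      intro y hy a ha
      rw [Subgroup.mem_centralizer_iff]
      intro c hc
      exact ((hsuff y hy a ha c hc).eq).symm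
    have h2 := Helper21.commutator_eq_bot_of_perfect hLperf h1
    rwa [Subgroup.commutator_comm]
  by_cases hxL : x ∈ Subgroup.normalizer (L : Set G)
  · -- `x` normalizes `L`, hence centralizes it
    have hAL : Subgroup.zpowers x ≤ Subgroup.normalizer (L : Set G) :=
      Subgroup.zpowers_le.mpr hxL
    have hZL : ⁅L, Subgroup.zpowers x⁆ ≤ L := Helper24.commutator_le_of_le_normalizer L _ hAL
    haveI hZn : ((⁅L, Subgroup.zpowers x⁆ : Subgroup G).subgroupOf L).Normal := by
      refine ⟨fun z hz l => ?_⟩
      rw [Subgroup.mem_subgroupOf] at hz ⊢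
      have := Helper24.le_normalizer_commutator_left L (Subgroup.zpowers x) l.2
      exact (Subgroup.mem_normalizer_iff.mp this z).mp hz
    have hcent : ∀ z ∈ ⁅L, Subgroup.zpowers x⁆, ∀ l ∈ L, l * z = z * l := by
      rcases Helper21.quasisimple_subnormal hL.2 hZn.isSubnormal with h | h
      · exfalso
        apply hne
        apply le_antisymm hZL
        intro l hl
        have : (⟨l, hl⟩ : L) ∈ (⁅L, Subgroup.zpowers x⁆ : Subgroup G).subgroupOf L := by
          rw [h]; trivial
        exact Subgroup.mem_subgroupOf.mp this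
      · intro z hz l hl
        have h1 := h (Subgroup.mem_subgroupOf.mpr (show ((⟨z, hZL hz⟩ : L) : G) ∈ _ from hz))
        have h2 := Subgroup.mem_center_iff.mp h1 ⟨l, hl⟩
        exact congrArg Subtype.val h2
    have h1 : ⁅⁅Subgroup.zpowers x, L⁆, L⁆ = ⊥ := by
      rw [Subgroup.commutator_comm (Subgroup.zpowers x) L,
        Subgroup.commutator_eq_bot_iff_le_centralizer]
      intro z hz
      rw [Subgroup.mem_centralizer_iff]
      intro l hl
      exact hcent z hz l hl
    have h2 := Helper21.commutator_eq_bot_of_perfect hLperf h1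
    have hLC : L ≤ C := by
      intro l hl
      rw [hmemC]
      have h3 := Subgroup.commutator_eq_bot_iff_le_centralizer.mp h2 (Subgroup.mem_zpowers x)
      rw [Subgroup.mem_centralizer_iff] at h3
      exact (h3 l hl).symm
    have hcomm := hcompC L hLC (Helper21.component_subgroupOf hL hLC)
      (component_not_coprime' p hO hL)
    intro y hy a ha c hc
    have : y * a * y⁻¹ * a⁻¹ = 1 := by
      rw [hcomm y hy a ha]; group
    rw [this]
    exact Commute.one_left c
  · -- `x` moves `L`
    have hp0 : 0 < p := (Fact.out : p.Prime).pos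
    have hxp : x ^ p = 1 := hx ▸ pow_orderOf_eq_one x
    have hpow : ∀ k : ℕ, 0 < k → k < p → x ^ k ∉ Subgroup.normalizer (L : Set G) := by
      intro k hk0 hkp hmem
      apply hxL
      apply mem_of_pow_mem_of_coprime' _ x p k hxp _ hmem
      exact (Nat.coprime_of_lt_prime hk0.ne' hkp (Fact.out : p.Prime)).symm
    have hLi : ∀ g : G, IsComponent (L.map (MulAut.conj g).toMonoidHom) := fun g =>
      Helper22.isComponent_map_equiv (MulAut.conj g) hL
    -- `L` commutes with `L^(x^k)`
    have hcomm0 : ∀ k : ℕ, 0 < k → k < p → ∀ a ∈ L, ∀ b ∈ L,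
        Commute a (x ^ k * b * (x ^ k)⁻¹) := by
      intro k hk0 hkp a ha b hb
      have hne' : L ≠ L.map (MulAut.conj (x ^ k)).toMonoidHom := by
        intro heq
        exact hpow k hk0 hkp ((mem_normalizer_iff_map_conj_eq _ _).mpr heq.symm)
      have h1 := Helper22.components_commute hL (hLi (x ^ k)) hne'
      have h2 := Subgroup.commutator_eq_bot_iff_le_centralizer.mp h1 ha
      rw [Subgroup.mem_centralizer_iff] at h2
      exact (h2 _ ⟨b, hb, rfl⟩).symm
    have hcomm : ∀ i j : ℕ, i < p → j < p → i ≠ j → ∀ a ∈ L, ∀ b ∈ L,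
        Commute (x ^ i * a * (x ^ i)⁻¹) (x ^ j * b * (x ^ j)⁻¹) := by
      have key : ∀ i j : ℕ, i < j → j < p → ∀ a ∈ L, ∀ b ∈ L,
          Commute (x ^ i * a * (x ^ i)⁻¹) (x ^ j * b * (x ^ j)⁻¹) := by
        intro i j hij hj a ha b hb
        have h1 := hcomm0 (j - i) (by omega) (by omega) a ha b hb
        have h2 : x ^ j = x ^ i * x ^ (j - i) := by rw [← pow_add]; congr 1; omega
        have h3 : x ^ j * b * (x ^ j)⁻¹ =
            x ^ i * (x ^ (j - i) * b * (x ^ (j - i))⁻¹) * (x ^ i)⁻¹ := by
          rw [h2]; group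
        rw [h3]
        have h4 := h1.eq
        change x ^ i * a * (x ^ i)⁻¹ * (x ^ i * (x ^ (j - i) * b * (x ^ (j - i))⁻¹) * (x ^ i)⁻¹) =
          x ^ i * (x ^ (j - i) * b * (x ^ (j - i))⁻¹) * (x ^ i)⁻¹ * (x ^ i * a * (x ^ i)⁻¹)
        calc x ^ i * a * (x ^ i)⁻¹ * (x ^ i * (x ^ (j - i) * b * (x ^ (j - i))⁻¹) * (x ^ i)⁻¹)
            = x ^ i * (a * (x ^ (j - i) * b * (x ^ (j - i))⁻¹)) * (x ^ i)⁻¹ := by group
          _ = x ^ i * ((x ^ (j - i) * b * (x ^ (j - i))⁻¹) * a) * (x ^ i)⁻¹ := by rw [h4]
          _ = _ := by group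
      intro i j hi hj hij a ha b hb
      rcases lt_or_gt_of_ne hij with h | h
      · exact key i j h hj a ha b hb
      · exact (key j i h hi b hb a ha).symm
    -- the diagonal
    obtain ⟨δ, hδ⟩ : ∃ δ : L →* G, δ = dgHom x L p hcomm hp0 := ⟨_, rfl⟩
    have hδapp : ∀ a : L, δ a = dg x p (a : G) := by
      intro a; rw [hδ]; rfl
    have hδC : ∀ a : L, δ a ∈ C := by
      intro a
      rw [hmemC, hδapp]
      have h1 := conj_dg_p x L p hcomm hp0 hxp a a.2
      calc x * dg x p (a : G) = (x * dg x p (a : G) * x⁻¹) * x := by group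
        _ = dg x p (a : G) * x := by rw [h1]
    have hker : ∀ a : L, δ a = 1 → ∀ c ∈ L, Commute (a : G) c := by
      intro a ha c hc
      rw [hδapp] at ha
      exact commute_of_dg_eq_one x L p hcomm hp0 a a.2 ha c hc
    have hNL : layer G ≤ Subgroup.normalizer (L : Set G) := by
      apply sSup_le
      intro K hK
      by_cases hKL : K = L
      · rw [hKL]; exact Subgroup.le_normalizer
      · have h1 := Helper22.components_commute hK hL hKL
        exact (Subgroup.commutator_eq_bot_iff_le_centralizer.mp h1).trans
          (Subgroup.centralizer_le_normalizer _)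
    have hδconj : ∀ g : G, g ∈ C → ∀ hg : g ∈ Subgroup.normalizer (L : Set G), ∀ a : L,
        g * δ a * g⁻¹ = δ ⟨g * a * g⁻¹, (Subgroup.mem_normalizer_iff.mp hg a).mp a.2⟩ := by
      intro g hgC hg a
      rw [hδapp, hδapp]
      exact dg_conj_of_commute x g ((hmemC g).mp hgC).symm p a
    have hJC : δ.range ≤ C := by
      rintro _ ⟨a, rfl⟩; exact hδC a
    have hLlayer : L ≤ layer G := Helper22.component_le_layer hL
    haveI hlayn : (layer G).Normal := Helper22.layer_normal G
    have hJlayer : δ.range ≤ layer G := by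
      rintro _ ⟨a, rfl⟩
      rw [hδapp]
      have : ∀ n : ℕ, dg x n (a : G) ∈ layer G := by
        intro n
        induction n with
        | zero => exact (layer G).one_mem
        | succ n ih =>
          rw [dg_succ]
          exact (layer G).mul_mem ih (hlayn.conj_mem _ (hLlayer a.2) _)
      exact this p
    -- the diagonal is quasisimple
    have hJq : IsQuasisimple δ.range := by
      have hsurj := MonoidHom.rangeRestrict_surjective δ
      haveI : Group.IsPerfect δ.range := Group.IsPerfect.ofSurjective hsurj
      haveI : Nontrivial δ.range := by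
        by_contra hnt
        rw [not_nontrivial_iff_subsingleton] at hnt
        have : IsMulCommutative L := by
          refine ⟨⟨fun a b => ?_⟩⟩
          have h1 : δ a = 1 := by
            have := Subsingleton.elim (δ.rangeRestrict a) 1
            exact congrArg Subtype.val this
          exact Subtype.ext (hker a h1 b b.2).eq
        exact Group.IsPerfect.not_isMulCommutative L this
      apply isQuasisimple_of_normal_central'
      intro M hM
      haveI hMc : (M.comap δ.rangeRestrict).Normal := hM.comap _
      rcases Helper21.quasisimple_subnormal hL.2 hMc.isSubnormal with h | h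
      · left
        rw [eq_top_iff]
        intro q _
        obtain ⟨a, rfl⟩ := hsurj q
        have : a ∈ M.comap δ.rangeRestrict := by rw [h]; trivial
        exact this
      · right
        intro m hm
        rw [Subgroup.mem_center_iff]
        intro q
        obtain ⟨a, rfl⟩ := hsurj m
        obtain ⟨b, rfl⟩ := hsurj q
        have ha : a ∈ Subgroup.center L := h hm
        rw [← map_mul, ← map_mul, Subgroup.mem_center_iff.mp ha b]
    -- the diagonal is subnormal in `C`
    have hJsn : (δ.range.subgroupOf C).IsSubnormal := by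
      haveI hEn : ((layer G).subgroupOf C).Normal := Subgroup.Normal.subgroupOf hlayn C
      have hle : δ.range.subgroupOf C ≤ (layer G).subgroupOf C := by
        intro c hc
        rw [Subgroup.mem_subgroupOf] at hc ⊢
        exact hJlayer hc
      apply Subgroup.IsSubnormal.trans hle _ hEn.isSubnormal
      apply Subgroup.Normal.isSubnormal
      refine ⟨fun j hj g => ?_⟩
      rw [Subgroup.mem_subgroupOf, Subgroup.mem_subgroupOf] at hj ⊢
      obtain ⟨a, ha⟩ := hj
      have hgC : ((g : C) : G) ∈ C := (g : C).2
      have hgN : ((g : C) : G) ∈ Subgroup.normalizer (L : Set G) :=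
        hNL (Subgroup.mem_subgroupOf.mp g.2)
      have h1 := hδconj _ hgC hgN a
      rw [ha] at h1
      refine ⟨⟨((g : C) : G) * a * ((g : C) : G)⁻¹,
        (Subgroup.mem_normalizer_iff.mp hgN a).mp a.2⟩, ?_⟩
      rw [← h1]; rfl
    have hJcomp : IsComponent (δ.range.subgroupOf C) :=
      ⟨hJsn, Helper21.quasisimple_of_mulEquiv (Subgroup.subgroupOfEquivOfLe hJC).symm hJq⟩
    have hJp : ¬ (Nat.card δ.range).Coprime p := by
      intro hcop
      have h1 : δ.ker.index = Nat.card δ.range := Subgroup.index_ker δ
      have h2 : δ.ker ≤ Subgroup.center L := by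
        intro a ha
        rw [Subgroup.mem_center_iff]
        intro b
        exact Subtype.ext ((hker a ha b b.2).eq).symm
      have h3 : (Subgroup.center L).index ∣ δ.ker.index := Subgroup.index_dvd_of_le h2
      have h4 : (Subgroup.center L).index.Coprime p :=
        Nat.Coprime.coprime_dvd_left h3 (h1 ▸ hcop)
      exact component_not_coprime' p hO hL
        (card_coprime_of_index_center_coprime p hLperf'.commutator_eq_top h4)
    have hΘJ := hcompC δ.range hJC hJcomp hJp
    -- `Θ` normalizes `L`
    have hΘN : ∀ y ∈ centralizerPPrimeCore p x, y ∈ Subgroup.normalizer (L : Set G) := by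
      intro y hy
      have hyx : Commute y x := ((hmemC y).mp (hΘC hy)).symm
      by_cases hex : ∃ i, i < p ∧ L.map (MulAut.conj y).toMonoidHom =
          L.map (MulAut.conj (x ^ i)).toMonoidHom
      · obtain ⟨i, hi, heq⟩ := hex
        have hg : (x ^ i)⁻¹ * y ∈ Subgroup.normalizer (L : Set G) := by
          apply Subgroup.mem_normalizer_fintype
          intro l hl
          have h1 : y * l * y⁻¹ ∈ L.map (MulAut.conj (x ^ i)).toMonoidHom := by
            rw [← heq]; exact ⟨l, hl, rfl⟩
          obtain ⟨l', hl', hl'eq⟩ := h1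
          have hl'eq' : x ^ i * l' * (x ^ i)⁻¹ = y * l * y⁻¹ := hl'eq
          have : (x ^ i)⁻¹ * y * l * ((x ^ i)⁻¹ * y)⁻¹ = l' := by
            calc (x ^ i)⁻¹ * y * l * ((x ^ i)⁻¹ * y)⁻¹
                = (x ^ i)⁻¹ * (y * l * y⁻¹) * (x ^ i) := by group
              _ = l' := by rw [← hl'eq']; group
          rw [this]; exact hl'
        rcases Nat.eq_zero_or_pos i with h0 | h0
        · subst h0
          simpa using hg
        · exfalso
          have hcop : (orderOf y).Coprime p := by
            have h1 : orderOf y ∣ Nat.card (centralizerPPrimeCore p x) := by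
              have := orderOf_dvd_natCard (⟨y, hy⟩ : centralizerPPrimeCore p x)
              rwa [← Subgroup.orderOf_coe] at this
            exact Nat.Coprime.coprime_dvd_left h1 (card_centralizerPPrimeCore_coprime p x)
          have hk := Subgroup.pow_mem _ hg (orderOf y)
          have hcomm' : Commute ((x ^ i)⁻¹) y := (hyx.pow_right i).inv_right.symm
          rw [hcomm'.mul_pow, pow_orderOf_eq_one, mul_one, inv_pow, ← pow_mul] at hk
          have hk' : x ^ (i * orderOf y) ∈ Subgroup.normalizer (L : Set G) := by
            have := Subgroup.inv_mem _ hk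
            rwa [inv_inv] at this
          apply hxL
          apply mem_of_pow_mem_of_coprime' _ x p _ hxp _ hk'
          exact Nat.Coprime.mul_left
            (Nat.coprime_of_lt_prime h0.ne' hi (Fact.out : p.Prime)).symm hcop
      · exfalso
        push Not at hex
        have hcB : ∀ i, i < p → ∀ a ∈ L, ∀ b ∈ L,
            Commute (y * b * y⁻¹) (x ^ i * a * (x ^ i)⁻¹) := by
          intro i hi a ha b hb
          have h1 := Helper22.components_commute (hLi y) (hLi (x ^ i)) (hex i hi)
          have h2 := Subgroup.commutator_eq_bot_iff_le_centralizer.mp h1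
            (show y * b * y⁻¹ ∈ L.map (MulAut.conj y).toMonoidHom from ⟨b, hb, rfl⟩)
          rw [Subgroup.mem_centralizer_iff] at h2
          exact (h2 _ ⟨a, ha, rfl⟩).symm
        have hcB' : ∀ n, n ≤ p → ∀ a ∈ L, ∀ b ∈ L, Commute (y * b * y⁻¹) (dg x n a) := by
          intro n
          induction n with
          | zero => intro _ a _ b _; exact Commute.one_right _
          | succ n ih =>
            intro hn a ha b hb
            rw [dg_succ]
            exact (ih (by omega) a ha b hb).mul_right (hcB n (by omega) a ha b hb)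
        have hab : ∀ a b : L, a * b = b * a := by
          intro a b
          have h1 := hcB' p le_rfl a a.2 b b.2
          have h2 : y * dg x p (a : G) = dg x p (a : G) * y := by
            have := hΘJ y hy (δ a) ⟨a, rfl⟩
            rwa [hδapp] at this
          have h3 : Commute (b : G) (dg x p (a : G)) := by
            have h4 : (b : G) = y⁻¹ * (y * b * y⁻¹) * y := by group
            rw [h4]
            have hy' : Commute y (dg x p (a : G)) := h2
            exact (hy'.inv_left.mul_left h1).mul_left hy'
          have h5 := dg_eq_mul_conj x L p hcomm hp0 (a : G)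
          have h6 := commute_conj_dg x L p hcomm (p - 1) (by omega) a b a.2 b.2
          rw [h5] at h3
          have h7 : (b : G) * a = a * b := by
            have e1 := h3.eq
            have e2 := h6.eq
            calc (b : G) * a = (b * (a * (x * dg x (p - 1) (a : G) * x⁻¹))) *
                  (x * dg x (p - 1) (a : G) * x⁻¹)⁻¹ := by group
              _ = (a * (x * dg x (p - 1) (a : G) * x⁻¹) * b) *
                  (x * dg x (p - 1) (a : G) * x⁻¹)⁻¹ := by rw [e1]
              _ = a * ((x * dg x (p - 1) (a : G) * x⁻¹) * b) *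
                  (x * dg x (p - 1) (a : G) * x⁻¹)⁻¹ := by group
              _ = a * (b * (x * dg x (p - 1) (a : G) * x⁻¹)) *
                  (x * dg x (p - 1) (a : G) * x⁻¹)⁻¹ := by rw [e2]
              _ = a * b := by group
          exact Subtype.ext h7.symm
        exact Group.IsPerfect.not_isMulCommutative L ⟨⟨hab⟩⟩
    -- conclusion
    intro y hy a ha c hc
    have hyN := hΘN y hy
    have hyC := hΘC hy
    have h1 := hδconj y hyC hyN ⟨a, ha⟩
    have h2 : y * δ ⟨a, ha⟩ * y⁻¹ = δ ⟨a, ha⟩ := by
      rw [hΘJ y hy (δ ⟨a, ha⟩) ⟨_, rfl⟩]; group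
    rw [h2] at h1
    have h3 : δ (⟨y * a * y⁻¹, (Subgroup.mem_normalizer_iff.mp hyN a).mp ha⟩ * (⟨a, ha⟩ : L)⁻¹) = 1 := by
      rw [map_mul, map_inv, ← h1, mul_inv_cancel]
    exact hker _ h3 c hc

end Cfsg.Agent.Lib.Helper54
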