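import Mathlib
import Cfsg.Prelude.Def_Local
import Cfsg.Agent.Lib.Helper76.PSolvable
import Cfsg.Agent.Lib.Helper53.SolvPSolv
import Cfsg.Agent.Lib.Helper55.Cores
import Cfsg.Agent.Lib.Helper55.SolvCore
import Cfsg.Agent.Lib.Helper54.PConstr4

set_option autoImplicit false
set_option linter.style.haveILetI false

/-! Extensions of `p`-solvable groups by `p`-solvable groups are `p`-solvable. -/

namespace Cfsg.Agent.Lib.Helper54

open Cfsg

universe u

/-- a `p'`-group is `p`-solvable -/
theorem isPSolvable_of_coprime (p : ℕ) {Y : Type*} [Group Y] (h : (Nat.card Y).Coprime p) :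
    IsPSolvable p Y := by
  refine ⟨1, ![⊥, ⊤], rfl, rfl, ?_, ?_, ?_⟩
  · rw [Fin.monotone_iff_le_succ]
    intro i
    fin_cases i
    exact bot_le
  · intro i
    fin_cases i
    · exact Subgroup.normal_bot
    · exact Subgroup.normal_top
  · intro i
    fin_cases i
    right
    show ((⊥ : Subgroup Y).relIndex ⊤).Coprime p
    rw [Subgroup.relIndex_top_right, Subgroup.index_bot]
    exact h

/-- a `p`-group is `p`-solvable -/
theorem isPSolvable_of_isPGroup (p : ℕ) {Y : Type*} [Group Y] [Finite Y] [Fact p.Prime]
    (h : IsPGroup p Y) : IsPSolvable p Y := by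
  refine ⟨1, ![⊥, ⊤], rfl, rfl, ?_, ?_, ?_⟩
  · rw [Fin.monotone_iff_le_succ]
    intro i
    fin_cases i
    exact bot_le
  · intro i
    fin_cases i
    · exact Subgroup.normal_bot
    · exact Subgroup.normal_top
  · intro i
    fin_cases i
    left
    show ∃ m : ℕ, (⊥ : Subgroup Y).relIndex ⊤ = p ^ m
    rw [Subgroup.relIndex_top_right, Subgroup.index_bot]
    exact IsPGroup.iff_card.mp h

theorem isPSolvable_ext_aux (p : ℕ) [Fact p.Prime] :
    ∀ (n : ℕ) (Y : Type u) [Group Y] [Finite Y], Nat.card Y = n →
      ∀ (N : Subgroup Y) [N.Normal], IsPSolvable p ↥N → IsPSolvable p (Y ⧸ N) →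
        IsPSolvable p Y := by
  intro n
  induction n using Nat.strong_induction_on with
  | _ n ih =>
    intro Y _ _ hn N hNn hN hQ
    by_cases hbot : N = ⊥
    · subst hbot
      exact Helper76.isPSolvable_of_mulEquiv (QuotientGroup.quotientBot (G := Y)) hQ
    · haveI : Nontrivial ↥N := (Subgroup.nontrivial_iff_ne_bot N).mpr hbot
      obtain ⟨N₁, hN₁n, hN₁1, hN₁⟩ := Helper76.exists_normal_of_isPSolvable hN
      -- a nontrivial normal subgroup `R'` of `Y` inside `N`, a `p`-group or `p'`-group
      obtain ⟨R', hR'n, hR'1, hR'N, hR'f⟩ : ∃ R' : Subgroup Y, R'.Normal ∧ R' ≠ ⊥ ∧ R' ≤ N ∧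
          Helper76.PFactor p (Nat.card R') := by
        rcases hN₁ with hp | hc
        · haveI := hN₁n
          have hle : N₁ ≤ pCore p ↥N := Helper55.le_pCore p N₁ hp
          haveI : (pCore p ↥N).Characteristic := pCore_characteristic' p ↥N
          refine ⟨(pCore p ↥N).map N.subtype, ConjAct.normal_of_characteristic_of_normal, ?_,
            Subgroup.map_subtype_le _, ?_⟩
          · intro h
            rw [Subgroup.map_eq_bot_iff_of_injective _ N.subtype_injective] at h
            rw [h, le_bot_iff] at hle
            exact hN₁1 hle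
          · left
            have : IsPGroup p ((pCore p ↥N).map N.subtype) :=
              (Helper55.pCore_isPGroup p).map _
            exact IsPGroup.iff_card.mp this
        · haveI := hN₁n
          have hle : N₁ ≤ pPrimeCore p ↥N := Helper55.le_pPrimeCore p N₁ hc
          haveI : (pPrimeCore p ↥N).Characteristic := pPrimeCore_characteristic' p ↥N
          refine ⟨(pPrimeCore p ↥N).map N.subtype, ConjAct.normal_of_characteristic_of_normal, ?_,
            Subgroup.map_subtype_le _, ?_⟩
          · intro h
            rw [Subgroup.map_eq_bot_iff_of_injective _ N.subtype_injective] at h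
            rw [h, le_bot_iff] at hle
            exact hN₁1 hle
          · right
            rw [Subgroup.card_map_of_injective N.subtype_injective]
            exact Helper55.pPrimeCore_card_coprime p
      haveI := hR'n
      -- the quotient Y ⧸ R'
      have hcard : Nat.card (Y ⧸ R') < n := by
        have h1 : Nat.card Y = Nat.card (Y ⧸ R') * Nat.card R' := Subgroup.card_eq_card_quotient_mul_card_subgroup R'
        have h2 : 1 < Nat.card R' := by
          rw [Subgroup.one_lt_card_iff_ne_bot]; exact hR'1
        have h3 : 0 < Nat.card (Y ⧸ R') := Nat.card_pos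
        rw [← hn, h1]
        nlinarith
      have hN' : IsPSolvable p ↥(N.map (QuotientGroup.mk' R')) :=
        Helper76.isPSolvable_of_surjective ((QuotientGroup.mk' R').subgroupMap N)
          ((QuotientGroup.mk' R').subgroupMap_surjective N) hN
      have hQ' : IsPSolvable p ((Y ⧸ R') ⧸ N.map (QuotientGroup.mk' R')) :=
        Helper76.isPSolvable_of_mulEquiv
          (QuotientGroup.quotientQuotientEquivQuotient R' N hR'N).symm hQ
      have hIH : IsPSolvable p (Y ⧸ R') :=
        ih _ hcard (Y ⧸ R') rfl (N.map (QuotientGroup.mk' R')) hN' hQ'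
      exact Helper53.isPSolvable_of_normal_quotient R' hR'f hIH

/-- An extension of a `p`-solvable group by a `p`-solvable group is `p`-solvable. -/
theorem isPSolvable_ext (p : ℕ) [Fact p.Prime] {Y : Type u} [Group Y] [Finite Y]
    (N : Subgroup Y) [N.Normal] (hN : IsPSolvable p ↥N) (hQ : IsPSolvable p (Y ⧸ N)) :
    IsPSolvable p Y :=
  isPSolvable_ext_aux p _ Y rfl N hN hQ

end Cfsg.Agent.Lib.Helper54
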