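import Mathlib
import Cfsg.Agent.Lib.Helper6.Nc.Defs
set_option autoImplicit false
namespace Cfsg.Agent.Lib.Helper6.Nc
open Matrix
variable {F : Type*} [Field F]

/-- NC-G3C.  `h = 1 + E_{last,1}`, needs `n ≥ 3`: `h e₀ = e₀`, `e_lastᵀ h = e_lastᵀ + e₁ᵀ`. -/
theorem exists_hh (k : ℕ) : ∃ h : Matrix.SpecialLinearGroup (Fin (k + 3)) F,
    Matrix.SpecialLinearGroup.toGL h ∈ lineStab (Pi.single (0 : Fin (k + 3)) (1 : F)) ∧
    Matrix.SpecialLinearGroup.toGL h ∉ rowStab (Pi.single (Fin.last (k + 2)) (1 : F)) := by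
  have h10 : (1 : Fin (k + 3)) ≠ 0 := by
    intro h
    have := congrArg Fin.val h
    simp at this
  have hl1 : Fin.last (k + 2) ≠ (1 : Fin (k + 3)) := by
    intro h
    have := congrArg Fin.val h
    simp at this
  have hcoe : ∀ i j, ((Matrix.SpecialLinearGroup.toGL
      (⟨Matrix.transvection (Fin.last (k + 2)) (1 : Fin (k + 3)) (1 : F),
        Matrix.det_transvection_of_ne _ _ hl1 1⟩ :
        Matrix.SpecialLinearGroup (Fin (k + 3)) F) : GL (Fin (k + 3)) F) :
          Matrix (Fin (k + 3)) (Fin (k + 3)) F) i j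
      = Matrix.transvection (Fin.last (k + 2)) (1 : Fin (k + 3)) (1 : F) i j := fun _ _ => rfl
  refine ⟨⟨Matrix.transvection (Fin.last (k + 2)) (1 : Fin (k + 3)) (1 : F),
    Matrix.det_transvection_of_ne _ _ hl1 1⟩, ⟨1, ?_⟩, ?_⟩
  · rw [Matrix.mulVec_single_one, Units.val_one, one_smul]
    ext i
    rw [Matrix.col_apply, hcoe]
    simp [Matrix.transvection, Matrix.one_apply, Pi.single_apply, h10]
  · rintro ⟨c, hc⟩
    have h1 := congrFun hc 1
    rw [Matrix.single_one_vecMul] at h1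
    simp only [Matrix.row_apply, Pi.smul_apply, Pi.single_apply, if_neg hl1.symm, smul_eq_mul, mul_zero] at h1
    rw [hcoe] at h1
    simp [Matrix.transvection, hl1] at h1

end Cfsg.Agent.Lib.Helper6.Nc
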