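import Mathlib
import Cfsg.Agent.Lib.Helper6.Nc.Defs
set_option autoImplicit false
namespace Cfsg.Agent.Lib.Helper6.Nc
open Matrix
variable {F : Type*} [Field F]

/-- NC-G3D.  `t = 1 + E_{1,0}`: `t e₀ = e₀ + e₁`. -/
theorem exists_tt (k : ℕ) : ∃ t : Matrix.SpecialLinearGroup (Fin (k + 2)) F,
    Matrix.SpecialLinearGroup.toGL t ∉ lineStab (Pi.single (0 : Fin (k + 2)) (1 : F)) := by
  have h10 : (1 : Fin (k + 2)) ≠ 0 := by
    intro h
    have := congrArg Fin.val h
    simp at this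
  refine ⟨⟨Matrix.transvection (1 : Fin (k + 2)) 0 (1 : F), Matrix.det_transvection_of_ne _ _ h10 1⟩, ?_⟩
  rintro ⟨c, hc⟩
  have h1 := congrFun hc 1
  rw [Matrix.mulVec_single_one] at h1
  simp only [Matrix.col_apply, Pi.smul_apply, Pi.single_apply, if_neg h10, smul_eq_mul, mul_zero] at h1
  have h2 : ((Matrix.SpecialLinearGroup.toGL
      (⟨Matrix.transvection (1 : Fin (k + 2)) 0 (1 : F), Matrix.det_transvection_of_ne _ _ h10 1⟩ :
        Matrix.SpecialLinearGroup (Fin (k + 2)) F) : GL (Fin (k + 2)) F) : Matrix (Fin (k + 2)) (Fin (k + 2)) F) 1 0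
      = 1 := by
    show Matrix.transvection (1 : Fin (k + 2)) 0 (1 : F) 1 0 = 1
    simp [Matrix.transvection, h10]
  rw [h2] at h1
  exact one_ne_zero h1

end Cfsg.Agent.Lib.Helper6.Nc
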