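import Cfsg.Agent.Lib.Helper12.D3Defs
import Cfsg.Agent.Lib.Helper65.D4gCOMM
import Cfsg.Agent.Lib.Helper18.ChevNWord
import Cfsg.Agent.Lib.Helper36.ChevBV
import Cfsg.Agent.S1026

/-! # D3 hive (S2183): leaf D3-NC2 (helper54)

An element `n ∈ N` of `D₄(K)` cannot conjugate `T'(c₁,c₂,c₃,d,e)` with `c₁ ≠ 0`, `c₂ ≠ 0` to a long root element
`x_23(e')`: otherwise `T'` would be a single root element `x_r(u)`, against the uniqueness of the ordered product
over the positive roots (S1026) when `r` is positive, and against `U ∩ V = 1` when `r` is negative. -/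

set_option autoImplicit false

namespace Cfsg.Agent.Lib.Helper12.D3

open Cfsg Cfsg.Lie Cfsg.Agent.Lib.Helper36 Cfsg.Agent.Lib.Helper75.D4g

variable (K : Type*) [Field K]

/-- the coefficient family of `T'(c₁,c₂,c₃,d,e)` -/
def d3nc2_t (c₁ c₂ c₃ d e : K) (r : ℕ) : K :=
  if r = 17 then c₂ else if r = 20 then c₃ else if r = 21 then c₁ else if r = 22 then d else if r = 23 then e else 0

/-- the coefficient family of a single root element `x_r(u)` -/
def d3nc2_s (r : ℕ) (u : K) (r' : ℕ) : K := if r' = r then u else 0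

theorem d3nc2_posRoots : chevD4.posRoots = [12, 13, 14, 15, 16, 17, 18, 19, 20, 21, 22, 23] := by decide

theorem d3nc2_pos (r : ℕ) (h1 : 12 ≤ r) (h2 : r < 24) : chevD4.IsPosRoot r := by
  interval_cases r <;> decide

theorem d3nc2_neg (r : ℕ) (h2 : r < 12) : chevD4.IsNegRoot r := by
  interval_cases r <;> decide

theorem d3nc2_npos (r : ℕ) (hr : ¬ chevD4.IsPosRoot r) : r < 12 ∨ 24 ≤ r := by
  by_contra h
  push Not at h
  exact hr (d3nc2_pos r h.1 h.2)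

theorem d3nc2_supp_t (c₁ c₂ c₃ d e : K) (r : ℕ) (hr : ¬ chevD4.IsPosRoot r) : d3nc2_t K c₁ c₂ c₃ d e r = 0 := by
  unfold d3nc2_t
  have := d3nc2_npos r hr
  have h17 : r ≠ 17 := by omega
  have h20 : r ≠ 20 := by omega
  have h21 : r ≠ 21 := by omega
  have h22 : r ≠ 22 := by omega
  have h23 : r ≠ 23 := by omega
  rw [if_neg h17, if_neg h20, if_neg h21, if_neg h22, if_neg h23]

theorem d3nc2_supp_s (r : ℕ) (hr : chevD4.IsPosRoot r) (u : K) (r' : ℕ) (hr' : ¬ chevD4.IsPosRoot r') :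
    d3nc2_s K r u r' = 0 := by
  unfold d3nc2_s
  have : r' ≠ r := by rintro rfl; exact hr' hr
  rw [if_neg this]

theorem d3nc2_comm_21_17 (a b : K) : xg K 21 a * xg K 17 b = xg K 17 b * xg K 21 a :=
  d4gcomm_nil 21 17 (by decide) (by decide) (by decide) (by decide) (by decide +kernel) a b

theorem d3nc2_comm_21_20 (a b : K) : xg K 21 a * xg K 20 b = xg K 20 b * xg K 21 a :=
  d4gcomm_nil 21 20 (by decide) (by decide) (by decide) (by decide) (by decide +kernel) a b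

theorem d3nc2_reorder (c₁ c₂ c₃ d e : K) :
    T' K c₁ c₂ c₃ d e = xg K 17 c₂ * xg K 20 c₃ * xg K 21 c₁ * xg K 22 d * xg K 23 e := by
  unfold T'
  rw [d3nc2_comm_21_17, mul_assoc (xg K 17 c₂), d3nc2_comm_21_20, ← mul_assoc]

theorem d3nc2_word_t (c₁ c₂ c₃ d e : K) :
    ((T' K c₁ c₂ c₃ d e : GL chevD4.Idx K) : Matrix chevD4.Idx chevD4.Idx K) =
      chevD4.wordMat K (chevD4.posRoots.map fun r => (r, d3nc2_t K c₁ c₂ c₃ d e r)) := by
  rw [d3nc2_reorder, d3nc2_posRoots]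
  unfold ChevalleyDatum.wordMat d3nc2_t
  simp only [List.map_cons, List.map_nil, List.prod_cons, List.prod_nil, mul_one, Units.val_mul, xGL_coe]
  norm_num
  simp only [x_zero chevD4 hD4, one_mul, mul_assoc]

theorem d3nc2_word_s (r : ℕ) (h1 : 12 ≤ r) (h2 : r < 24) (u : K) :
    ((xg K r u : GL chevD4.Idx K) : Matrix chevD4.Idx chevD4.Idx K) =
      chevD4.wordMat K (chevD4.posRoots.map fun r' => (r', d3nc2_s K r u r')) := by
  rw [d3nc2_posRoots]
  unfold ChevalleyDatum.wordMat d3nc2_s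
  simp only [List.map_cons, List.map_nil, List.prod_cons, List.prod_nil, mul_one, xGL_coe]
  interval_cases r <;> norm_num <;> simp only [x_zero chevD4 hD4, one_mul, mul_one]

theorem d3nc2_mem (c₁ c₂ c₃ d e : K) : T' K c₁ c₂ c₃ d e ∈ chevD4.posUnipotent K := by
  unfold T'
  refine mul_mem (mul_mem (mul_mem (mul_mem ?_ ?_) ?_) ?_) ?_
  all_goals exact xGL_mem_pos chevD4 hD4 K _ (by decide) _

/-- `T'(c₁,c₂,c₃,d,e)` with `c₁ ≠ 0`, `c₂ ≠ 0` is not a positive root element -/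
theorem d3nc2_not_pos (c₁ c₂ c₃ d e : K) (h1 : c₁ ≠ 0) (h2 : c₂ ≠ 0) (r : ℕ) (hr1 : 12 ≤ r) (hr2 : r < 24) (u : K)
    (h : T' K c₁ c₂ c₃ d e = xg K r u) : False := by
  obtain ⟨t, -, huniq⟩ := (Cfsg.Agent.S1026.result (F := K) chevD4 hD4).1 _ (d3nc2_mem K c₁ c₂ c₃ d e)
  have e1 := huniq (d3nc2_t K c₁ c₂ c₃ d e) ⟨d3nc2_supp_t K c₁ c₂ c₃ d e, d3nc2_word_t K c₁ c₂ c₃ d e⟩
  have e2 := huniq (d3nc2_s K r u)
    ⟨d3nc2_supp_s K r (d3nc2_pos r hr1 hr2) u, by rw [h]; exact d3nc2_word_s K r hr1 hr2 u⟩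
  have e3 : d3nc2_t K c₁ c₂ c₃ d e = d3nc2_s K r u := e1.trans e2.symm
  have a17 := congrFun e3 17
  have a21 := congrFun e3 21
  simp only [d3nc2_t, d3nc2_s] at a17 a21
  norm_num at a17 a21
  by_cases h17 : 17 = r
  · subst h17
    norm_num at a21
    exact h1 a21
  · rw [if_neg h17] at a17
    exact h2 a17

/-- D3-NC2 -/
theorem monomial_T' [Fintype K] (n : GL chevD4.Idx K) (hn : n ∈ chevD4.monomialSubgroup K) (c₁ c₂ c₃ d e e' : K)
    (h1 : c₁ ≠ 0) (h2 : c₂ ≠ 0) (h : n * T' K c₁ c₂ c₃ d e * n⁻¹ = xg K 23 e') : False := by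
  obtain ⟨l, hl, hact⟩ := Cfsg.Agent.Lib.Helper18.exists_word_conj chevD4 hD4 K n⁻¹ (inv_mem hn)
  obtain ⟨k, -, hk⟩ := hact 23 (by decide)
  have hT : T' K c₁ c₂ c₃ d e = xg K (wRoot chevD4 l 23) (k * e') := by
    have hk' := hk e'
    unfold xg
    rw [← hk', ← xg, ← h]
    group
  have hlt : wRoot chevD4 l 23 < 24 := wRoot_lt chevD4 hD4 l hl 23 (by decide)
  generalize wRoot chevD4 l 23 = r at hT hlt
  by_cases hr : 12 ≤ r
  · exact d3nc2_not_pos K c₁ c₂ c₃ d e h1 h2 r hr hlt _ hT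
  · have hneg : xg K r (k * e') ∈ chevD4.negUnipotent K :=
      Subgroup.subset_closure ⟨r, k * e', d3nc2_neg r (by omega), xGL_coe chevD4 hD4 K r _⟩
    have hb : T' K c₁ c₂ c₃ d e ∈ chevD4.borelSubgroup K := pos_le_borel chevD4 K (d3nc2_mem K c₁ c₂ c₃ d e)
    have hbot : T' K c₁ c₂ c₃ d e ∈ chevD4.borelSubgroup K ⊓ chevD4.negUnipotent K := ⟨hb, hT ▸ hneg⟩
    rw [borel_inf_neg chevD4 hD4 K, Subgroup.mem_bot] at hbot
    refine d3nc2_not_pos K c₁ c₂ c₃ d e h1 h2 12 (by decide) (by decide) 0 ?_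
    rw [hbot]
    exact (xGL_zero chevD4 hD4 K 12).symm

end Cfsg.Agent.Lib.Helper12.D3
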