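import Mathlib
import Cfsg.Agent.Lib.Helper67.OgDefs
import Cfsg.Agent.Lib.Helper37.OrthMinus
import Cfsg.Agent.Lib.Helper43.OrthCardMinus
import Cfsg.Agent.Lib.Helper39.SLPerfect

/-!
# Og hive leaf OG-EE (owner helper67, S2413 / S2414 / S2415): API of the total Eichler element
`Ee` (wrappers of Helper8.Eichler / Eichler2).
-/

set_option autoImplicit false
set_option linter.unusedSectionVars false
set_option linter.unusedVariables false

namespace Cfsg.Agent.Lib.Helper67.Og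

open Matrix Module QuadraticMap
open Cfsg.Agent.Lib.Helper37 Cfsg.Agent.Lib.Helper8 Cfsg.Agent.Lib.Helper43
open Cfsg.Agent.Lib.Helper37.OrthField
open scoped commutatorElement

section abstract

variable {ι : Type} [Fintype ι] [DecidableEq ι] {F : Type*} [Field F]
variable (Q : QuadraticForm F (ι → F)) (hQ : (QuadraticMap.polarBilin Q).Nondegenerate)
variable {k : ℕ} {e f : Fin k → ι → F}
variable {L : Matrix.SpecialLinearGroup (Fin k) F →* ↥(Cfsg.isometryGroup F ⇑Q)}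

theorem ee_of_not {u v : ι → F} (h : ¬ (Q u = 0 ∧ polar ⇑Q u v = 0)) : Ee Q hQ u v = 1 := by
  unfold Ee
  rw [dif_neg h]

theorem act_Ee {u v : ι → F} (hu : Q u = 0) (huv : polar ⇑Q u v = 0) (x : ι → F) :
    act Q (Ee Q hQ u v) x
      = x + polar ⇑Q u x • v - polar ⇑Q v x • u - (Q v * polar ⇑Q u x) • u := by
  rw [Ee_eq Q hQ hu huv]
  exact act_eichlerElt Q hQ u v hu huv x

theorem Ee_conj (g : ↥(Cfsg.isometryGroup F ⇑Q)) (u v : ι → F) :
    g * Ee Q hQ u v * g⁻¹ = Ee Q hQ (act Q g u) (act Q g v) := by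
  have h1 : Q (act Q g u) = Q u := Q_act Q g u
  have h2 : polar ⇑Q (act Q g u) (act Q g v) = polar ⇑Q u v := iso_polar Q g u v
  by_cases h : Q u = 0 ∧ polar ⇑Q u v = 0
  · rw [Ee_eq Q hQ h.1 h.2, Ee_eq Q hQ (h1.trans h.1) (h2.trans h.2)]
    exact conj_eichlerElt Q hQ g u v h.1 h.2
  · have h' : ¬ (Q (act Q g u) = 0 ∧ polar ⇑Q (act Q g u) (act Q g v) = 0) := by
      rw [h1, h2]; exact h
    rw [ee_of_not Q hQ h, ee_of_not Q hQ h', mul_one, mul_inv_cancel]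

theorem Ee_mul {u v v' : ι → F} (hu : Q u = 0) (huv : polar ⇑Q u v = 0)
    (huv' : polar ⇑Q u v' = 0) : Ee Q hQ u v * Ee Q hQ u v' = Ee Q hQ u (v + v') := by
  have h3 : polar ⇑Q u (v + v') = 0 := by rw [polar_add_right, huv, huv', add_zero]
  rw [Ee_eq Q hQ hu huv, Ee_eq Q hQ hu huv', Ee_eq Q hQ hu h3]
  exact eichlerElt_mul Q hQ u v v' hu huv huv'

theorem Ee_zero (u : ι → F) : Ee Q hQ u 0 = 1 := by
  by_cases hu : Q u = 0
  · have h0 : polar ⇑Q u 0 = 0 := by simp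
    rw [Ee_eq Q hQ hu h0]
    exact eichlerElt_zero Q hQ u hu
  · exact ee_of_not Q hQ (fun h => hu h.1)

theorem Ee_inv {u v : ι → F} (hu : Q u = 0) (huv : polar ⇑Q u v = 0) :
    (Ee Q hQ u v)⁻¹ = Ee Q hQ u (-v) := by
  have h3 : polar ⇑Q u (-v) = 0 := by rw [polar_neg_right, huv, neg_zero]
  rw [Ee_eq Q hQ hu huv, Ee_eq Q hQ hu h3]
  exact eichlerElt_inv Q hQ u v hu huv

theorem Ee_add_smul {u v : ι → F} (hu : Q u = 0) (huv : polar ⇑Q u v = 0) (t : F) :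
    Ee Q hQ u (v + t • u) = Ee Q hQ u v := by
  have h3 : polar ⇑Q u (v + t • u) = 0 := by
    rw [polar_add_right, polar_smul_right, huv, polar_self, hu]; simp
  rw [Ee_eq Q hQ hu huv, Ee_eq Q hQ hu h3]
  exact eichlerElt_add_smul Q hQ u v hu huv t

theorem Ee_smul_left {u v : ι → F} (hu : Q u = 0) (huv : polar ⇑Q u v = 0) (c : F) :
    Ee Q hQ (c • u) v = Ee Q hQ u (c • v) := by
  have h1 : Q (c • u) = 0 := by rw [QuadraticMap.map_smul, hu, smul_zero]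
  have h2 : polar ⇑Q (c • u) v = 0 := by rw [polar_smul_left, huv, smul_zero]
  have h3 : polar ⇑Q u (c • v) = 0 := by rw [polar_smul_right, huv, smul_zero]
  rw [Ee_eq Q hQ h1 h2, Ee_eq Q hQ hu h3]
  exact eichlerElt_smul_left Q hQ u v hu huv c

/-- for a singular orthogonal pair `u, v`: `Ee u v = Ee v (-u)` -/
theorem Ee_symm {u v : ι → F} (hu : Q u = 0) (hv : Q v = 0) (huv : polar ⇑Q u v = 0) :
    Ee Q hQ u v = Ee Q hQ v (-u) := by
  have h3 : polar ⇑Q v (-u) = 0 := by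
    rw [polar_neg_right, polar_comm, huv, neg_zero]
  have hmu : Q (-u) = 0 := by rw [QuadraticMap.map_neg]; exact hu
  rw [Ee_eq Q hQ hu huv, Ee_eq Q hQ hv h3]
  apply iso_ext
  intro x
  rw [eichlerElt_mulVec, eichlerElt_mulVec, hv, hmu]
  simp only [polar_neg_left, zero_mul, zero_smul, sub_zero, smul_neg, neg_smul, sub_neg_eq_add]
  abel

theorem Ee_pow {u v : ι → F} (hu : Q u = 0) (huv : polar ⇑Q u v = 0) (n : ℕ) :
    (Ee Q hQ u v) ^ n = Ee Q hQ u ((n : F) • v) := by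
  induction n with
  | zero =>
    rw [pow_zero, Nat.cast_zero, zero_smul, Ee_zero]
  | succ n ih =>
    have h3 : polar ⇑Q u ((n : F) • v) = 0 := by rw [polar_smul_right, huv, smul_zero]
    rw [pow_succ, ih, Ee_mul Q hQ hu h3 huv]
    congr 1
    rw [Nat.cast_succ, add_smul, one_smul]

/-- commutator formula (Helper8 `eichler_commutator`) -/
theorem Ee_commutator {e₁ e₂ w w' : ι → F} (h1 : Q e₁ = 0) (h2 : Q e₂ = 0)
    (h12 : polar ⇑Q e₁ e₂ = 0) (h1w : polar ⇑Q e₁ w = 0) (h2w : polar ⇑Q e₂ w = 0)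
    (h1w' : polar ⇑Q e₁ w' = 0) (h2w' : polar ⇑Q e₂ w' = 0) :
    ⁅Ee Q hQ e₂ w', Ee Q hQ e₁ w⁆ = Ee Q hQ e₁ ((- polar ⇑Q w' w) • e₂) := by
  have h3 : polar ⇑Q e₁ ((- polar ⇑Q w' w) • e₂) = 0 := by
    rw [polar_smul_right, h12, smul_zero]
  rw [Ee_eq Q hQ h2 h2w', Ee_eq Q hQ h1 h1w, Ee_eq Q hQ h1 h3]
  exact eichler_commutator Q hQ e₁ e₂ w w' h1 h2 h12 h1w h2w h1w' h2w'

theorem Ee_mem_omega [Fintype F] (hn : 5 ≤ finrank F (ι → F))
    (hn2 : (2 : F) = 0 → 7 ≤ finrank F (ι → F)) (u v : ι → F) :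
    Ee Q hQ u v ∈ commutator ↥(Cfsg.isometryGroup F ⇑Q) := by
  by_cases h : Q u = 0 ∧ polar ⇑Q u v = 0
  · rw [Ee_eq Q hQ h.1 h.2, omega_eq_closure_longRoot Q hQ hn hn2]
    exact eichlerElt_mem_closure_longRoot Q hQ hn hn2 u v h.1 h.2
  · rw [ee_of_not Q hQ h]
    exact Subgroup.one_mem _

end abstract

end Cfsg.Agent.Lib.Helper67.Og
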