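import Cfsg.Agent.Lib.Helper22.CgDefs

/-!
# Cg hive (S4257), leaf CG8 `cg8` (helper54)

Commuting elements of coprime orders: both class sizes divide the class size of the product.
-/

set_option autoImplicit false

namespace Cfsg.Agent.Lib.Helper22.Cg

open Subgroup

universe u

/-- a power of `z * y` equal to `z`. -/
theorem cg8_pow {G : Type u} [Group G] (z y : G) (hzy : z * y = y * z)
    (hc : (orderOf z).Coprime (orderOf y)) : ∃ n : ℕ, (z * y) ^ n = z := by
  obtain ⟨n, hn1, hn0⟩ := Nat.chineseRemainder hc 1 0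
  refine ⟨n, ?_⟩
  have hcomm : Commute z y := hzy
  rw [hcomm.mul_pow]
  have h1 : z ^ n = z ^ 1 := pow_eq_pow_iff_modEq.mpr hn1
  have h0 : y ^ n = y ^ 0 := pow_eq_pow_iff_modEq.mpr hn0
  rw [h1, h0, pow_one, pow_zero, mul_one]

theorem cg8_le {G : Type u} [Group G] (z w : G) (h : ∃ n : ℕ, w ^ n = z) :
    centralizer ({w} : Set G) ≤ centralizer ({z} : Set G) := by
  obtain ⟨n, rfl⟩ := h
  intro g hg
  rw [mem_centralizer_singleton_iff] at hg ⊢
  have : Commute g w := hg
  exact this.pow_right n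

/-- CG8. commuting elements of coprime orders. -/
theorem cg8 {G : Type u} [Group G] [Finite G] (z y : G) (hzy : z * y = y * z)
    (hc : (orderOf z).Coprime (orderOf y)) : cs z ∣ cs (z * y) ∧ cs y ∣ cs (z * y) := by
  constructor
  · exact Subgroup.index_dvd_of_le (cg8_le z (z * y) (cg8_pow z y hzy hc))
  · have h := cg8_pow y z hzy.symm hc.symm
    rw [← hzy] at h
    exact Subgroup.index_dvd_of_le (cg8_le y (z * y) h)

end Cfsg.Agent.Lib.Helper22.Cg
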