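import Cfsg.Agent.Lib.Helper54.PsPS17core
import Cfsg.Agent.Lib.Helper80.PsPS16

/-!
# Ps hive (S4321), leaf PS17 `ps_cB` (helper54)

`C(b) = P * C_G(P)`: PS16 + the core `ps17_core`.
-/

set_option autoImplicit false

namespace Cfsg.Agent.Lib.Helper41.Ps

open Subgroup
open Cfsg.Agent.Lib.Helper22.Cg

universe u

/-- PS17 (B). `C(b) = P * C_G(P)`. (PS16 + PS15 with `L = {y * c}` a subgroup of `C(b)`) -/
theorem ps_cB {G : Type u} [Group G] [Finite G] (p : ℕ) [Fact p.Prime] (P : Sylow p G) (b : G)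
    (hb : b ∈ P) (hbZ : ∀ y ∈ P, b * y = y * b) (hbp : ∃ n : ℕ, orderOf b = p ^ n)
    (hA : ∀ w : G, w * b = b * w → ¬ p ∣ orderOf w → ¬ p ∣ cs (b * w))
    (g : G) (hg : g * b = b * g) :
    ∃ y ∈ P, ∃ c : G, (∀ u ∈ P, c * u = u * c) ∧ g = y * c :=
  ps17_core p P b (fun g' hg' => ps_cB1 p P b hb hbZ hbp hA g' hg') g hg

end Cfsg.Agent.Lib.Helper41.Ps
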