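import Mathlib
import Cfsg.Agent.Lib.Helper65.QeDefs

/-! # QE-ASM0 `tp_iff` (helper54, Qe hive of helper65, S5988)

`tp F r (j * c) ↔ Odd i ∨ Even j` where `i` is the multiplicative order of `q = card F` modulo the
odd prime `r` and `c = i` (`i` even) or `2 i` (`i` odd). -/

set_option autoImplicit false

namespace Cfsg.Agent.Lib.Helper65.Qe

/-- the order of a nonzero residue modulo a prime is positive -/
theorem asm0_orderOf_pos (r : ℕ) [Fact r.Prime] (q : ℕ) (hrq : ¬ r ∣ q) :
    0 < orderOf ((q : ℕ) : ZMod r) := by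
  have hne : ((q : ℕ) : ZMod r) ≠ 0 := by
    intro h
    exact hrq ((ZMod.natCast_eq_zero_iff q r).mp h)
  have h1 : ((q : ℕ) : ZMod r) ^ (r - 1) = 1 := ZMod.pow_card_sub_one_eq_one hne
  have hr1 : 0 < r - 1 := by
    have := (Fact.out : r.Prime).two_le
    omega
  exact orderOf_pos_iff.mpr (isOfFinOrder_iff_pow_eq_one.mpr ⟨r - 1, hr1, h1⟩)

/-- pure arithmetic core of `tp_iff` -/
theorem asm0_core (r : ℕ) [Fact r.Prime] (q : ℕ) (hrq : ¬ r ∣ q) (i c : ℕ)
    (hi : i = orderOf ((q : ℕ) : ZMod r)) (hc : c = if Even i then i else 2 * i) (j : ℕ) :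
    ((q : ℕ) : ZMod r) ^ (j * c / 2) = 1 ↔ (Odd i ∨ Even j) := by
  have hipos : 0 < i := by rw [hi]; exact asm0_orderOf_pos r q hrq
  rw [← orderOf_dvd_iff_pow_eq_one, ← hi]
  by_cases hev : Even i
  · rw [if_pos hev] at hc
    obtain ⟨k, hk⟩ := hev
    have hk' : i = 2 * k := by omega
    have hkpos : 0 < k := by omega
    have hdiv : j * c / 2 = j * k := by
      rw [hc, hk']
      have : j * (2 * k) = 2 * (j * k) := by ring
      rw [this, Nat.mul_div_cancel_left _ (by norm_num : 0 < 2)]
    rw [hdiv]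
    have hnodd : ¬ Odd i := by
      rw [Nat.not_odd_iff_even]; exact ⟨k, hk⟩
    constructor
    · intro hd
      right
      rw [hk'] at hd
      have h2 : 2 * k ∣ k * j := by rw [Nat.mul_comm k j]; exact hd
      have h3 : 2 ∣ j := by
        rw [Nat.mul_comm 2 k] at h2
        exact (Nat.mul_dvd_mul_iff_left hkpos).mp h2
      exact even_iff_two_dvd.mpr h3
    · rintro (ho | he)
      · exact absurd ho hnodd
      · obtain ⟨t, ht⟩ := he
        rw [hk', ht]
        exact ⟨t, by ring⟩
  · rw [if_neg hev] at hc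
    have hdiv : j * c / 2 = j * i := by
      rw [hc]
      have : j * (2 * i) = 2 * (j * i) := by ring
      rw [this, Nat.mul_div_cancel_left _ (by norm_num : 0 < 2)]
    rw [hdiv]
    constructor
    · intro _
      left
      exact Nat.not_even_iff_odd.mp hev
    · intro _
      exact Dvd.intro_left j rfl

section semisimple

variable {F : Type*} [Field F] [Fintype F]
variable (r : ℕ) [Fact r.Prime]

/-- QE-ASM0: `tp` in numbers: `i` odd: always plus; `i` even (`c = i`, `q^(i/2) = -1`): plus iff `j` even. -/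
theorem tp_iff (hr2 : r ≠ 2) (hrq : ¬ r ∣ Fintype.card F) (i c : ℕ)
    (hi : i = orderOf ((Fintype.card F : ℕ) : ZMod r)) (hc : c = if Even i then i else 2 * i)
    (j : ℕ) : tp F r (j * c) ↔ (Odd i ∨ Even j) := by
  unfold tp
  exact asm0_core r (Fintype.card F) hrq i c hi hc j

end semisimple

end Cfsg.Agent.Lib.Helper65.Qe
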