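import Mathlib
import Cfsg.Agent.Lib.Helper14.QmDefs

/-! # QM-CONJ `fixesQ_of_conj` (helper54, Qm hive of helper14, S5990)

Transfer of `FixesQ` along a conjugating isometry (`W := W'.map g.symm`). -/

set_option autoImplicit false

namespace Cfsg.Agent.Lib.Helper14.Qm

open Module
open Cfsg.Agent.Lib.Helper2.BG Cfsg.Agent.Lib.Helper99 Cfsg.Agent.Lib.Helper48.Ti
open Cfsg.Agent.Lib.Helper65.Qe (pol PlusQ IsomQ FixesQ tp)

section char2

variable {F : Type*} [Field F]

/-- the polar form is preserved by an isometry -/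
theorem conj_pol {V : Type*} [AddCommGroup V] [Module F V] {Q : QuadraticForm F V}
    (g : V ≃ₗ[F] V) (hg : ∀ v, Q (g v) = Q v) (u v : V) : pol Q (g u) (g v) = pol Q u v := by
  simp only [pol, QuadraticMap.polarBilin_apply_apply, QuadraticMap.polar]
  rw [← map_add, hg, hg, hg]

/-- plus type is transported along an isometry -/
theorem conj_plusQ {V : Type*} [AddCommGroup V] [Module F V] {Q : QuadraticForm F V}
    (g : V ≃ₗ[F] V) (hg : ∀ v, Q (g v) = Q v) (W : Submodule F V) (h : PlusQ Q W) :
    PlusQ Q (W.map (g : V →ₗ[F] V)) := by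
  obtain ⟨U, hUW, hU0, hUd⟩ := h
  refine ⟨U.map (g : V →ₗ[F] V), Submodule.map_mono hUW, ?_, ?_⟩
  · rintro _ ⟨u, hu, rfl⟩
    have : Q (g u) = 0 := by rw [hg]; exact hU0 u hu
    exact this
  · have h1 : finrank F ↥(U.map (g : V →ₗ[F] V)) = finrank F ↥U := LinearEquiv.finrank_map_eq g U
    have h2 : finrank F ↥(W.map (g : V →ₗ[F] V)) = finrank F ↥W := LinearEquiv.finrank_map_eq g W
    rw [h1, h2]; exact hUd

/-- QM-CONJ (abstract): transfer along a conjugating isometry (`W := W'.map g.symm`). -/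
theorem fixesQ_of_conj {V : Type*} [AddCommGroup V] [Module F V] {Q : QuadraticForm F V}
    {t t' : Module.End F V} (g : V ≃ₗ[F] V) (hg : ∀ v, Q (g v) = Q v)
    (hgt : ∀ z, g (t z) = t' (g z)) (m : ℕ) (b : Prop) (h : FixesQ Q t' m b) :
    FixesQ Q t m b := by
  obtain ⟨W', hinv, hnd, hdim, htyp⟩ := h
  have hgs : ∀ v, Q (g.symm v) = Q v := by
    intro v
    have := hg (g.symm v)
    rw [LinearEquiv.apply_symm_apply] at this
    exact this.symm
  have hmem : ∀ v, v ∈ W'.map (g.symm : V →ₗ[F] V) ↔ g v ∈ W' := by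
    intro v
    constructor
    · rintro ⟨w, hw, rfl⟩
      have : g (g.symm w) = w := LinearEquiv.apply_symm_apply g w
      show g (g.symm w) ∈ W'
      rw [this]; exact hw
    · intro hv
      exact ⟨g v, hv, LinearEquiv.symm_apply_apply g v⟩
  refine ⟨W'.map (g.symm : V →ₗ[F] V), ?_, ?_, ?_, ?_⟩
  · intro v hv
    rw [hmem] at hv ⊢
    rw [hgt]
    exact hinv _ hv
  · intro u hu hall
    rw [hmem] at hu
    have h0 : g u = 0 := by
      apply hnd (g u) hu
      intro w hw
      have hw' : g.symm w ∈ W'.map (g.symm : V →ₗ[F] V) := ⟨w, hw, rfl⟩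
      have h1 := hall (g.symm w) hw'
      have h2 := conj_pol g hg u (g.symm w)
      rw [LinearEquiv.apply_symm_apply] at h2
      rw [h2]; exact h1
    exact (LinearEquiv.map_eq_zero_iff g).mp h0
  · rw [← hdim]
    exact LinearEquiv.finrank_map_eq g.symm W'
  · rw [← htyp]
    constructor
    · intro hp
      have := conj_plusQ g hg _ hp
      have hback : (W'.map (g.symm : V →ₗ[F] V)).map (g : V →ₗ[F] V) = W' := by
        ext x
        constructor
        · rintro ⟨y, hy, rfl⟩
          exact (hmem y).mp hy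
        · intro hx
          exact ⟨g.symm x, ⟨x, hx, rfl⟩, LinearEquiv.apply_symm_apply g x⟩
      rw [hback] at this
      exact this
    · intro hp
      exact conj_plusQ g.symm hgs _ hp

end char2

end Cfsg.Agent.Lib.Helper14.Qm
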