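import Cfsg.Agent.Lib.Helper2.G2iRel
import Cfsg.Agent.Lib.Helper20.G2cNRIG

/-! # G2i mini-hive (S2177): leaf G2I-N9 (helper54)

An element `n ∈ N` conjugating `T c d e`, `c ≠ 0`, to `T c' d' e'` has `c' ≠ 0`
(the proof of `monomial_rigid` up to `s1 = 9`, then `T_inj`). -/

set_option autoImplicit false

namespace Cfsg.Agent.Lib.Helper2.G2i

open Cfsg Cfsg.Lie Cfsg.Agent.Lib.Helper36 Cfsg.Agent.Lib.Helper18 Cfsg.Agent.Lib.Helper20.G2c

variable (F : Type*) [Field F]

/-- G2I-N9 -/
theorem monomial_keep9 (n : GL chevG2.Idx F) (hn : n ∈ chevG2.monomialSubgroup F) (c d e c' d' e' : F)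
    (hc : c ≠ 0) (h : n * T F c d e * n⁻¹ = T F c' d' e') : c' ≠ 0 := by
  obtain ⟨l, hl, hact⟩ := exists_word_conj chevG2 hG2 F n hn
  have hO := nrig_orbit l hl
  have hchk := nrig_chk _ hO
  obtain ⟨k9, hk9, a9⟩ := hact 9 (by decide)
  obtain ⟨k10, hk10, a10⟩ := hact 10 (by decide)
  obtain ⟨k11, hk11, a11⟩ := hact 11 (by decide)
  generalize wRoot chevG2 l 7 = s7 at *
  generalize wRoot chevG2 l 8 = s8 at *
  generalize wRoot chevG2 l 9 = s1 at *
  generalize wRoot chevG2 l 10 = s2 at *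
  generalize wRoot chevG2 l 11 = s3 at *
  unfold nrigChk at hchk
  simp only [Bool.and_eq_true, decide_eq_true_eq] at hchk
  obtain ⟨⟨⟨⟨⟨⟨-, -, h1lt, h2lt, h3lt⟩, f23⟩, f13⟩, f12⟩, h12, h13⟩, hlast⟩ := hchk
  have hconj : n * T F c d e * n⁻¹ = xg F s1 (k9 * c) * xg F s2 (k10 * d) * xg F s3 (k11 * e) := by
    unfold T xg
    rw [← a9, ← a10, ← a11]
    group
  have hmat : chevG2.x F s1 (k9 * c) * chevG2.x F s2 (k10 * d) * chevG2.x F s3 (k11 * e) =
      chevG2.x F 9 c' * chevG2.x F 10 d' * chevG2.x F 11 e' := by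
    have := congrArg (fun g : GL chevG2.Idx F => (g : Matrix chevG2.Idx chevG2.Idx F)) (hconj.symm.trans h)
    simp only [nrig_T_coe] at this
    rw [← this]
    unfold xg
    rw [Units.val_mul, Units.val_mul, xGL_coe, xGL_coe, xGL_coe]
  have hkc : k9 * c ≠ 0 := mul_ne_zero hk9 hc
  have hs1 : s1 = 9 := by
    by_contra hne
    rw [if_neg hne, decide_eq_true_eq] at hlast
    obtain ⟨h10, h11, hcart⟩ := hlast
    have key := nrig_entry F s1 s2 s3 h1lt h2lt h3lt f23 f13 f12 h12 h13 hne h10 h11 _ _ _ _ _ _ hmat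
    rcases hcart with hcart | hcart | hcart | hcart
    · have := key ⟨0, by decide⟩
      simp only [hcart] at this
      exact hkc (by simpa using this)
    · have := key ⟨0, by decide⟩
      simp only [hcart] at this
      exact hkc (by simpa using this)
    · have := key ⟨1, by decide⟩
      simp only [hcart] at this
      exact hkc (by simpa using this)
    · have := key ⟨1, by decide⟩
      simp only [hcart] at this
      exact hkc (by simpa using this)
  rw [if_pos hs1, decide_eq_true_eq] at hlast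
  obtain ⟨-, h23⟩ := hlast
  subst hs1
  rcases h23 with ⟨e2, e3⟩ | ⟨e2, e3⟩
  · subst e2 e3
    have hT : T F (k9 * c) (k10 * d) (k11 * e) = T F c' d' e' := by
      rw [← h, hconj]
      rfl
    have := (T_inj F _ _ _ _ _ _ hT).1
    rw [← this]
    exact hkc
  · subst e2 e3
    have hT : T F (k9 * c) (k11 * e) (k10 * d) = T F c' d' e' := by
      rw [← h, hconj]
      unfold T
      rw [mul_assoc, mul_assoc, (comm10_11 F (k11 * e) (k10 * d)).eq]
    have := (T_inj F _ _ _ _ _ _ hT).1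
    rw [← this]
    exact hkc

end Cfsg.Agent.Lib.Helper2.G2i
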