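import Cfsg.Agent.Lib.Helper2.G2iRel
import Cfsg.Agent.S1026

/-! # G2i mini-hive (S2177): leaf G2I-UNIQ (helper54)

`x_7(s) x_8(a) T(c,d,e) = x_7(s₂) x_8(a₂) T(c₂,d₂,e₂)` forces `s = s₂` and `a = a₂` (indeed all five coordinates):
uniqueness of the ordered product over the positive roots (S1026). -/

set_option autoImplicit false

namespace Cfsg.Agent.Lib.Helper2.G2i

open Cfsg Cfsg.Lie Cfsg.Agent.Lib.Helper36 Cfsg.Agent.Lib.Helper20.G2c

variable (F : Type*) [Field F]

/-- the coefficient family of `x_7(s) x_8(a) T(c,d,e)` -/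
def uniq_t (s a c d e : F) (r : ℕ) : F :=
  if r = 7 then s else if r = 8 then a else if r = 9 then c else if r = 10 then d else if r = 11 then e else 0

theorem uniq_posRoots : chevG2.posRoots = [6, 7, 8, 9, 10, 11] := by decide

theorem uniq_supp (s a c d e : F) (r : ℕ) (hr : ¬ chevG2.IsPosRoot r) : uniq_t F s a c d e r = 0 := by
  unfold uniq_t
  have h7 : r ≠ 7 := by rintro rfl; exact hr (by decide)
  have h8 : r ≠ 8 := by rintro rfl; exact hr (by decide)
  have h9 : r ≠ 9 := by rintro rfl; exact hr (by decide)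
  have h10 : r ≠ 10 := by rintro rfl; exact hr (by decide)
  have h11 : r ≠ 11 := by rintro rfl; exact hr (by decide)
  rw [if_neg h7, if_neg h8, if_neg h9, if_neg h10, if_neg h11]

theorem uniq_word (s a c d e : F) :
    ((xg F 7 s * xg F 8 a * T F c d e : GL chevG2.Idx F) : Matrix chevG2.Idx chevG2.Idx F) =
      chevG2.wordMat F (chevG2.posRoots.map fun r => (r, uniq_t F s a c d e r)) := by
  rw [uniq_posRoots]
  unfold ChevalleyDatum.wordMat uniq_t T xg
  simp only [List.map_cons, List.map_nil, List.prod_cons, List.prod_nil, mul_one, Units.val_mul, xGL_coe]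
  norm_num
  rw [x_zero chevG2 hG2, one_mul]
  simp only [mul_assoc]

theorem uniq_mem (s a c d e : F) : xg F 7 s * xg F 8 a * T F c d e ∈ chevG2.posUnipotent F := by
  unfold T
  refine mul_mem (mul_mem ?_ ?_) (mul_mem (mul_mem ?_ ?_) ?_)
  all_goals exact xGL_mem_pos chevG2 hG2 F _ (by decide) _

/-- G2I-UNIQ -/
theorem rad_form_inj (s a c d e s₂ a₂ c₂ d₂ e₂ : F)
    (h : xg F 7 s * xg F 8 a * T F c d e = xg F 7 s₂ * xg F 8 a₂ * T F c₂ d₂ e₂) : s = s₂ ∧ a = a₂ := by
  obtain ⟨t, -, huniq⟩ := (Cfsg.Agent.S1026.result (F := F) chevG2 hG2).1 _ (uniq_mem F s a c d e)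
  have h1 := huniq (uniq_t F s a c d e) ⟨uniq_supp F s a c d e, uniq_word F s a c d e⟩
  have h2 := huniq (uniq_t F s₂ a₂ c₂ d₂ e₂) ⟨uniq_supp F s₂ a₂ c₂ d₂ e₂, by rw [h]; exact uniq_word F s₂ a₂ c₂ d₂ e₂⟩
  have h3 : uniq_t F s a c d e = uniq_t F s₂ a₂ c₂ d₂ e₂ := h1.trans h2.symm
  constructor
  · have := congrFun h3 7
    simpa [uniq_t] using this
  · have := congrFun h3 8
    simpa [uniq_t] using this

end Cfsg.Agent.Lib.Helper2.G2i
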