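import Cfsg.Agent.Lib.Helper2.G2oDefs
import Cfsg.Agent.Lib.Helper18.ChevNWord

/-! # G2o hive (S4278, architect helper2): leaf G2O-CLS (helper54)

An involution `n` of `N` is `N`-conjugate to an element of Weyl type `1`, `s_a`, `s_b` or `w₀ = -1`.
`exists_word_conj` gives the word `l`; the table `(wRoot l r)_{r<12}` is one of the 12 elements of `W(G₂)`
(`cls_orbit`, by `decide`); `n * n = 1` makes it an involution (`cls_root_eq`), and every involution table is conjugate
by an explicit word to one of the four targets (`cls_table`, by `decide`). -/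

set_option autoImplicit false

namespace Cfsg.Agent.Lib.Helper2.G2o

open Cfsg Cfsg.Lie Cfsg.Agent.Lib.Helper36 Cfsg.Agent.Lib.Helper18 Cfsg.Agent.Lib.Helper20.G2c

variable (F : Type*) [Field F]

theorem cls_nroots : chevG2.nroots = 12 := by decide

theorem cls_rank : chevG2.rank = 2 := by decide

variable {F}

/-- `Acts` only depends on the values of the map on the roots -/
theorem cls_acts_congr {n : GL chevG2.Idx F} {π π' : ℕ → ℕ} (h : Acts F n π)
    (e : ∀ r < chevG2.nroots, π r = π' r) : Acts F n π' := by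
  intro r hr
  obtain ⟨c, hc, hact⟩ := h r hr
  exact ⟨c, hc, fun t => by rw [hact t, e r hr]⟩

/-- `Acts` of a product -/
theorem cls_acts_mul {a b : GL chevG2.Idx F} {π σ : ℕ → ℕ} (ha : Acts F a π) (hb : Acts F b σ)
    (hσ : ∀ r < chevG2.nroots, σ r < chevG2.nroots) : Acts F (a * b) (π ∘ σ) := by
  intro r hr
  obtain ⟨c, hc, hbact⟩ := hb r hr
  obtain ⟨c', hc', haact⟩ := ha (σ r) (hσ r hr)
  refine ⟨c' * c, mul_ne_zero hc' hc, fun t => ?_⟩
  calc a * b * xg F r t * (a * b)⁻¹ = a * (b * xg F r t * b⁻¹) * a⁻¹ := by group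
    _ = xg F (π (σ r)) (c' * (c * t)) := by rw [hbact t, haact (c * t)]
    _ = xg F ((π ∘ σ) r) (c' * c * t) := by rw [mul_assoc]; rfl

/-- `Acts` of an inverse -/
theorem cls_acts_inv {a : GL chevG2.Idx F} {π π' : ℕ → ℕ} (ha : Acts F a π)
    (h : ∀ r < chevG2.nroots, π' r < chevG2.nroots ∧ π (π' r) = r) : Acts F a⁻¹ π' := by
  intro r hr
  obtain ⟨hlt, hπ⟩ := h r hr
  obtain ⟨c, hc, haact⟩ := ha (π' r) hlt
  refine ⟨c⁻¹, inv_ne_zero hc, fun t => ?_⟩
  have h1 := haact (c⁻¹ * t)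
  rw [hπ, ← mul_assoc, mul_inv_cancel₀ hc, one_mul] at h1
  rw [← h1]
  group

variable (F)

/-- the element `n_w` acts through `w` -/
theorem cls_acts_word (w : List ℕ) (hw : ∀ i ∈ w, i < chevG2.rank) :
    Acts F (nWordGL chevG2 hG2 F w) (wRoot chevG2 w) := by
  intro r hr
  obtain ⟨ε, hε, hact⟩ := nWordGL_conj chevG2 hG2 F w hw r hr
  refine ⟨ε, ?_, hact⟩
  intro e
  rw [e, mul_zero] at hε
  exact zero_ne_one hε

theorem cls_chain_tab : ∀ r < 12, ∀ s < 12, s ≠ r → chevG2.chainCoeff s (chevG2.neg r) r = [] := by decide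

/-- distinct root subgroups meet trivially -/
theorem cls_root_eq (r s : ℕ) (hr : r < chevG2.nroots) (hs : s < chevG2.nroots) (a b : F) (ha : a ≠ 0)
    (h : xg F r a = xg F s b) : r = s := by
  by_contra hne
  have hr' : r < 12 := by rw [← cls_nroots]; exact hr
  have hs' : s < 12 := by rw [← cls_nroots]; exact hs
  exact ha (xGL_eq_root chevG2 hG2 F r s hr hs (fun e => hne e.symm)
    (cls_chain_tab r hr' s hs' (fun e => hne e.symm)) a b h.symm)

/-- the twelve elements of `W(G₂)` as tables of root indices -/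
def clsW : List (List ℕ) :=
  [[0, 1, 2, 3, 4, 5, 6, 7, 8, 9, 10, 11], [0, 5, 3, 2, 7, 1, 10, 4, 9, 8, 6, 11],
   [1, 0, 2, 4, 3, 6, 5, 8, 7, 9, 11, 10], [1, 6, 4, 2, 8, 0, 11, 3, 9, 7, 5, 10],
   [5, 0, 3, 7, 2, 10, 1, 9, 4, 8, 11, 6], [5, 10, 7, 3, 9, 0, 11, 2, 8, 4, 1, 6],
   [6, 1, 4, 8, 2, 11, 0, 9, 3, 7, 10, 5], [6, 11, 8, 4, 9, 1, 10, 2, 7, 3, 0, 5],
   [10, 5, 7, 9, 3, 11, 0, 8, 2, 4, 6, 1], [10, 11, 9, 7, 8, 5, 6, 3, 4, 2, 0, 1],
   [11, 6, 8, 9, 4, 10, 1, 7, 2, 3, 5, 0], [11, 10, 9, 8, 7, 6, 5, 4, 3, 2, 1, 0]]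

theorem cls_closed : ∀ T ∈ clsW, ∀ i ∈ [0, 1], T.map (chevG2.reflectRoot i) ∈ clsW := by decide

theorem cls_orbit (l : List ℕ) (hl : ∀ i ∈ l, i < chevG2.rank) :
    (List.range 12).map (wRoot chevG2 l) ∈ clsW := by
  induction l with
  | nil => decide
  | cons i l ih =>
    have hi : i ∈ [0, 1] := by
      have := hl i (List.mem_cons_self ..)
      rw [cls_rank] at this
      interval_cases i <;> simp
    have h1 := cls_closed _ (ih fun j hj => hl j (List.mem_cons_of_mem _ hj)) i hi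
    rw [List.map_map] at h1
    exact h1

/-- the four target maps -/
def clsTgt (k : ℕ) : ℕ → ℕ :=
  if k = 0 then id else if k = 1 then chevG2.reflectRoot 0 else if k = 2 then chevG2.reflectRoot 1 else chevG2.neg

/-- the table `T` is an involution -/
def clsInv (T : List ℕ) : Bool := (List.range 12).all fun r => decide (T.getD (T.getD r 0) 0 = r)

/-- conjugation by the word `w` carries the table `T` to the target `k` -/
def clsChk (T w : List ℕ) (k : ℕ) : Bool :=
  (w.all fun i => decide (i < 2)) &&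
  (List.range 12).all fun r =>
    decide (wRoot chevG2 w.reverse r < 12) && decide (wRoot chevG2 w (wRoot chevG2 w.reverse r) = r) &&
    decide (T.getD r 0 < 12) &&
    decide (wRoot chevG2 w (T.getD (wRoot chevG2 w.reverse r) 0) = clsTgt k r)

/-- the conjugating words -/
def clsCands : List (List ℕ × ℕ) :=
  [([], 0), ([], 1), ([], 2), ([], 3), ([0], 2), ([1], 1), ([1, 0], 1), ([0, 1], 2)]

theorem cls_table : ∀ T ∈ clsW, clsInv T = true → ∃ p ∈ clsCands, clsChk T p.1 p.2 = true := by decide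

/-- conjugating by `n_w` -/
theorem cls_finish (n : GL chevG2.Idx F) (T : List ℕ) (hT : Acts F n (fun r => T.getD r 0)) (w : List ℕ) (k : ℕ)
    (h : clsChk T w k = true) :
    (∀ i ∈ w, i < chevG2.rank) ∧
      Acts F (nWordGL chevG2 hG2 F w * n * (nWordGL chevG2 hG2 F w)⁻¹) (clsTgt k) := by
  unfold clsChk at h
  simp only [Bool.and_eq_true, List.all_eq_true, List.mem_range, decide_eq_true_eq] at h
  obtain ⟨hw2, hall⟩ := h
  have hw : ∀ i ∈ w, i < chevG2.rank := fun i hi => by rw [cls_rank]; exact hw2 i hi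
  refine ⟨hw, ?_⟩
  have hm := cls_acts_word F w hw
  have hminv : Acts F (nWordGL chevG2 hG2 F w)⁻¹ (wRoot chevG2 w.reverse) := by
    refine cls_acts_inv hm (fun r hr => ?_)
    rw [cls_nroots] at hr ⊢
    exact ⟨(hall r hr).1.1.1, (hall r hr).1.1.2⟩
  have h1 : Acts F (nWordGL chevG2 hG2 F w * n) (wRoot chevG2 w ∘ fun r => T.getD r 0) := by
    refine cls_acts_mul hm hT (fun r hr => ?_)
    rw [cls_nroots] at hr ⊢
    exact (hall r hr).1.2
  have h2 := cls_acts_mul h1 hminv (fun r hr => by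
    rw [cls_nroots] at hr ⊢
    exact (hall r hr).1.1.1)
  refine cls_acts_congr h2 (fun r hr => ?_)
  rw [cls_nroots] at hr
  exact (hall r hr).2

theorem cls_getD (f : ℕ → ℕ) (r : ℕ) (hr : r < 12) : ((List.range 12).map f).getD r 0 = f r := by
  rw [List.getD_eq_getElem?_getD, List.getElem?_map, List.getElem?_range hr]
  rfl

/-- G2O-CLS -/
theorem cls (n : GL chevG2.Idx F) (hn : n ∈ chevG2.monomialSubgroup F) (hnn : n * n = 1) :
    ∃ m ∈ chevG2.monomialSubgroup F,
      Acts F (m * n * m⁻¹) id ∨ Acts F (m * n * m⁻¹) (chevG2.reflectRoot 0) ∨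
        Acts F (m * n * m⁻¹) (chevG2.reflectRoot 1) ∨ Acts F (m * n * m⁻¹) chevG2.neg := by
  obtain ⟨l, hl, hact⟩ := exists_word_conj chevG2 hG2 F n hn
  have hA : Acts F n (wRoot chevG2 l) := hact
  have hninv : n⁻¹ = n := inv_eq_of_mul_eq_one_right hnn
  -- the table is an involution
  have hinv : ∀ r < 12, wRoot chevG2 l (wRoot chevG2 l r) = r := by
    intro r hr
    have hr' : r < chevG2.nroots := by rw [cls_nroots]; exact hr
    obtain ⟨c, hc, h1⟩ := hact r hr'
    have hlt := wRoot_lt chevG2 hG2 l hl r hr'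
    obtain ⟨c', hc', h2⟩ := hact (wRoot chevG2 l r) hlt
    have hlt2 := wRoot_lt chevG2 hG2 l hl _ hlt
    have e : xg F r 1 = xg F (wRoot chevG2 l (wRoot chevG2 l r)) (c' * (c * 1)) := by
      have e1 : n * (n * xg F r 1 * n⁻¹) * n⁻¹ = xg F r 1 := by
        rw [hninv]
        calc n * (n * xg F r 1 * n) * n = (n * n) * xg F r 1 * (n * n) := by group
          _ = xg F r 1 := by rw [hnn, one_mul, mul_one]
      rw [← e1]
      show n * (n * xGL chevG2 hG2 F r 1 * n⁻¹) * n⁻¹ = _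
      rw [h1 1, h2 (c * 1)]
    exact (cls_root_eq F r _ hr' hlt2 1 _ one_ne_zero e).symm
  -- the table of `l`
  have hO := cls_orbit l hl
  set T : List ℕ := (List.range 12).map (wRoot chevG2 l) with hTdef
  have hTget : ∀ r < 12, T.getD r 0 = wRoot chevG2 l r := fun r hr => cls_getD _ r hr
  have hAT : Acts F n (fun r => T.getD r 0) :=
    cls_acts_congr hA (fun r hr => by rw [cls_nroots] at hr; exact (hTget r hr).symm)
  have hTinv : clsInv T = true := by
    unfold clsInv
    simp only [List.all_eq_true, List.mem_range, decide_eq_true_eq]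
    intro r hr
    have hlt : wRoot chevG2 l r < 12 := by
      have := wRoot_lt chevG2 hG2 l hl r (by rw [cls_nroots]; exact hr)
      rw [cls_nroots] at this
      exact this
    rw [hTget r hr, hTget _ hlt, hinv r hr]
  obtain ⟨p, -, hchk⟩ := cls_table T hO hTinv
  obtain ⟨hw, hfin⟩ := cls_finish F n T hAT p.1 p.2 hchk
  refine ⟨nWordGL chevG2 hG2 F p.1, nWordGL_mem chevG2 hG2 F p.1 hw, ?_⟩
  unfold clsTgt at hfin
  by_cases h0 : p.2 = 0
  · rw [if_pos h0] at hfin
    exact Or.inl hfin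
  · rw [if_neg h0] at hfin
    by_cases h1 : p.2 = 1
    · rw [if_pos h1] at hfin
      exact Or.inr (Or.inl hfin)
    · rw [if_neg h1] at hfin
      by_cases h2 : p.2 = 2
      · rw [if_pos h2] at hfin
        exact Or.inr (Or.inr (Or.inl hfin))
      · rw [if_neg h2] at hfin
        exact Or.inr (Or.inr (Or.inr hfin))

end Cfsg.Agent.Lib.Helper2.G2o
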