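import Cfsg.Agent.Lib.Helper20.F4cDefs

/-! # F4c hive (S2179): leaf F4C-ARIG (helper54)

An element `n` of `N` conjugating `x_47(a) x_44(b)`, `a, b ≠ 0`, to some `x_47(a') x_44(b')` normalises `X_47` and `X_44`.
The column lemmas `arig_col_h / arig_col_e / arig_mulVec_h / arig_mulVec_e` are generic in the Chevalley datum. -/

set_option autoImplicit false

namespace Cfsg.Agent.Lib.Helper20.F4c

open Cfsg Cfsg.Lie Cfsg.Agent.Lib.Helper36 Cfsg.Agent.Lib.Helper18 Matrix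

section generic

variable (D : ChevalleyDatum) (F : Type*) [Field F]

/-- column `h_i` of `x_r(c)` -/
theorem arig_col_h (r : ℕ) (hr : r < D.nroots) (c : F) (i : Fin D.rank) (idx : D.Idx) :
    D.x F r c idx (Sum.inl i) =
      if idx = Sum.inl i then 1 else
        if idx = Sum.inr ⟨r, hr⟩ then -((D.cartan i r : ℤ) : F) * c else 0 := by
  unfold ChevalleyDatum.x
  rw [dif_pos hr]
  simp only [ChevalleyDatum.xMat, Matrix.of_apply]
  rcases idx with i' | u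
  · simp
  · simp only [reduceCtorEq, if_false, Sum.inr.injEq]
    rfl

/-- column `e_s` of `x_r(c)` when `e_s` is fixed -/
theorem arig_col_e (r s : ℕ) (hr : r < D.nroots) (hs : s < D.nroots)
    (hfix : s = r ∨ (s ≠ D.neg r ∧ ∀ u < D.nroots, D.chainCoeff r s u = [])) (c : F)
    (idx : D.Idx) :
    D.x F r c idx (Sum.inr ⟨s, hs⟩) = if idx = Sum.inr ⟨s, hs⟩ then 1 else 0 := by
  unfold ChevalleyDatum.x
  rw [dif_pos hr]
  simp only [ChevalleyDatum.xMat, Matrix.of_apply]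
  rcases hfix with rfl | ⟨hneg, hch⟩
  · rw [if_pos rfl]
    rcases idx with i' | u
    · simp
    · simp only [Sum.inr.injEq]
  · by_cases hsr : s = r
    · subst hsr
      rw [if_pos rfl]
      rcases idx with i' | u
      · simp
      · simp only [Sum.inr.injEq]
    · have h1 : (⟨s, hs⟩ : Fin D.nroots) ≠ ⟨r, hr⟩ := fun e => hsr (Fin.mk.inj_iff.1 e)
      rw [if_neg h1]
      have h2 : ¬ ((⟨s, hs⟩ : Fin D.nroots).val = D.negIdx.getD (⟨r, hr⟩ : Fin D.nroots).val 0) := hneg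
      rw [if_neg h2]
      rcases idx with i' | u
      · simp
      · simp only [Sum.inr.injEq]
        rw [hch u.val u.isLt]
        simp

/-- `x_r(c) h_i = h_i - A_{i r} c e_r` -/
theorem arig_mulVec_h (r : ℕ) (hr : r < D.nroots) (c : F) (i : Fin D.rank) :
    D.x F r c *ᵥ Pi.single (Sum.inl i) 1 =
      Pi.single (Sum.inl i) 1 + (-((D.cartan i r : ℤ) : F) * c) • Pi.single (Sum.inr ⟨r, hr⟩) 1 := by
  ext idx
  rw [Matrix.mulVec_single_one]
  simp only [Matrix.col_apply, Pi.add_apply, Pi.smul_apply, smul_eq_mul, Pi.single_apply]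
  rw [arig_col_h D F r hr c i idx]
  by_cases h1 : idx = Sum.inl i
  · subst h1
    simp
  · by_cases h2 : idx = Sum.inr ⟨r, hr⟩
    · subst h2
      simp
    · simp [h1, h2]

/-- `x_r(c) e_s = e_s` when `e_s` is fixed -/
theorem arig_mulVec_e (r s : ℕ) (hr : r < D.nroots) (hs : s < D.nroots)
    (hfix : s = r ∨ (s ≠ D.neg r ∧ ∀ u < D.nroots, D.chainCoeff r s u = [])) (c : F) :
    D.x F r c *ᵥ Pi.single (Sum.inr ⟨s, hs⟩) 1 = Pi.single (Sum.inr ⟨s, hs⟩) 1 := by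
  ext idx
  rw [Matrix.mulVec_single_one]
  simp only [Matrix.col_apply, Pi.single_apply]
  rw [arig_col_e D F r s hr hs hfix c idx]

/-- the fixing condition, as a `Bool` -/
def arigFix (r s : ℕ) : Bool :=
  s == r || (s != D.neg r && (List.range D.nroots).all fun u => (D.chainCoeff r s u).isEmpty)

theorem arigFix_spec (r s : ℕ) (h : arigFix D r s = true) :
    s = r ∨ (s ≠ D.neg r ∧ ∀ u < D.nroots, D.chainCoeff r s u = []) := by
  unfold arigFix at h
  simp only [Bool.or_eq_true, beq_iff_eq, Bool.and_eq_true, bne_iff_ne, ne_eq, List.all_eq_true, List.mem_range,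
    List.isEmpty_iff] at h
  rcases h with h | ⟨h1, h2⟩
  · exact Or.inl h
  · exact Or.inr ⟨h1, h2⟩

/-- column `h_i` of a product of two root elements, the first fixing the root vector of the second -/
theorem arig_col_prod (r₁ r₂ : ℕ) (h₁ : r₁ < D.nroots) (h₂ : r₂ < D.nroots)
    (f12 : arigFix D r₁ r₂ = true) (c d : F) (i : Fin D.rank) :
    (D.x F r₁ c * D.x F r₂ d) *ᵥ Pi.single (Sum.inl i) 1 =
      Pi.single (Sum.inl i) 1 + (-((D.cartan i r₁ : ℤ) : F) * c) • Pi.single (Sum.inr ⟨r₁, h₁⟩) 1 +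
        (-((D.cartan i r₂ : ℤ) : F) * d) • Pi.single (Sum.inr ⟨r₂, h₂⟩) 1 := by
  rw [← Matrix.mulVec_mulVec, arig_mulVec_h D F r₂ h₂ d i, Matrix.mulVec_add,
    Matrix.mulVec_smul, arig_mulVec_h D F r₁ h₁ c i,
    arig_mulVec_e D F r₁ r₂ h₁ h₂ (arigFix_spec D r₁ r₂ f12) c]

/-- the key vanishing at the coordinate `e_{s₁}`: if `s₁ ∉ {s₂, ρ₁, ρ₂}` then `A_{i,s₁} c₁ = 0` -/
theorem arig_entry1 (s₁ s₂ ρ₁ ρ₂ : ℕ) (h₁ : s₁ < D.nroots) (h₂ : s₂ < D.nroots) (g₁ : ρ₁ < D.nroots)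
    (g₂ : ρ₂ < D.nroots) (f12 : arigFix D s₁ s₂ = true) (fρ : arigFix D ρ₁ ρ₂ = true)
    (h12 : s₁ ≠ s₂) (n1 : s₁ ≠ ρ₁) (n2 : s₁ ≠ ρ₂) (c₁ c₂ a' b' : F)
    (hmat : D.x F s₁ c₁ * D.x F s₂ c₂ = D.x F ρ₁ a' * D.x F ρ₂ b') (i : Fin D.rank) :
    ((D.cartan i s₁ : ℤ) : F) * c₁ = 0 := by
  have hv := congrArg (fun M : Matrix D.Idx D.Idx F =>
    (M *ᵥ Pi.single (Sum.inl i) 1) (Sum.inr ⟨s₁, h₁⟩)) hmat
  beta_reduce at hv
  rw [arig_col_prod D F s₁ s₂ h₁ h₂ f12, arig_col_prod D F ρ₁ ρ₂ g₁ g₂ fρ] at hv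
  have e2 : (Sum.inr ⟨s₁, h₁⟩ : D.Idx) ≠ Sum.inr ⟨s₂, h₂⟩ := by
    intro e; exact h12 (Fin.mk.inj_iff.1 (Sum.inr.inj e))
  have e3 : (Sum.inr ⟨s₁, h₁⟩ : D.Idx) ≠ Sum.inr ⟨ρ₁, g₁⟩ := by
    intro e; exact n1 (Fin.mk.inj_iff.1 (Sum.inr.inj e))
  have e4 : (Sum.inr ⟨s₁, h₁⟩ : D.Idx) ≠ Sum.inr ⟨ρ₂, g₂⟩ := by
    intro e; exact n2 (Fin.mk.inj_iff.1 (Sum.inr.inj e))
  have e0 : (Sum.inr ⟨s₁, h₁⟩ : D.Idx) ≠ Sum.inl i := by simp
  simp only [Pi.add_apply, Pi.smul_apply, smul_eq_mul, Pi.single_apply, if_neg e0, if_neg e2, if_neg e3,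
    if_neg e4, if_true, mul_zero, add_zero, zero_add, mul_one] at hv
  rw [neg_mul, neg_eq_zero] at hv
  exact hv

/-- the key vanishing at the coordinate `e_{s₂}`: if `s₂ ∉ {s₁, ρ₁, ρ₂}` then `A_{i,s₂} c₂ = 0` -/
theorem arig_entry2 (s₁ s₂ ρ₁ ρ₂ : ℕ) (h₁ : s₁ < D.nroots) (h₂ : s₂ < D.nroots) (g₁ : ρ₁ < D.nroots)
    (g₂ : ρ₂ < D.nroots) (f12 : arigFix D s₁ s₂ = true) (fρ : arigFix D ρ₁ ρ₂ = true)
    (h12 : s₁ ≠ s₂) (n1 : s₂ ≠ ρ₁) (n2 : s₂ ≠ ρ₂) (c₁ c₂ a' b' : F)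
    (hmat : D.x F s₁ c₁ * D.x F s₂ c₂ = D.x F ρ₁ a' * D.x F ρ₂ b') (i : Fin D.rank) :
    ((D.cartan i s₂ : ℤ) : F) * c₂ = 0 := by
  have hv := congrArg (fun M : Matrix D.Idx D.Idx F =>
    (M *ᵥ Pi.single (Sum.inl i) 1) (Sum.inr ⟨s₂, h₂⟩)) hmat
  beta_reduce at hv
  rw [arig_col_prod D F s₁ s₂ h₁ h₂ f12, arig_col_prod D F ρ₁ ρ₂ g₁ g₂ fρ] at hv
  have e2 : (Sum.inr ⟨s₂, h₂⟩ : D.Idx) ≠ Sum.inr ⟨s₁, h₁⟩ := by
    intro e; exact h12 (Fin.mk.inj_iff.1 (Sum.inr.inj e)).symm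
  have e3 : (Sum.inr ⟨s₂, h₂⟩ : D.Idx) ≠ Sum.inr ⟨ρ₁, g₁⟩ := by
    intro e; exact n1 (Fin.mk.inj_iff.1 (Sum.inr.inj e))
  have e4 : (Sum.inr ⟨s₂, h₂⟩ : D.Idx) ≠ Sum.inr ⟨ρ₂, g₂⟩ := by
    intro e; exact n2 (Fin.mk.inj_iff.1 (Sum.inr.inj e))
  have e0 : (Sum.inr ⟨s₂, h₂⟩ : D.Idx) ≠ Sum.inl i := by simp
  simp only [Pi.add_apply, Pi.smul_apply, smul_eq_mul, Pi.single_apply, if_neg e0, if_neg e2, if_neg e3,
    if_neg e4, if_true, mul_zero, add_zero, zero_add, mul_one] at hv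
  rw [neg_mul, neg_eq_zero] at hv
  exact hv

/-- some Cartan integer of the root `r` is `±1` -/
def arigOdd (r : ℕ) : Bool :=
  (List.finRange D.rank).any fun i => D.cartan i r == 1 || D.cartan i r == -1

theorem arigOdd_spec (r : ℕ) (h : arigOdd D r = true) :
    ∃ i : Fin D.rank, D.cartan i r = 1 ∨ D.cartan i r = -1 := by
  unfold arigOdd at h
  simp only [List.any_eq_true, List.mem_finRange, true_and, Bool.or_eq_true, beq_iff_eq] at h
  exact h

/-- a nonzero parameter cannot be killed by all Cartan integers of a root with an odd one -/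
theorem arig_zero_of_odd (r : ℕ) (h : arigOdd D r = true) (c : F)
    (hz : ∀ i : Fin D.rank, ((D.cartan i r : ℤ) : F) * c = 0) : c = 0 := by
  obtain ⟨i, hi | hi⟩ := arigOdd_spec D r h
  · have := hz i
    rw [hi] at this
    simpa using this
  · have := hz i
    rw [hi] at this
    simpa using this

end generic

variable (F : Type*) [Field F]

/-- the orbit of the pair `(47, 44)` under the Weyl group of `F₄` -/
def arigO : List (ℕ × ℕ) :=
  [(0, 3), (0, 7), (0, 8), (0, 9), (0, 11), (0, 18), (1, 3), (1, 7), (1, 8), (1, 10), (1, 12), (1, 19),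
   (2, 3), (2, 7), (2, 9), (2, 10), (2, 13), (2, 20), (4, 3), (4, 8), (4, 11), (4, 12), (4, 14), (4, 27),
   (5, 3), (5, 9), (5, 11), (5, 13), (5, 14), (5, 28), (6, 3), (6, 10), (6, 12), (6, 13), (6, 14), (6, 29),
   (15, 7), (15, 8), (15, 18), (15, 19), (15, 33), (15, 34), (16, 7), (16, 9), (16, 18), (16, 20), (16, 33),
   (16, 35), (17, 7), (17, 10), (17, 19), (17, 20), (17, 33), (17, 36), (21, 8), (21, 11), (21, 18),
   (21, 27), (21, 34), (21, 37), (22, 8), (22, 12), (22, 19), (22, 27), (22, 34), (22, 38), (23, 9),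
   (23, 11), (23, 18), (23, 28), (23, 35), (23, 37), (24, 10), (24, 12), (24, 19), (24, 29), (24, 36),
   (24, 38), (25, 9), (25, 13), (25, 20), (25, 28), (25, 35), (25, 39), (26, 10), (26, 13), (26, 20),
   (26, 29), (26, 36), (26, 39), (30, 11), (30, 14), (30, 27), (30, 28), (30, 37), (30, 40), (31, 12),
   (31, 14), (31, 27), (31, 29), (31, 38), (31, 40), (32, 13), (32, 14), (32, 28), (32, 29), (32, 39),
   (32, 40), (41, 18), (41, 33), (41, 34), (41, 35), (41, 37), (41, 44), (42, 19), (42, 33), (42, 34),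
   (42, 36), (42, 38), (42, 44), (43, 20), (43, 33), (43, 35), (43, 36), (43, 39), (43, 44), (45, 27),
   (45, 34), (45, 37), (45, 38), (45, 40), (45, 44), (46, 28), (46, 35), (46, 37), (46, 39), (46, 40),
   (46, 44), (47, 29), (47, 36), (47, 38), (47, 39), (47, 40), (47, 44)]

/-- a fundamental reflection acting on a pair -/
def arigAct (i : ℕ) (t : ℕ × ℕ) : ℕ × ℕ := (chevF4.reflectRoot i t.1, chevF4.reflectRoot i t.2)

theorem arig_closed : ∀ t ∈ arigO, ∀ i ∈ [0, 1, 2, 3], arigAct i t ∈ arigO := by decide +kernel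

theorem arig_orbit (l : List ℕ) (hl : ∀ i ∈ l, i < chevF4.rank) :
    (wRoot chevF4 l 47, wRoot chevF4 l 44) ∈ arigO := by
  induction l with
  | nil => decide +kernel
  | cons i l ih =>
    have hi : i ∈ [0, 1, 2, 3] := by
      have := hl i (List.mem_cons_self ..)
      have h2 : chevF4.rank = 4 := by decide
      rw [h2] at this
      interval_cases i <;> simp
    exact arig_closed _ (ih fun j hj => hl j (List.mem_cons_of_mem _ hj)) i hi

/-- the facts needed about a pair of the orbit -/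
def arigChk (t : ℕ × ℕ) : Bool :=
  decide (t.1 < 48 ∧ t.2 < 48) && arigFix chevF4 t.1 t.2 && decide (t.1 ≠ t.2) &&
  (decide (t.1 = 47 ∧ t.2 = 44) ||
    (decide (t.1 ≠ 47 ∧ t.1 ≠ 44) && arigOdd chevF4 t.1) ||
    (decide (t.2 ≠ 47 ∧ t.2 ≠ 44) && arigOdd chevF4 t.2))

theorem arig_chk : ∀ t ∈ arigO, arigChk t = true := by decide +kernel

theorem arig_fix_v : arigFix chevF4 47 44 = true := by decide +kernel

/-- F4C-ARIG -/
theorem rigidA (n : GL chevF4.Idx F) (hn : n ∈ chevF4.monomialSubgroup F) (a b a' b' : F) (ha : a ≠ 0)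
    (hb : b ≠ 0) (h : n * (xf F 47 a * xf F 44 b) * n⁻¹ = xf F 47 a' * xf F 44 b') :
    n ∈ Subgroup.normalizer (chevF4.rootSubgroup F 47 : Set (GL chevF4.Idx F)) ∧
      n ∈ Subgroup.normalizer (chevF4.rootSubgroup F 44 : Set (GL chevF4.Idx F)) := by
  obtain ⟨l, hl, hact⟩ := exists_word_conj chevF4 hF4 F n hn
  have hO := arig_orbit l hl
  have hchk := arig_chk _ hO
  obtain ⟨k47, hk47, a47⟩ := hact 47 (by decide)
  obtain ⟨k44, hk44, a44⟩ := hact 44 (by decide)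
  generalize wRoot chevF4 l 47 = s1 at *
  generalize wRoot chevF4 l 44 = s2 at *
  unfold arigChk at hchk
  simp only [Bool.and_eq_true, Bool.or_eq_true, decide_eq_true_eq] at hchk
  obtain ⟨⟨⟨⟨h1lt, h2lt⟩, f12⟩, h12⟩, hlast⟩ := hchk
  have hn48 : chevF4.nroots = 48 := by decide
  have h1lt' : s1 < chevF4.nroots := by rw [hn48]; exact h1lt
  have h2lt' : s2 < chevF4.nroots := by rw [hn48]; exact h2lt
  have hconj : n * (xf F 47 a * xf F 44 b) * n⁻¹ = xf F s1 (k47 * a) * xf F s2 (k44 * b) := by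
    unfold xf
    rw [← a47, ← a44]
    group
  have hmat : chevF4.x F s1 (k47 * a) * chevF4.x F s2 (k44 * b) =
      chevF4.x F 47 a' * chevF4.x F 44 b' := by
    have := congrArg (fun g : GL chevF4.Idx F => (g : Matrix chevF4.Idx chevF4.Idx F)) (hconj.symm.trans h)
    unfold xf at this
    simp only [Units.val_mul, xGL_coe] at this
    exact this
  have hka : k47 * a ≠ 0 := mul_ne_zero hk47 ha
  have hkb : k44 * b ≠ 0 := mul_ne_zero hk44 hb
  have hs : s1 = 47 ∧ s2 = 44 := by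
    rcases hlast with (hlast | ⟨⟨n1, n2⟩, hodd⟩) | ⟨⟨n1, n2⟩, hodd⟩
    · exact hlast
    · exfalso
      apply hka
      exact arig_zero_of_odd chevF4 F s1 hodd _
        (arig_entry1 chevF4 F s1 s2 47 44 h1lt' h2lt' (by decide) (by decide) f12 arig_fix_v h12 n1 n2
          _ _ _ _ hmat)
    · exfalso
      apply hkb
      exact arig_zero_of_odd chevF4 F s2 hodd _
        (arig_entry2 chevF4 F s1 s2 47 44 h1lt' h2lt' (by decide) (by decide) f12 arig_fix_v h12 n1 n2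
          _ _ _ _ hmat)
  obtain ⟨hs1, hs2⟩ := hs
  subst hs1 hs2
  constructor
  · apply mem_normalizer_root chevF4 hF4 F n
    · intro t
      exact ⟨k47 * t, a47 t⟩
    · intro t
      refine ⟨t / k47, ?_⟩
      have e1 : xf F 47 t = n * xf F 47 (t / k47) * n⁻¹ := by
        rw [a47 (t / k47), mul_div_cancel₀ t hk47]
      unfold xf at e1
      rw [e1]
      group
  · apply mem_normalizer_root chevF4 hF4 F n
    · intro t
      exact ⟨k44 * t, a44 t⟩
    · intro t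
      refine ⟨t / k44, ?_⟩
      have e1 : xf F 44 t = n * xf F 44 (t / k44) * n⁻¹ := by
        rw [a44 (t / k44), mul_div_cancel₀ t hk44]
      unfold xf at e1
      rw [e1]
      group

end Cfsg.Agent.Lib.Helper20.F4c
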