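import Cfsg.Agent.Lib.Helper21.Lq.Defs
import Cfsg.Agent.Lib.Helper13.SpParabolic
import Cfsg.Agent.Lib.Helper43.LqCEMAT

set_option autoImplicit false

/-!
# Lq hive (S2333, owner helper21): leaf C-QAB

`Q = Qgrp F k = {E(pad w, c)}` is the set of these elements (closed under products and inverses by the
C-EMAT product formula), it is abelian in characteristic 2, and it contains the root subgroup `Z_{e0}`.
-/

namespace Cfsg.Agent.Lib.Helper21.Lq

open Module Cfsg.Agent.Lib.Helper6.Ls Cfsg.Agent.Lib.Helper13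

section concrete

variable {F : Type*} [Field F] [Fintype F]

theorem cqab_pad_zero {K : Type*} [Field K] (k : ℕ) : pad (0 : Vec K k) = 0 := by
  funext i
  rcases i with i | i
  · simp only [pad, Sum.elim_inl, Pi.zero_apply]
    refine Fin.lastCases ?_ (fun j => ?_) i
    · simp
    · simp
  · simp only [pad, Sum.elim_inr, Pi.zero_apply]
    refine Fin.lastCases ?_ (fun j => ?_) i
    · simp
    · simp

theorem cqab_pad_add {K : Type*} [Field K] {k : ℕ} (w w' : Vec K k) :
    pad (w + w') = pad w + pad w' := by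
  funext i
  rcases i with i | i
  · simp only [pad, Sum.elim_inl, Pi.add_apply]
    refine Fin.lastCases ?_ (fun j => ?_) i
    · simp
    · simp
  · simp only [pad, Sum.elim_inr, Pi.add_apply]
    refine Fin.lastCases ?_ (fun j => ?_) i
    · simp
    · simp

theorem cqab_pad_e0 {K : Type*} [Field K] {k : ℕ} (w : Vec K k) :
    Cfsg.sympForm (k + 1) K (pad w) (e0 K k) = 0 := by
  rw [sympForm_expand]
  apply Finset.sum_eq_zero
  intro i _
  refine Fin.lastCases ?_ (fun j => ?_) i
  · simp [pad, e0]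
  · simp [pad, e0]

/-- the generating set of `Qgrp`. -/
theorem cqab_set_closed [CharP F 2] (k : ℕ) :
    (Qgrp F k : Set (Spg F (k + 1))) = {g | ∃ (w : Vec F k) (c : F), g = Eelt (e0 F k) (pad w) c} := by
  have h2 : ∀ x : F, x + x = 0 := fun x => CharTwo.add_self_eq_zero x
  have hone : (1 : Spg F (k + 1)) = Eelt (e0 F k) (pad (0 : Vec F k)) 0 := by
    rw [cqab_pad_zero, Eelt_zero_eq]
    apply Subtype.ext
    rw [coe_sympTransvElt, sympTransvection_zero]
    rfl
  have hmul : ∀ (w w' : Vec F k) (c c' : F),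
      Eelt (e0 F k) (pad w) c * Eelt (e0 F k) (pad w') c'
        = Eelt (e0 F k) (pad (w + w')) (c + c' + Cfsg.sympForm (k + 1) F (pad w') (pad w)) := by
    intro w w' c c'
    rw [Eelt_mul _ _ _ (cqab_pad_e0 w) (cqab_pad_e0 w'), cqab_pad_add]
  apply le_antisymm
  · -- closure ⊆ set: the set is a subgroup
    let S : Subgroup (Spg F (k + 1)) :=
      { carrier := {g | ∃ (w : Vec F k) (c : F), g = Eelt (e0 F k) (pad w) c}
        mul_mem' := by
          rintro a b ⟨w, c, rfl⟩ ⟨w', c', rfl⟩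
          exact ⟨w + w', _, hmul w w' c c'⟩
        one_mem' := ⟨0, 0, hone⟩
        inv_mem' := by
          rintro a ⟨w, c, rfl⟩
          refine ⟨w, c, ?_⟩
          rw [inv_eq_iff_mul_eq_one, hmul, sympForm_self, add_zero, h2 c]
          have hw : w + w = 0 := by
            funext i
            exact h2 (w i)
          rw [hw]
          exact hone.symm }
    have hle : Qgrp F k ≤ S := by
      unfold Qgrp
      rw [Subgroup.closure_le]
      intro g hg
      exact hg
    exact hle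
  · intro g hg
    exact Subgroup.subset_closure hg

/-- C-QAB (1) -/
theorem mem_Qgrp_iff [CharP F 2] (k : ℕ) (g : Spg F (k + 1)) :
    g ∈ Qgrp F k ↔ ∃ (w : Vec F k) (c : F), g = Eelt (e0 F k) (pad w) c := by
  rw [← SetLike.mem_coe, cqab_set_closed]
  rfl

/-- C-QAB (2) -/
theorem Qgrp_comm [CharP F 2] (k : ℕ) : ∀ a ∈ Qgrp F k, ∀ b ∈ Qgrp F k, a * b = b * a := by
  intro a ha b hb
  rw [mem_Qgrp_iff] at ha hb
  obtain ⟨w, c, rfl⟩ := ha
  obtain ⟨w', c', rfl⟩ := hb
  rw [Eelt_mul _ _ _ (cqab_pad_e0 w) (cqab_pad_e0 w'),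
    Eelt_mul _ _ _ (cqab_pad_e0 w') (cqab_pad_e0 w)]
  have h1 : Cfsg.sympForm (k + 1) F (pad w') (pad w) = Cfsg.sympForm (k + 1) F (pad w) (pad w') := by
    rw [sympForm_swap, CharTwo.neg_eq]
  rw [h1, add_comm (pad w) (pad w'), add_comm c c']

/-- C-QAB (3) -/
theorem Zgrp_le_Qgrp [CharP F 2] (k : ℕ) : Zgrp (e0 F k) ≤ Qgrp F k := by
  unfold Zgrp
  rw [Subgroup.closure_le]
  rintro g ⟨c, rfl⟩
  rw [SetLike.mem_coe, mem_Qgrp_iff]
  refine ⟨0, c, ?_⟩
  rw [cqab_pad_zero, Eelt_zero_eq]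

end concrete

end Cfsg.Agent.Lib.Helper21.Lq
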