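import Cfsg.Agent.Lib.Helper23.U3Defs

/-!
# U3 hive (S2283), leaf U3-REL: consequences of the relations of a configuration
-/

set_option autoImplicit false
set_option linter.unusedSectionVars false

namespace Cfsg.Agent.Lib.Helper23.U3

open Matrix Cfsg.Agent.Lib.Helper99 Cfsg.Agent.Lib.Helper13 Cfsg.Agent.Lib.Helper90.Psu

variable {F : Type*} [Field F] [Fintype F] {q : ℕ}

local notation "hh" => Cfsg.hermForm 3 F q

/-- U3-REL -/
theorem cfg_rel (hF : Fintype.card F = q ^ 2) (C : Cfg q F) :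
    C.β + C.β ^ q + C.a ^ (q + 1) = 0 := by
  have hμ0 := C.μ_ne_zero
  have hy : C.μ * C.μ⁻¹ = 1 := mul_inv_cancel₀ hμ0
  -- `μ ^ q = μ⁻¹`
  have hμq : C.μ ^ q = C.μ⁻¹ := by
    apply eq_inv_of_mul_eq_one_left
    rw [← pow_succ]
    exact C.hμ
  have hcq : C.c ^ q = -C.c := eq_neg_of_add_eq_zero_right C.hc
  -- apply Frobenius to `hβ`
  have h := congrArg (frobU hF) C.hβ
  simp only [map_mul, map_sub, map_pow, map_inv₀, map_ofNat, frobU_apply] at h
  rw [hμq, hcq, inv_inv] at h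
  have hβ := C.hβ
  have ha := C.ha
  have key : C.c * (C.β + C.β ^ q + C.a ^ (q + 1)) = 0 := by
    linear_combination hβ - h + ha + (-3 * (C.μ⁻¹ - C.μ)) * hy
  rcases mul_eq_zero.1 key with h0 | h0
  · exact absurd h0 C.hc0
  · exact h0

/-- U3-REL -/
theorem cfg_a_ne_zero (C : Cfg q F) : C.a ≠ 0 := by
  intro ha0
  have ha := C.ha
  rw [ha0, zero_pow (Nat.succ_ne_zero q), zero_mul] at ha
  have hs : C.μ⁻¹ - C.μ = 0 := by
    have := ha.symm
    exact pow_eq_zero_iff (by norm_num) |>.1 this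
  have hμ0 := C.μ_ne_zero
  apply C.hμ2
  have h1 : C.μ⁻¹ = C.μ := sub_eq_zero.1 hs
  calc C.μ ^ 2 = C.μ * C.μ := sq C.μ
    _ = C.μ * C.μ⁻¹ := by rw [h1]
    _ = 1 := mul_inv_cancel₀ hμ0

end Cfsg.Agent.Lib.Helper23.U3
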