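import Cfsg.Agent.Lib.Helper23.U3Defs

/-!
# U3 hive (S2283), leaf U3-TS: the power trick `(T S)^(q+1) = T`
-/

set_option autoImplicit false
set_option linter.unusedSectionVars false

namespace Cfsg.Agent.Lib.Helper23.U3

open Matrix Cfsg.Agent.Lib.Helper99 Cfsg.Agent.Lib.Helper13 Cfsg.Agent.Lib.Helper90.Psu

variable {F : Type*} [Field F] [Fintype F] {q : ℕ}

local notation "hh" => Cfsg.hermForm 3 F q

theorem u3ts_utv_pow (v : Fin 3 → F) (hv : hh v v = 0) (c : F) (k : ℕ) :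
    (utv q v c) ^ k = utv q v (k * c) := by
  induction k with
  | zero => rw [pow_zero, Nat.cast_zero, zero_mul, utv_zero v hv]
  | succ k ih =>
    rw [pow_succ, ih, utv_add v hv]
    congr 1
    push_cast
    ring

theorem u3ts_q_cast (hF : Fintype.card F = q ^ 2) : ((q : ℕ) : F) = 0 := by
  have h : ((Fintype.card F : ℕ) : F) = 0 := FiniteField.cast_card_eq_zero F
  rw [hF] at h
  push_cast at h
  exact pow_eq_zero_iff (by norm_num) |>.1 h

theorem u3ts_nu_ne_zero (C : Cfg q F) : C.μ⁻¹ ^ 3 ≠ 0 :=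
  pow_ne_zero 3 (inv_ne_zero C.μ_ne_zero)

theorem u3ts_hεε_ne (C : Cfg q F) : hh C.ε C.ε ≠ 0 := by
  rw [C.hεε]; exact one_ne_zero

/-- the action of `S` -/
theorem u3ts_S_mulVec (C : Cfg q F) (x : Fin 3 → F) :
    (C.S : Matrix (Fin 3) (Fin 3) F) *ᵥ x =
      C.μ • (x + ((C.μ⁻¹ ^ 3 - 1) / hh C.ε C.ε * hh x C.ε) • C.ε) := by
  unfold Cfg.S
  rw [Units.val_mul, Cfg.coe_sc, ← mulVec_mulVec, qr_mulVec (u3ts_hεε_ne C) (u3ts_nu_ne_zero C)]
  rw [Matrix.scalar_apply, ← Matrix.smul_one_eq_diagonal, Matrix.smul_mulVec, one_mulVec]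

/-- `T` and `S` commute -/
theorem u3ts_comm (hF : Fintype.card F = q ^ 2) (C : Cfg q F) : Commute C.T C.S := by
  have hfε : hh C.f C.ε = 0 := hermForm_eq_zero_comm hF C.hεf
  show C.T * C.S = C.S * C.T
  apply Units.ext
  rw [Matrix.ext_iff_mulVec]
  intro x
  rw [Units.val_mul, Units.val_mul, ← mulVec_mulVec, ← mulVec_mulVec, u3ts_S_mulVec, u3ts_S_mulVec]
  unfold Cfg.T
  rw [utv_mulVec C.f C.hff, utv_mulVec C.f C.hff]
  simp only [hermForm_smul_left, hermForm_add_left, hfε, C.hεf, mul_zero, add_zero]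
  simp only [smul_add, smul_smul]
  rw [add_right_comm]
  congr 2
  rw [mul_left_comm]

/-- `S ^ (q + 1) = 1` -/
theorem u3ts_S_pow (hF : Fintype.card F = q ^ 2) (C : Cfg q F) : C.S ^ (q + 1) = 1 := by
  have hcomm : Commute C.sc (qr q C.ε (C.μ⁻¹ ^ 3)) := by
    show C.sc * _ = _ * C.sc
    apply Units.ext
    rw [Units.val_mul, Units.val_mul, Cfg.coe_sc]
    exact (Matrix.scalar_commute C.μ (fun r' => mul_comm _ _) _).eq
  have hsc : C.sc ^ (q + 1) = 1 := by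
    unfold Cfg.sc
    rw [← map_pow]
    have : (Units.mk0 C.μ C.μ_ne_zero) ^ (q + 1) = 1 := by
      apply Units.ext
      rw [Units.val_pow_eq_pow_val, Units.val_mk0, Units.val_one]
      exact C.hμ
    rw [this, map_one]
  have hν : (C.μ⁻¹ ^ 3) ^ (q + 1) = 1 := by
    rw [← pow_mul, mul_comm, pow_mul, inv_pow, C.hμ, inv_one, one_pow]
  unfold Cfg.S
  rw [hcomm.mul_pow, hsc, one_mul, qr_pow hF (u3ts_hεε_ne C) (u3ts_nu_ne_zero C), hν, qr_one]

/-- `T ^ (q + 1) = T` -/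
theorem u3ts_T_pow (hF : Fintype.card F = q ^ 2) (C : Cfg q F) : C.T ^ (q + 1) = C.T := by
  rw [pow_succ]
  have : C.T ^ q = 1 := by
    unfold Cfg.T
    rw [u3ts_utv_pow C.f C.hff, u3ts_q_cast hF, zero_mul, utv_zero C.f C.hff]
  rw [this, one_mul]

/-- U3-TS -/
theorem TS_mem_H (hF : Fintype.card F = q ^ 2) (C : Cfg q F) : C.T ∈ C.H ∧ C.S ∈ C.H := by
  have hTS : C.T * C.S ∈ C.H := by
    have h : C.T * C.S = C.u1⁻¹ * C.u2 := by
      unfold Cfg.u2
      group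
    rw [h]
    exact C.H.mul_mem (C.H.inv_mem C.u1_mem_H) C.u2_mem_H
  have hpow : (C.T * C.S) ^ (q + 1) = C.T := by
    rw [(u3ts_comm hF C).mul_pow, u3ts_S_pow hF C, u3ts_T_pow hF C, mul_one]
  have hT : C.T ∈ C.H := by
    rw [← hpow]
    exact C.H.pow_mem hTS _
  refine ⟨hT, ?_⟩
  have h : C.S = C.T⁻¹ * (C.T * C.S) := by group
  rw [h]
  exact C.H.mul_mem (C.H.inv_mem hT) hTS

end Cfsg.Agent.Lib.Helper23.U3
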