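import Mathlib
import Cfsg.Prelude.Def_Local
import Cfsg.Agent.Lib.Helper54.PSolvExt
import Cfsg.Agent.Lib.Helper54.Balance
import Cfsg.Agent.Lib.Helper54.LBalance3
import Cfsg.Agent.Lib.Helper24.Coprime
import Cfsg.Agent.Lib.Helper76.PSolvable

set_option autoImplicit false
set_option linter.style.haveILetI false

/-! Coprime operator groups and `O_{q'}` of centralizers (statement S3819). -/

namespace Cfsg.Agent.Lib.Helper54

open Cfsg Subgroup

variable {G : Type*} [Group G]

/-- a `q'`-subgroup `Z ≤ S` normalized by `S` lies in (the image of) `O_{q'}(S)` -/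
theorem le_map_pPrimeCore_of_le_normalizer [Finite G] (q : ℕ) (S Z : Subgroup G) (hZS : Z ≤ S)
    (hn : S ≤ normalizer (Z : Set G)) (hq : (Nat.card Z).Coprime q) :
    Z ≤ (pPrimeCore q ↥S).map S.subtype := by
  haveI : (Z.subgroupOf S).Normal := (Subgroup.normal_subgroupOf_iff_le_normalizer hZS).mpr hn
  have hcard : (Nat.card (Z.subgroupOf S)).Coprime q := by
    rw [Nat.card_congr (Subgroup.subgroupOfEquivOfLe hZS).toEquiv]; exact hq
  have := Helper55.le_pPrimeCore q (Z.subgroupOf S) hcard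
  intro x hx
  exact ⟨⟨x, hZS hx⟩, this (Subgroup.mem_subgroupOf.mpr hx), rfl⟩

theorem normalizer_inf_normalizer_le_normalizer_sup (A B : Subgroup G) :
    normalizer (A : Set G) ⊓ normalizer (B : Set G) ≤ normalizer ((A ⊔ B : Subgroup G) : Set G) := by
  intro g hg
  obtain ⟨hA, hB⟩ := Subgroup.mem_inf.mp hg
  rw [mem_normalizer_iff_map_conj_eq] at hA hB ⊢
  rw [Subgroup.map_sup, hA, hB]

theorem normalizer_inf_normalizer_le_normalizer_inf (A B : Subgroup G) :
    normalizer (A : Set G) ⊓ normalizer (B : Set G) ≤ normalizer ((A ⊓ B : Subgroup G) : Set G) := by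
  intro g hg
  obtain ⟨hA, hB⟩ := Subgroup.mem_inf.mp hg
  rw [Subgroup.mem_normalizer_iff] at hA hB ⊢
  intro x
  rw [Subgroup.mem_inf, Subgroup.mem_inf, hA x, hB x]

/-- the image in `G` of a normal subgroup of `↥S` is normalized by `S` -/
theorem le_normalizer_map_subtype_of_normal (S : Subgroup G) (N : Subgroup ↥S) [hN : N.Normal] :
    S ≤ normalizer ((N.map S.subtype : Subgroup G) : Set G) := by
  intro s hs
  rw [Subgroup.mem_normalizer_iff]
  intro x
  constructor
  · rintro ⟨n, hn, rfl⟩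
    exact ⟨⟨s, hs⟩ * n * ⟨s, hs⟩⁻¹, hN.conj_mem n hn _, by simp⟩
  · rintro ⟨n, hn, hne⟩
    have hxS : x ∈ S := by
      have h1 : s * x * s⁻¹ ∈ S := by rw [← hne]; exact n.2
      have h2 : x = s⁻¹ * (s * x * s⁻¹) * s := by group
      rw [h2]
      exact S.mul_mem (S.mul_mem (S.inv_mem hs) h1) hs
    refine ⟨⟨x, hxS⟩, ?_, rfl⟩
    have h3 : (⟨x, hxS⟩ : S) = ⟨s, hs⟩⁻¹ * n * ⟨s, hs⟩⁻¹⁻¹ := by
      apply Subtype.ext
      have : (n : G) = s * x * s⁻¹ := hne
      simp [this, mul_assoc]
    rw [h3]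
    exact hN.conj_mem n hn _

universe u

/-- a chain `K ≤ M ≤ L` with `K` solvable, `|M : K|` prime to `q` and `|L : M|` a power of `q`
makes `L` a `q`-solvable group -/
theorem isPSolvable_of_chain {G : Type u} [Group G] [Finite G] (q : ℕ) [Fact q.Prime]
    (K M L : Subgroup G) (hKM : K ≤ M) (hML : M ≤ L)
    (hK : Group.IsSolvable ↥K) (hKn : M ≤ normalizer (K : Set G))
    (hMn : L ≤ normalizer (M : Set G))
    (hMK : (K.relIndex M).Coprime q) (hLM : ∃ m : ℕ, M.relIndex L = q ^ m) :
    IsPSolvable q ↥L := by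
  -- `M` is `q`-solvable
  have hM : IsPSolvable q ↥M := by
    haveI : (K.subgroupOf M).Normal := (Subgroup.normal_subgroupOf_iff_le_normalizer hKM).mpr hKn
    apply isPSolvable_ext q (K.subgroupOf M)
    · exact Helper76.isPSolvable_of_mulEquiv (Subgroup.subgroupOfEquivOfLe hKM).symm
        (Helper53.isPSolvable_of_isSolvable q hK)
    · apply isPSolvable_of_coprime
      rw [← Subgroup.index_eq_card]
      exact hMK
  haveI : (M.subgroupOf L).Normal := (Subgroup.normal_subgroupOf_iff_le_normalizer hML).mpr hMn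
  apply isPSolvable_ext q (M.subgroupOf L)
  · exact Helper76.isPSolvable_of_mulEquiv (Subgroup.subgroupOfEquivOfLe hML).symm hM
  · apply isPSolvable_of_isPGroup
    obtain ⟨m, hm⟩ := hLM
    apply IsPGroup.of_card (n := m)
    rw [← Subgroup.index_eq_card]
    exact hm

end Cfsg.Agent.Lib.Helper54
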