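import Mathlib

set_option autoImplicit false

namespace Cfsg.Agent.Lib.Helper54

open QuaternionGroup

variable {n : ℕ}

/-- every square in a generalized quaternion group lies in the cyclic part -/
theorem quat_sq_eq_a (x : QuaternionGroup n) : ∃ k : ZMod (2 * n), x ^ 2 = a k := by
  cases x with
  | a i => exact ⟨i + i, by rw [sq, a_mul_a]⟩
  | xa i => exact ⟨n, xa_sq i⟩

theorem quat_a_mem_zpowers [NeZero n] (k : ZMod (2 * n)) :
    (a k : QuaternionGroup n) ∈ Subgroup.zpowers (a 1 : QuaternionGroup n) := by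
  have := Subgroup.npow_mem_zpowers (a 1 : QuaternionGroup n) k.val
  rwa [a_one_pow, ZMod.natCast_zmod_val] at this

/-- an element commuting with `a i`, `2 i ≠ 0`, lies in the cyclic part -/
theorem quat_commute_a {i : ZMod (2 * n)} (hi : 2 * i ≠ 0) (x : QuaternionGroup n)
    (hx : x * a i = a i * x) : ∃ k : ZMod (2 * n), x = a k := by
  cases x with
  | a k => exact ⟨k, rfl⟩
  | xa j =>
    exfalso
    rw [xa_mul_a, a_mul_xa] at hx
    have h1 : j + i = j - i := by
      injection hx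
    apply hi
    have : i = -i := by
      have := congrArg (fun t => t - j) h1
      simpa using this
    calc 2 * i = i + i := two_mul i
      _ = i + -i := by rw [← this]
      _ = 0 := add_neg_cancel i

theorem quat_two_mul_ne_zero {m : ℕ} (hm : 3 ≤ m) (c : ℕ) (hc : 0 < c) (hc8 : c ≤ 8) :
    ((c : ℕ) : ZMod (2 * 2 ^ m)) ≠ 0 := by
  intro h
  rw [ZMod.natCast_eq_zero_iff] at h
  have h16 : 16 ≤ 2 * 2 ^ m := by
    have : 2 ^ 3 ≤ 2 ^ m := Nat.pow_le_pow_right (by norm_num) hm
    omega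
  have := Nat.le_of_dvd hc h
  omega

/-- In a generalized quaternion group of order at least 32, a self-centralizing normal subgroup
contains a square `a i` with `2 i ≠ 0` in the subgroup generated by its squares. -/
theorem quat_exists_sq {m : ℕ} (hm : 3 ≤ m) (R : Subgroup (QuaternionGroup (2 ^ m))) [hR : R.Normal]
    (hc : Subgroup.centralizer (R : Set (QuaternionGroup (2 ^ m))) ≤ R) :
    ∃ i : ZMod (2 * 2 ^ m), 2 * i ≠ 0 ∧
      (a i : QuaternionGroup (2 ^ m)) ∈ Subgroup.closure {y | ∃ x ∈ R, y = x ^ 2} := by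
  by_cases h : ∃ j, (xa j : QuaternionGroup (2 ^ m)) ∈ R
  · obtain ⟨j, hj⟩ := h
    have h1 : (a 1 : QuaternionGroup (2 ^ m)) * xa j * (a 1)⁻¹ ∈ R := hR.conj_mem _ hj _
    have h2 : (a 1 : QuaternionGroup (2 ^ m)) * xa j * (a 1)⁻¹ * (xa j)⁻¹ ∈ R :=
      R.mul_mem h1 (R.inv_mem hj)
    have hNN : ((2 ^ m : ℕ) : ZMod (2 * 2 ^ m)) + ((2 ^ m : ℕ) : ZMod (2 * 2 ^ m)) = 0 := by
      have h0 : ((2 * 2 ^ m : ℕ) : ZMod (2 * 2 ^ m)) = 0 := ZMod.natCast_self _
      rw [← h0]; push_cast; ring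
    have h3 : (a 1 : QuaternionGroup (2 ^ m)) * xa j * (a 1)⁻¹ * (xa j)⁻¹ = a 2 := by
      have e1 : ((a 1 : QuaternionGroup (2 ^ m)))⁻¹ = a (-1) := by
        rw [inv_eq_iff_mul_eq_one, a_mul_a]; simp [a_zero]
      have e2 : ((xa j : QuaternionGroup (2 ^ m)))⁻¹ = xa (((2 ^ m : ℕ) : ZMod (2 * 2 ^ m)) + j) := by
        rw [inv_eq_iff_mul_eq_one, xa_mul_xa]
        have : ((2 ^ m : ℕ) : ZMod (2 * 2 ^ m)) + (((2 ^ m : ℕ) : ZMod (2 * 2 ^ m)) + j) - j = 0 := by
          linear_combination hNN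
        rw [this, a_zero]
      rw [e1, e2, a_mul_xa, xa_mul_a, xa_mul_xa]
      congr 1
      linear_combination hNN
    rw [h3] at h2
    refine ⟨4, ?_, ?_⟩
    · have := quat_two_mul_ne_zero hm 8 (by norm_num) (by norm_num)
      intro h0
      apply this
      have : ((8 : ℕ) : ZMod (2 * 2 ^ m)) = 2 * 4 := by push_cast; ring
      rw [this, h0]
    · apply Subgroup.subset_closure
      refine ⟨a 2, h2, ?_⟩
      rw [sq, a_mul_a]; congr 1; ring
  · push Not at h
    have hall : ∀ r ∈ R, ∃ k, r = (a k : QuaternionGroup (2 ^ m)) := by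
      intro r hr
      cases r with
      | a k => exact ⟨k, rfl⟩
      | xa j => exact absurd hr (h j)
    have h1 : (a 1 : QuaternionGroup (2 ^ m)) ∈ R := by
      apply hc
      rw [Subgroup.mem_centralizer_iff]
      intro r hr
      obtain ⟨k, rfl⟩ := hall r hr
      rw [a_mul_a, a_mul_a, add_comm]
    refine ⟨2, ?_, ?_⟩
    · have := quat_two_mul_ne_zero hm 4 (by norm_num) (by norm_num)
      intro h0
      apply this
      have : ((4 : ℕ) : ZMod (2 * 2 ^ m)) = 2 * 2 := by push_cast; ring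
      rw [this, h0]
    · apply Subgroup.subset_closure
      refine ⟨a 1, h1, ?_⟩
      rw [sq, a_mul_a]; congr 1; ring

end Cfsg.Agent.Lib.Helper54
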