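import Mathlib
import Cfsg.Agent.Lib.Helper55.Cores
import Cfsg.Agent.Lib.Helper84.PCore
import Cfsg.Agent.Lib.Helper54.Quat

set_option autoImplicit false
set_option linter.style.haveILetI false

namespace Cfsg.Agent.Lib.Helper54

open QuaternionGroup

variable {G : Type*} [Group G]

/-- The subgroup generated by the squares of the elements of `R`. -/
def sqSubgroup (R : Subgroup G) : Subgroup G := Subgroup.closure {y | ∃ x ∈ R, y = x ^ 2}

theorem sqSubgroup_le (R : Subgroup G) : sqSubgroup R ≤ R := by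
  unfold sqSubgroup
  rw [Subgroup.closure_le]
  rintro y ⟨x, hx, rfl⟩
  exact R.pow_mem hx 2

theorem sqSubgroup_normal (R : Subgroup G) [hR : R.Normal] : (sqSubgroup R).Normal := by
  constructor
  intro n hn g
  unfold sqSubgroup at hn ⊢
  induction hn using Subgroup.closure_induction with
  | mem y hy =>
    obtain ⟨x, hx, rfl⟩ := hy
    apply Subgroup.subset_closure
    exact ⟨g * x * g⁻¹, hR.conj_mem x hx g, by rw [conj_pow]⟩
  | one => simp
  | mul a b _ _ iha ihb =>
    have : g * (a * b) * g⁻¹ = (g * a * g⁻¹) * (g * b * g⁻¹) := by group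
    rw [this]; exact Subgroup.mul_mem _ iha ihb
  | inv a _ iha =>
    have : g * a⁻¹ * g⁻¹ = (g * a * g⁻¹)⁻¹ := by group
    rw [this]; exact Subgroup.inv_mem _ iha

/-- image of the square subgroup under a hom is the square subgroup of the image -/
theorem map_sqSubgroup {H : Type*} [Group H] (f : G →* H) (R : Subgroup G) :
    (sqSubgroup R).map f = sqSubgroup (R.map f) := by
  unfold sqSubgroup
  rw [MonoidHom.map_closure]
  congr 1
  ext y
  constructor
  · rintro ⟨z, ⟨x, hx, rfl⟩, rfl⟩
    exact ⟨f x, Subgroup.mem_map_of_mem f hx, by rw [map_pow]⟩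
  · rintro ⟨x', ⟨x, hx, rfl⟩, rfl⟩
    exact ⟨x ^ 2, ⟨x, hx, rfl⟩, by rw [map_pow]⟩

end Cfsg.Agent.Lib.Helper54

namespace Cfsg.Agent.Lib.Helper54

open QuaternionGroup

variable {G : Type*} [Group G]

/-- A group mapping injectively into a subgroup `P ≅ Q_{4n}` so that the image commutes with an
element corresponding to `a i`, `2 i ≠ 0`, is cyclic. -/
theorem isCyclic_of_injective_commute {n : ℕ} [NeZero n] (P : Subgroup G)
    (e : P ≃* QuaternionGroup n) (y0 : P) (i : ZMod (2 * n)) (hi : 2 * i ≠ 0) (hy : e y0 = a i)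
    {S : Type*} [Group S] (f : S →* G) (hf : Function.Injective f) (hP : ∀ s, f s ∈ P)
    (hcomm : ∀ s, f s * (y0 : G) = (y0 : G) * f s) : IsCyclic S := by
  let F : S →* QuaternionGroup n := e.toMonoidHom.comp (f.codRestrict P hP)
  have hFinj : Function.Injective F := by
    intro s t hst
    have h1 : f.codRestrict P hP s = f.codRestrict P hP t := e.injective hst
    have h2 := congrArg Subtype.val h1
    exact hf h2
  have hFmem : ∀ s, F s ∈ Subgroup.zpowers (a 1 : QuaternionGroup n) := by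
    intro s
    have hc : F s * a i = a i * F s := by
      rw [← hy]
      change e (f.codRestrict P hP s) * e y0 = e y0 * e (f.codRestrict P hP s)
      rw [← map_mul, ← map_mul]
      congr 1
      apply Subtype.ext
      exact hcomm s
    obtain ⟨k, hk⟩ := quat_commute_a hi (F s) hc
    rw [hk]
    exact quat_a_mem_zpowers k
  let F' : S →* Subgroup.zpowers (a 1 : QuaternionGroup n) := F.codRestrict _ hFmem
  have hF'inj : Function.Injective F' := by
    intro s t hst
    have := congrArg Subtype.val hst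
    exact hFinj this
  exact isCyclic_of_injective F' hF'inj

/-- A normal subgroup, all of whose Sylow 2-subgroups are cyclic, of a finite group with trivial
odd core is a 2-group. -/
theorem isPGroup_two_of_cyclic_sylow_normal [Finite G] (h0 : Cfsg.pPrimeCore 2 G = ⊥)
    (C : Subgroup G) [hC : C.Normal] (hcyc : ∀ S : Sylow 2 C, IsCyclic (S : Subgroup C)) :
    IsPGroup 2 C := by
  classical
  haveI : Fact (Nat.Prime 2) := ⟨Nat.prime_two⟩
  by_cases h2 : 2 ∣ Nat.card C
  · have hmin : (Nat.card C).minFac = 2 := by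
      apply le_antisymm
      · exact Nat.minFac_le_of_dvd (le_refl 2) h2
      · have hne : Nat.card C ≠ 1 := by
          intro h1; rw [h1] at h2; omega
        exact (Nat.minFac_prime hne).two_le
    let S : Sylow 2 C := default
    have hS : IsCyclic (S : Subgroup C) := hcyc S
    have hcompl := IsCyclic.isComplement' hmin hS
    set N₁ := (MonoidHom.transferSylow S (hS.normalizer_le_centralizer hmin)).ker with hN₁
    have hN₁odd : ¬ 2 ∣ Nat.card N₁ :=
      MonoidHom.not_dvd_card_ker_transferSylow S (hS.normalizer_le_centralizer hmin)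
    haveI hN₁n : N₁.Normal := MonoidHom.normal_ker _
    have hidx : N₁.index = Nat.card (S : Subgroup C) := hcompl.symm.index_eq_card
    obtain ⟨k, hk⟩ := IsPGroup.iff_card.mp S.2
    -- characterization of N₁
    have hchar : ∀ x : C, x ∈ N₁ ↔ ¬ 2 ∣ orderOf x := by
      intro x
      constructor
      · intro hx hdvd
        apply hN₁odd
        have h1 : orderOf (⟨x, hx⟩ : N₁) = orderOf x := by
          rw [← Subgroup.orderOf_coe]
        have h2 : orderOf (⟨x, hx⟩ : N₁) ∣ Nat.card N₁ := orderOf_dvd_natCard _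
        rw [h1] at h2
        exact hdvd.trans h2
      · intro hx
        rw [← QuotientGroup.eq_one_iff]
        have h1 : orderOf (QuotientGroup.mk x : C ⧸ N₁) ∣ orderOf x :=
          orderOf_dvd_of_pow_eq_one (by rw [← QuotientGroup.mk_pow, pow_orderOf_eq_one]; rfl)
        have h2 : orderOf (QuotientGroup.mk x : C ⧸ N₁) ∣ 2 ^ k := by
          have : Nat.card (C ⧸ N₁) = 2 ^ k := by
            rw [← Subgroup.index_eq_card, hidx, hk]
          rw [← this]; exact orderOf_dvd_natCard _
        rw [← orderOf_eq_one_iff]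
        obtain ⟨j, -, hj⟩ := (Nat.dvd_prime_pow Nat.prime_two).mp h2
        rcases Nat.eq_zero_or_pos j with hj0 | hj0
        · rw [hj, hj0, pow_zero]
        · exfalso
          apply hx
          have : 2 ∣ orderOf (QuotientGroup.mk x : C ⧸ N₁) := by
            rw [hj]; exact dvd_pow_self 2 (by omega)
          exact this.trans h1
    -- the image of N₁ in G is normal of odd order
    have hNnorm : (N₁.map C.subtype).Normal := by
      constructor
      intro n hn g
      obtain ⟨x, hx, rfl⟩ := hn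
      have hmem : g * (x : G) * g⁻¹ ∈ C := hC.conj_mem x x.2 g
      refine ⟨⟨g * (x : G) * g⁻¹, hmem⟩, ?_, rfl⟩
      apply (hchar _).mpr
      have hx' := (hchar x).mp hx
      have h1 : orderOf (⟨g * (x : G) * g⁻¹, hmem⟩ : C) = orderOf x := by
        rw [← Subgroup.orderOf_coe, ← Subgroup.orderOf_coe]
        have h : g * (x : G) * g⁻¹ = MulAut.conj g (x : G) := by simp [MulAut.conj_apply]
        change orderOf (g * (x : G) * g⁻¹) = orderOf (x : G)
        rw [h]
        exact orderOf_injective (MulAut.conj g).toMonoidHom (MulAut.conj g).injective _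
      rw [h1]; exact hx'
    have hcard : Nat.card (N₁.map C.subtype) = Nat.card N₁ :=
      Nat.card_congr (Subgroup.equivMapOfInjective N₁ C.subtype C.subtype_injective).symm.toEquiv
    have hle : N₁.map C.subtype ≤ Cfsg.pPrimeCore 2 G := by
      haveI := hNnorm
      apply Helper55.le_pPrimeCore 2
      rw [hcard]
      exact ((Nat.Prime.coprime_iff_not_dvd Nat.prime_two).mpr hN₁odd).symm
    rw [h0, le_bot_iff] at hle
    have hN₁bot : N₁ = ⊥ := by
      rw [eq_bot_iff]
      intro x hx
      have : (x : G) ∈ N₁.map C.subtype := ⟨x, hx, rfl⟩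
      rw [hle, Subgroup.mem_bot] at this
      rw [Subgroup.mem_bot]
      exact Subtype.ext this
    have hcardC : Nat.card C = 2 ^ k := by
      have h3 : Nat.card N₁ * N₁.index = Nat.card C := Subgroup.card_mul_index N₁
      rw [hidx, hk, hN₁bot, Subgroup.card_bot, one_mul] at h3
      exact h3.symm
    exact IsPGroup.of_card hcardC
  · -- odd order normal subgroup is trivial
    have hle : C ≤ Cfsg.pPrimeCore 2 G := by
      apply Helper55.le_pPrimeCore 2
      exact (Nat.Prime.coprime_iff_not_dvd Nat.prime_two).mpr h2 |>.symm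
    rw [h0, le_bot_iff] at hle
    rw [hle]
    exact IsPGroup.of_bot

end Cfsg.Agent.Lib.Helper54

namespace Cfsg.Agent.Lib.Helper54

open QuaternionGroup

variable {G : Type*} [Group G]

/-- elements of the square subgroup of a subgroup of `P ≅ Q_{4n}` correspond to elements `a k` -/
theorem sqSubgroup_mem_a {n : ℕ} (P : Subgroup G) (e : P ≃* QuaternionGroup n)
    (R : Subgroup G) (hRP : R ≤ P) (u : G) (hu : u ∈ sqSubgroup R) :
    ∃ (hP : u ∈ P) (k : ZMod (2 * n)), e ⟨u, hP⟩ = a k := by
  unfold sqSubgroup at hu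
  induction hu using Subgroup.closure_induction with
  | mem y hy =>
    obtain ⟨x, hx, rfl⟩ := hy
    have hxP : x ∈ P := hRP hx
    refine ⟨P.pow_mem hxP 2, ?_⟩
    obtain ⟨k, hk⟩ := quat_sq_eq_a (e ⟨x, hxP⟩)
    refine ⟨k, ?_⟩
    rw [← hk, ← map_pow]
    rfl
  | one =>
    refine ⟨P.one_mem, 0, ?_⟩
    rw [a_zero]
    exact map_one e
  | mul x y _ _ ihx ihy =>
    obtain ⟨hxP, k, hk⟩ := ihx
    obtain ⟨hyP, l, hl⟩ := ihy
    refine ⟨P.mul_mem hxP hyP, k + l, ?_⟩
    rw [← a_mul_a, ← hk, ← hl, ← map_mul]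
    rfl
  | inv x _ ihx =>
    obtain ⟨hxP, k, hk⟩ := ihx
    refine ⟨P.inv_mem hxP, -k, ?_⟩
    have : e ⟨x⁻¹, P.inv_mem hxP⟩ = (e ⟨x, hxP⟩)⁻¹ := by
      rw [← map_inv]; rfl
    rw [this, hk, inv_eq_iff_mul_eq_one, a_mul_a]
    simp [a_zero]

/-- A finite solvable group with trivial odd core whose Sylow 2-subgroups are generalized
quaternion of order at least 32 is a 2-group. -/
theorem isPGroup_two_of_quat_sylow [Finite G] [hs : Group.IsSolvable G]
    (h0 : Cfsg.pPrimeCore 2 G = ⊥) (P : Sylow 2 G) {m : ℕ} (hm : 3 ≤ m)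
    (e : (P : Subgroup G) ≃* QuaternionGroup (2 ^ m)) : IsPGroup 2 G := by
  classical
  haveI : Fact (Nat.Prime 2) := ⟨Nat.prime_two⟩
  obtain ⟨R, hRdef⟩ : ∃ R, R = Cfsg.pCore 2 G := ⟨_, rfl⟩
  haveI hRn : R.Normal := hRdef ▸ Helper55.pCore_normal' 2
  have hRp : IsPGroup 2 R := hRdef ▸ Helper55.pCore_isPGroup 2
  have hRc : Subgroup.centralizer (R : Set G) ≤ R := hRdef ▸ Helper55.centralizer_pCore_le 2 h0
  have hRP : R ≤ P := Helper84.normal_pGroup_le_sylow hRn hRp P
  -- transfer R to the quaternion group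
  let R' : Subgroup (QuaternionGroup (2 ^ m)) := (R.subgroupOf P).map e.toMonoidHom
  haveI hR'n : R'.Normal :=
    Subgroup.Normal.map (Subgroup.Normal.subgroupOf hRn P) e.toMonoidHom e.surjective
  have hR'c : Subgroup.centralizer (R' : Set (QuaternionGroup (2 ^ m))) ≤ R' := by
    intro q hq
    rw [Subgroup.mem_centralizer_iff] at hq
    obtain ⟨p, rfl⟩ := e.surjective q
    refine ⟨p, ?_, rfl⟩
    rw [SetLike.mem_coe, Subgroup.mem_subgroupOf]
    apply hRc
    rw [Subgroup.mem_centralizer_iff]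
    intro r hr
    have hrP : r ∈ (P : Subgroup G) := hRP hr
    have h1 : e ⟨r, hrP⟩ ∈ R' := ⟨⟨r, hrP⟩, by rw [SetLike.mem_coe, Subgroup.mem_subgroupOf]; exact hr, rfl⟩
    have h2 := hq _ h1
    have h3 : e (⟨r, hrP⟩ * p) = e (p * ⟨r, hrP⟩) := by rw [map_mul, map_mul]; exact h2
    have h4 := e.injective h3
    exact congrArg Subtype.val h4
  obtain ⟨i, hi, hmem⟩ := quat_exists_sq hm R' hR'c
  -- pull the element back
  have hmem' : (a i : QuaternionGroup (2 ^ m)) ∈ (sqSubgroup (R.subgroupOf P)).map e.toMonoidHom := by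
    rw [map_sqSubgroup]; exact hmem
  obtain ⟨y0, hy0, hy0e⟩ := hmem'
  have hyA : (y0 : G) ∈ sqSubgroup R := by
    have h1 : (y0 : G) ∈ (sqSubgroup (R.subgroupOf P)).map (P : Subgroup G).subtype :=
      ⟨y0, hy0, rfl⟩
    rw [map_sqSubgroup] at h1
    have h2 : (R.subgroupOf P).map (P : Subgroup G).subtype = R := by
      rw [Subgroup.subgroupOf_map_subtype]; exact inf_eq_left.mpr hRP
    rwa [h2] at h1
  -- the square subgroup A and its centralizer
  obtain ⟨A, hAdef⟩ : ∃ A, A = sqSubgroup R := ⟨_, rfl⟩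
  haveI hAn : A.Normal := hAdef ▸ sqSubgroup_normal R
  have hAR : A ≤ R := hAdef ▸ sqSubgroup_le R
  rw [← hAdef] at hyA
  obtain ⟨C₁, hC₁def⟩ : ∃ C₁, C₁ = Subgroup.centralizer (A : Set G) := ⟨_, rfl⟩
  haveI hC₁n : C₁.Normal := hC₁def ▸ Subgroup.normal_centralizer
  have hC₁y : ∀ c ∈ C₁, c * (y0 : G) = (y0 : G) * c := by
    intro c hc
    rw [hC₁def, Subgroup.mem_centralizer_iff] at hc
    exact (hc _ hyA).symm
  have hy0e' : e y0 = a i := hy0e
  -- Sylow 2-subgroups of C₁ are cyclic
  have hcyc : ∀ S : Sylow 2 C₁, IsCyclic (S : Subgroup C₁) := by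
    intro S
    have hS' : IsPGroup 2 ((S : Subgroup C₁).map C₁.subtype) := S.2.map _
    obtain ⟨Q', hQ'⟩ := hS'.exists_le_sylow
    obtain ⟨g, hg⟩ := MulAction.exists_smul_eq G Q' P
    let f : (S : Subgroup C₁) →* G :=
      (MulAut.conj g).toMonoidHom.comp (C₁.subtype.comp (S : Subgroup C₁).subtype)
    have hfapp : ∀ s, f s = g * ((s : C₁) : G) * g⁻¹ := fun s => rfl
    have hfinj : Function.Injective f := by
      intro s t hst
      rw [hfapp, hfapp] at hst
      have : ((s : C₁) : G) = ((t : C₁) : G) := by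
        have := congrArg (fun z => g⁻¹ * z * g) hst
        simpa [mul_assoc] using this
      exact Subtype.ext (Subtype.ext this)
    have hfP : ∀ s, f s ∈ (P : Subgroup G) := by
      intro s
      rw [hfapp]
      have h1 : ((s : C₁) : G) ∈ (Q' : Subgroup G) := hQ' ⟨s, s.2, rfl⟩
      have h2 : g * ((s : C₁) : G) * g⁻¹ ∈ ((g • Q' : Sylow 2 G) : Subgroup G) := by
        rw [Sylow.coe_subgroup_smul, Subgroup.mem_pointwise_smul_iff_inv_smul_mem, ← map_inv,
          MulAut.smul_def, MulAut.conj_apply]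
        have : g⁻¹ * (g * ((s : C₁) : G) * g⁻¹) * g⁻¹⁻¹ = ((s : C₁) : G) := by group
        rw [this]; exact h1
      rw [hg] at h2
      exact h2
    have hfc : ∀ s, f s * (y0 : G) = (y0 : G) * f s := by
      intro s
      apply hC₁y
      rw [hfapp]
      exact hC₁n.conj_mem _ (s : C₁).2 g
    exact isCyclic_of_injective_commute (P : Subgroup G) e y0 i hi hy0e' f hfinj hfP hfc
  have hC₁p : IsPGroup 2 C₁ := isPGroup_two_of_cyclic_sylow_normal h0 C₁ hcyc
  have hC₁P : C₁ ≤ P := Helper84.normal_pGroup_le_sylow hC₁n hC₁p P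
  haveI hC₁cyc : IsCyclic C₁ :=
    isCyclic_of_injective_commute (P : Subgroup G) e y0 i hi hy0e' C₁.subtype
      C₁.subtype_injective (fun s => hC₁P s.2) (fun s => hC₁y s s.2)
  -- A is abelian so A ≤ C₁
  have hAC₁ : A ≤ C₁ := by
    intro u hu
    rw [hC₁def, Subgroup.mem_centralizer_iff]
    intro v hv
    rw [hAdef] at hu hv
    obtain ⟨huP, k, hk⟩ := sqSubgroup_mem_a (P : Subgroup G) e R hRP u hu
    obtain ⟨hvP, l, hl⟩ := sqSubgroup_mem_a (P : Subgroup G) e R hRP v hv
    have h3 : e (⟨v, hvP⟩ * ⟨u, huP⟩) = e (⟨u, huP⟩ * ⟨v, hvP⟩) := by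
      rw [map_mul, map_mul, hk, hl, a_mul_a, a_mul_a, add_comm]
    exact congrArg Subtype.val (e.injective h3)
  have hCC : Subgroup.centralizer (C₁ : Set G) ≤ C₁ := by
    rw [hC₁def]
    rw [hC₁def] at hAC₁
    exact Subgroup.centralizer_le hAC₁
  exact Helper55.isPGroup_two_of_cyclic_normal_self_centralizing C₁ hC₁p hCC

end Cfsg.Agent.Lib.Helper54
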