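import Cfsg.Agent.Lib.Helper48.U3XeDefs

/-!
# U3 hive (S2283), XE sub-hive, sub-leaf XE-A: `S^j u1 S^-j = x(ν^j a, β) ∈ H`
-/

set_option autoImplicit false
set_option linter.unusedSectionVars false

namespace Cfsg.Agent.Lib.Helper23.U3

open Matrix Cfsg.Agent.Lib.Helper99 Cfsg.Agent.Lib.Helper13 Cfsg.Agent.Lib.Helper90.Psu

variable {F : Type*} [Field F] [Fintype F] {q : ℕ}

local notation "hh" => Cfsg.hermForm 3 F q

/-- one conjugation step by `S` -/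
theorem xea_step (hF : Fintype.card F = q ^ 2) (C : Cfg q F)
    (hrel : C.β + C.β ^ q + C.a ^ (q + 1) = 0)
    (hS : C.S ∈ C.H) (hSU : C.S ∈ suGL (F := F) 3 q)
    (hact : ∀ x : Fin 3 → F, (C.S : Matrix (Fin 3) (Fin 3) F) *ᵥ x =
      C.μ • x + ((C.μ⁻¹ ^ 2 - C.μ) * hh x C.ε) • C.ε) (r : F)
    (hr : r ^ (q + 1) = C.a ^ (q + 1))
    (hX : heis q C.e (r • C.ε) C.β ∈ C.H) :
    heis q C.e ((C.μ⁻¹ ^ 3 * r) • C.ε) C.β ∈ C.H := by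
  have hμ0 := C.μ_ne_zero
  have hee := C.hee
  have heε : hh C.e C.ε = 0 := hermForm_eq_zero_comm hF C.hεe
  have hμq : C.μ ^ q = C.μ⁻¹ := by
    apply eq_inv_of_mul_eq_one_left
    rw [← pow_succ]
    exact C.hμ
  have hμi : C.μ⁻¹ ^ (q + 1) = 1 := by rw [inv_pow, C.hμ, inv_one]
  have hre : hh (r • C.ε) C.e = 0 := by rw [hermForm_smul_left, C.hεe, mul_zero]
  have hrr : hh (r • C.ε) (r • C.ε) = r ^ (q + 1) := by
    rw [hermForm_smul_left, hermForm_smul_right, C.hεε, mul_one, pow_succ, mul_comm]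
  have hβ : C.β + C.β ^ q + hh (r • C.ε) (r • C.ε) = 0 := by rw [hrr, hr]; exact hrel
  have hconj := conj_heis hF hee hre hβ hSU.1
  have hSe : (C.S : Matrix (Fin 3) (Fin 3) F) *ᵥ C.e = C.μ • C.e := by
    rw [hact, heε, mul_zero, zero_smul, add_zero]
  have hSr : (C.S : Matrix (Fin 3) (Fin 3) F) *ᵥ (r • C.ε) = (C.μ⁻¹ ^ 2 * r) • C.ε := by
    rw [hact, hermForm_smul_left, C.hεε, mul_one, smul_smul, ← add_smul]
    congr 1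
    ring
  rw [hSe, hSr] at hconj
  have hre' : hh ((C.μ⁻¹ ^ 2 * r) • C.ε) C.e = 0 := by rw [hermForm_smul_left, C.hεe, mul_zero]
  have hr'r' : hh ((C.μ⁻¹ ^ 2 * r) • C.ε) ((C.μ⁻¹ ^ 2 * r) • C.ε) = r ^ (q + 1) := by
    rw [hermForm_smul_left, hermForm_smul_right, C.hεε, mul_one]
    calc C.μ⁻¹ ^ 2 * r * (C.μ⁻¹ ^ 2 * r) ^ q = (C.μ⁻¹ ^ (q + 1)) ^ 2 * r ^ (q + 1) := by ring
      _ = r ^ (q + 1) := by rw [hμi, one_pow, one_mul]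
  have hβ' : C.β + C.β ^ q +
      hh ((C.μ⁻¹ ^ 2 * r) • C.ε) ((C.μ⁻¹ ^ 2 * r) • C.ε) = 0 := by
    rw [hr'r', hr]; exact hrel
  have hsm := heis_smul hF hee hre' hβ' hμ0
  rw [hsm, C.hμ, one_mul, smul_smul, hμq] at hconj
  have hcoef : C.μ⁻¹ * (C.μ⁻¹ ^ 2 * r) = C.μ⁻¹ ^ 3 * r := by ring
  rw [hcoef] at hconj
  rw [← hconj]
  exact C.H.mul_mem (C.H.mul_mem hS hX) (C.H.inv_mem hS)

/-- XE-A -/
theorem xe_A (hF : Fintype.card F = q ^ 2) (C : Cfg q F)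
    (hrel : C.β + C.β ^ q + C.a ^ (q + 1) = 0)
    (hS : C.S ∈ C.H) (hSU : C.S ∈ suGL (F := F) 3 q)
    (hact : ∀ x : Fin 3 → F, (C.S : Matrix (Fin 3) (Fin 3) F) *ᵥ x =
      C.μ • x + ((C.μ⁻¹ ^ 2 - C.μ) * hh x C.ε) • C.ε) (j : ℕ) :
    heis q C.e (((C.μ⁻¹ ^ 3) ^ j * C.a) • C.ε) C.β ∈ C.H := by
  have hν1 : (C.μ⁻¹ ^ 3) ^ (q + 1) = 1 := by
    rw [← pow_mul, mul_comm, pow_mul, inv_pow, C.hμ, inv_one, one_pow]
  induction j with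
  | zero =>
    rw [pow_zero, one_mul]
    exact C.u1_mem_H
  | succ j ih =>
    have hr : ((C.μ⁻¹ ^ 3) ^ j * C.a) ^ (q + 1) = C.a ^ (q + 1) := by
      rw [mul_pow, ← pow_mul, mul_comm j, pow_mul, hν1, one_pow, one_mul]
    have h := xea_step hF C hrel hS hSU hact _ hr ih
    rw [← mul_assoc, ← pow_succ'] at h
    exact h

end Cfsg.Agent.Lib.Helper23.U3
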