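import Cfsg.Agent.Lib.Helper48.U3XeDefs
import Cfsg.Agent.Lib.Helper54.U3TS

/-!
# U3 hive (S2283), XE sub-hive, sub-leaf XE-5: the case `q = 5`
-/

set_option autoImplicit false
set_option linter.unusedSectionVars false

namespace Cfsg.Agent.Lib.Helper23.U3

open Matrix Cfsg.Agent.Lib.Helper99 Cfsg.Agent.Lib.Helper13 Cfsg.Agent.Lib.Helper90.Psu

variable {F : Type*} [Field F] [Fintype F] {q : ℕ}

local notation "hh" => Cfsg.hermForm 3 F q

/-- in characteristic 5 the fixed points of `w ↦ w ^ 5` are `0, 1, 2, 3, 4` -/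
theorem xe5_prime_field (h5F : (5 : F) = 0) (w : F) (hw : w ^ 5 = w) :
    ∃ k : ℕ, w = (k : F) := by
  have hprod : w * (w - 1) * (w - 2) * (w - 3) * (w - 4) = 0 := by
    linear_combination hw + (-2 * w ^ 4 + 7 * w ^ 3 - 10 * w ^ 2 + 5 * w) * h5F
  rcases mul_eq_zero.1 hprod with h | h
  · rcases mul_eq_zero.1 h with h | h
    · rcases mul_eq_zero.1 h with h | h
      · rcases mul_eq_zero.1 h with h | h
        · exact ⟨0, by rw [h]; norm_num⟩
        · exact ⟨1, by rw [sub_eq_zero.1 h]; norm_num⟩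
      · exact ⟨2, by rw [sub_eq_zero.1 h]; norm_num⟩
    · exact ⟨3, by rw [sub_eq_zero.1 h]; norm_num⟩
  · exact ⟨4, by rw [sub_eq_zero.1 h]; norm_num⟩

/-- XE-5 -/
theorem xe_five (hF : Fintype.card F = q ^ 2) (h5 : q = 5) (C : Cfg q F) (hμo : orderOf C.μ = q + 1)
    (hrel : C.β + C.β ^ q + C.a ^ (q + 1) = 0)
    (hA1 : heis q C.e (((C.μ⁻¹ ^ 3) ^ 1 * C.a) • C.ε) C.β ∈ C.H) : C.e ∈ Tset q C.H := by
  have hμ0 := C.μ_ne_zero
  have h5F : (5 : F) = 0 := by
    have := u3ts_q_cast hF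
    rw [h5] at this
    exact_mod_cast this
  have hodd : Odd q := by rw [h5]; decide
  -- `μ ^ 3 = -1`
  have hμ6 : C.μ ^ 6 = 1 := by
    have h6 : q + 1 = 6 := by omega
    rw [← h6]
    exact C.hμ
  have hμ3 : C.μ ^ 3 = -1 := by
    have hsq : C.μ ^ 3 * C.μ ^ 3 = 1 := by rw [← pow_add]; exact hμ6
    rcases mul_self_eq_one_iff.1 hsq with h | h
    · exfalso
      have hd := orderOf_dvd_of_pow_eq_one h
      rw [hμo, h5] at hd
      norm_num at hd
    · exact h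
  have hν : C.μ⁻¹ ^ 3 = -1 := by rw [inv_pow, hμ3, inv_neg_one]
  -- `μ⁻¹ = 1 - μ`
  have hquad : C.μ ^ 2 - C.μ + 1 = 0 := by
    have h1 : (C.μ + 1) * (C.μ ^ 2 - C.μ + 1) = 0 := by linear_combination hμ3
    rcases mul_eq_zero.1 h1 with h | h
    · exfalso
      apply C.hμ2
      have : C.μ = -1 := eq_neg_of_add_eq_zero_left h
      rw [this]; norm_num
    · exact h
  have hy : C.μ⁻¹ = 1 - C.μ := by
    apply inv_eq_of_mul_eq_one_right
    linear_combination -hquad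
  -- Frobenius on `hβ`
  have hμq : C.μ ^ q = C.μ⁻¹ := by
    apply eq_inv_of_mul_eq_one_left
    rw [← pow_succ]
    exact C.hμ
  have hcq : C.c ^ q = -C.c := eq_neg_of_add_eq_zero_right C.hc
  have hβ := C.hβ
  have hβq := congrArg (frobU hF) C.hβ
  simp only [map_mul, map_sub, map_pow, map_inv₀, map_ofNat, frobU_apply] at hβq
  rw [hμq, hcq, inv_inv] at hβq
  rw [hν] at hβ
  -- `c * (β - β^q) = 1`
  have hcz : C.c * (C.β - C.β ^ q) = 1 := by
    linear_combination hβ + hβq + 3 * hy - hμ3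
  have hz₀ : (C.β - C.β ^ q) + (C.β - C.β ^ q) ^ q = 0 := by
    rw [frob_sub hF, pow_q_pow_q hF]
    ring
  -- `utv e z₀ ∈ H`
  have hee := C.hee
  have hnegq : (-C.a) ^ q = -C.a ^ q := hodd.neg_pow C.a
  have hre₁ : hh ((-C.a) • C.ε) C.e = 0 := by rw [hermForm_smul_left, C.hεe, mul_zero]
  have hre₂ : hh (C.a • C.ε) C.e = 0 := by rw [hermForm_smul_left, C.hεe, mul_zero]
  have hrr₁ : hh ((-C.a) • C.ε) ((-C.a) • C.ε) = C.a ^ (q + 1) := by
    rw [hermForm_smul_left, hermForm_smul_right, C.hεε, hnegq]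
    ring
  have hrr₂ : hh (C.a • C.ε) (C.a • C.ε) = C.a ^ (q + 1) := by
    rw [hermForm_smul_left, hermForm_smul_right, C.hεε]
    ring
  have hc₁ : C.β + C.β ^ q + hh ((-C.a) • C.ε) ((-C.a) • C.ε) = 0 := by rw [hrr₁]; exact hrel
  have hc₂ : C.β + C.β ^ q + hh (C.a • C.ε) (C.a • C.ε) = 0 := by rw [hrr₂]; exact hrel
  have hmul := heis_mul hF hee hre₁ hc₁ hre₂ hc₂
  have hr0 : (-C.a) • C.ε + C.a • C.ε = 0 := by rw [← add_smul, neg_add_cancel, zero_smul]
  have hb0 : C.β + C.β - hh (C.a • C.ε) ((-C.a) • C.ε) = C.β - C.β ^ q := by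
    rw [hermForm_smul_left, hermForm_smul_right, C.hεε, hnegq]
    linear_combination hrel
  rw [hr0, hb0, heis_zero hF hee hz₀] at hmul
  have hA1' : heis q C.e ((-C.a) • C.ε) C.β ∈ C.H := by
    have h := hA1
    rw [pow_one, hν, neg_one_mul] at h
    exact h
  have hutv : utv q C.e (C.β - C.β ^ q) ∈ C.H := by
    rw [← hmul]
    exact C.H.mul_mem hA1' C.u1_mem_H
  -- all trace-zero multiples
  refine ⟨hee, fun z hz => ?_⟩
  have hzq : z ^ q = -z := eq_neg_of_add_eq_zero_right hz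
  have hw : (z * C.c) ^ 5 = z * C.c := by
    rw [← h5, mul_pow, hzq, hcq]; ring
  obtain ⟨k, hk⟩ := xe5_prime_field h5F (z * C.c) hw
  have hzk : z = (k : F) * (C.β - C.β ^ q) := by
    rw [← hk]
    linear_combination (-z) * hcz
  rw [hzk, ← u3ts_utv_pow C.e hee]
  exact C.H.pow_mem hutv k

end Cfsg.Agent.Lib.Helper23.U3
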