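import Cfsg.Agent.Lib.Helper60.U3ConjDefs

/-!
# U3 hive (S2283), U3-CONJ sub-hive, sub-leaf CJ-HVEC: the form in frame coordinates
-/

set_option autoImplicit false
set_option linter.unusedSectionVars false

namespace Cfsg.Agent.Lib.Helper23.U3

open Matrix Cfsg.Agent.Lib.Helper99 Cfsg.Agent.Lib.Helper13 Cfsg.Agent.Lib.Helper90.Psu

variable {F : Type*} [Field F] [Fintype F] {q : ℕ}

local notation "hh" => Cfsg.hermForm 3 F q

theorem cjhvec_hfe (hF : Fintype.card F = q ^ 2) (C : Cfg q F) : hh C.f C.e = 1 := by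
  have h := hermForm_conj hF 3 C.e C.f
  rw [C.hef, one_pow] at h
  exact h.symm

theorem cjhvec_heε (hF : Fintype.card F = q ^ 2) (C : Cfg q F) : hh C.e C.ε = 0 :=
  hermForm_eq_zero_comm hF C.hεe

theorem cjhvec_hfε (hF : Fintype.card F = q ^ 2) (C : Cfg q F) : hh C.f C.ε = 0 :=
  hermForm_eq_zero_comm hF C.hεf

/-- `h(x, e) = x3` -/
theorem cjhvec_vec_e (hF : Fintype.card F = q ^ 2) (C : Cfg q F) (x1 x2 x3 : F) :
    hh (C.vec x1 x2 x3) C.e = x3 := by
  simp only [Cfg.vec, hermForm_add_left, hermForm_smul_left, C.hee, C.hεe, cjhvec_hfe hF C]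
  ring

/-- `h(x, ε) = x2` -/
theorem cjhvec_vec_ε (hF : Fintype.card F = q ^ 2) (C : Cfg q F) (x1 x2 x3 : F) :
    hh (C.vec x1 x2 x3) C.ε = x2 := by
  simp only [Cfg.vec, hermForm_add_left, hermForm_smul_left, C.hεε, cjhvec_heε hF C,
    cjhvec_hfε hF C]
  ring

/-- `h(x, f) = x1` -/
theorem cjhvec_vec_f (_hF : Fintype.card F = q ^ 2) (C : Cfg q F) (x1 x2 x3 : F) :
    hh (C.vec x1 x2 x3) C.f = x1 := by
  simp only [Cfg.vec, hermForm_add_left, hermForm_smul_left, C.hef, C.hεf, C.hff]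
  ring

/-- CJ-HVEC (E): the form in frame coordinates. -/
theorem hh_vec (hF : Fintype.card F = q ^ 2) (C : Cfg q F) (x1 x2 x3 y1 y2 y3 : F) :
    hh (C.vec x1 x2 x3) (C.vec y1 y2 y3) = x1 * y3 ^ q + x2 * y2 ^ q + x3 * y1 ^ q := by
  have h : C.vec y1 y2 y3 = y1 • C.e + y2 • C.ε + y3 • C.f := rfl
  rw [h, hermForm_add_right hF, hermForm_add_right hF, hermForm_smul_right, hermForm_smul_right,
    hermForm_smul_right, cjhvec_vec_e hF, cjhvec_vec_ε hF, cjhvec_vec_f hF]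
  ring

end Cfsg.Agent.Lib.Helper23.U3
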