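import Cfsg.Agent.Lib.Helper60.U3ConjDefs
import Cfsg.Agent.Lib.Helper54.U3REL
import Cfsg.Agent.Lib.Helper54.U3CjHVEC

/-!
# U3 hive (S2283), U3-CONJ sub-hive, sub-leaf CJ-U1V: `u1` in frame coordinates
-/

set_option autoImplicit false
set_option linter.unusedSectionVars false

namespace Cfsg.Agent.Lib.Helper23.U3

open Matrix Cfsg.Agent.Lib.Helper99 Cfsg.Agent.Lib.Helper13 Cfsg.Agent.Lib.Helper90.Psu

variable {F : Type*} [Field F] [Fintype F] {q : ℕ}

local notation "hh" => Cfsg.hermForm 3 F q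

/-- CJ-U1V (E/M): `u1` in frame coordinates. -/
theorem u1_vec (hF : Fintype.card F = q ^ 2) (C : Cfg q F) (x1 x2 x3 : F) :
    (C.u1 : Matrix (Fin 3) (Fin 3) F) *ᵥ C.vec x1 x2 x3 =
      C.vec (x1 - C.a ^ q * x2 + C.β * x3) (x2 + C.a * x3) x3 := by
  have hre : hh (C.a • C.ε) C.e = 0 := by rw [hermForm_smul_left, C.hεe, mul_zero]
  have hrr : hh (C.a • C.ε) (C.a • C.ε) = C.a ^ (q + 1) := by
    rw [hermForm_smul_left, hermForm_smul_right, C.hεε, mul_one, pow_succ, mul_comm]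
  have hβ : C.β + C.β ^ q + hh (C.a • C.ε) (C.a • C.ε) = 0 := by rw [hrr]; exact cfg_rel hF C
  unfold Cfg.u1
  rw [heis_mulVec hF C.hee hre hβ, cjhvec_vec_e hF, hermForm_smul_right, cjhvec_vec_ε hF]
  unfold Cfg.vec
  ext i
  simp only [Pi.add_apply, Pi.sub_apply, Pi.smul_apply, smul_eq_mul]
  ring

end Cfsg.Agent.Lib.Helper23.U3
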