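import Cfsg.Agent.Lib.Helper60.U3ConjDefs
import Cfsg.Agent.Lib.Helper54.U3TS
import Cfsg.Agent.Lib.Helper54.U3CjU1V

/-!
# U3 hive (S2283), U3-CONJ sub-hive, sub-leaf CJ-U2V: `u2 = u1 T S` in frame coordinates
-/

set_option autoImplicit false
set_option linter.unusedSectionVars false

namespace Cfsg.Agent.Lib.Helper23.U3

open Matrix Cfsg.Agent.Lib.Helper99 Cfsg.Agent.Lib.Helper13 Cfsg.Agent.Lib.Helper90.Psu

variable {F : Type*} [Field F] [Fintype F] {q : ℕ}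

local notation "hh" => Cfsg.hermForm 3 F q

/-- `S` in frame coordinates -/
theorem cju2v_S_vec (hF : Fintype.card F = q ^ 2) (C : Cfg q F) (x1 x2 x3 : F) :
    (C.S : Matrix (Fin 3) (Fin 3) F) *ᵥ C.vec x1 x2 x3 =
      C.vec (C.μ * x1) (C.μ⁻¹ ^ 2 * x2) (C.μ * x3) := by
  have hμ0 := C.μ_ne_zero
  rw [u3ts_S_mulVec, cjhvec_vec_ε hF, C.hεε, div_one]
  unfold Cfg.vec
  ext i
  simp only [Pi.add_apply, Pi.smul_apply, smul_eq_mul]
  field_simp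
  ring

/-- `T` in frame coordinates -/
theorem cju2v_T_vec (hF : Fintype.card F = q ^ 2) (C : Cfg q F) (x1 x2 x3 : F) :
    (C.T : Matrix (Fin 3) (Fin 3) F) *ᵥ C.vec x1 x2 x3 = C.vec x1 x2 (x3 + C.c * x1) := by
  unfold Cfg.T
  rw [utv_mulVec C.f C.hff, cjhvec_vec_f hF]
  unfold Cfg.vec
  ext i
  simp only [Pi.add_apply, Pi.smul_apply, smul_eq_mul]
  ring

/-- CJ-U2V (M): `u2 = u1 T S` in frame coordinates. -/
theorem u2_vec (hF : Fintype.card F = q ^ 2) (C : Cfg q F) (x1 x2 x3 : F) :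
    (C.u2 : Matrix (Fin 3) (Fin 3) F) *ᵥ C.vec x1 x2 x3 =
      C.vec (C.μ * (1 + C.c * C.β) * x1 - C.μ⁻¹ ^ 2 * C.a ^ q * x2 + C.μ * C.β * x3)
        (C.μ * C.c * C.a * x1 + C.μ⁻¹ ^ 2 * x2 + C.μ * C.a * x3) (C.μ * C.c * x1 + C.μ * x3) := by
  unfold Cfg.u2
  rw [Units.val_mul, Units.val_mul, ← mulVec_mulVec, ← mulVec_mulVec, cju2v_S_vec hF,
    cju2v_T_vec hF, u1_vec hF]
  congr 1 <;> ring

end Cfsg.Agent.Lib.Helper23.U3
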