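/-
Fixed elements in fusion systems: a version of Alperin's fusion theorem for an arbitrary family of
subgroups containing a fully automized receptive conjugate of every subgroup, in the form
"if all automorphisms of members of the family fix the elements of `X`, so does every map".
-/
import Cfsg.Agent.Lib.Helper87.Lemma26
import Cfsg.Agent.Lib.Helper87.Alperin

set_option autoImplicit false

namespace Cfsg.Agent.Lib.Helper54.FusFix

open Cfsg Cfsg.FusionSystem Cfsg.Agent.Lib.Helper87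

variable {Ω : Type*} [Group Ω] {S : Subgroup Ω}

/-- Every map of the system defined at `x` fixes `x`. -/
def FixedBy (F : FusionSystem S) (x : Ω) : Prop :=
  ∀ (P : Subgroup Ω) (φ : P →* Ω), φ ∈ F.Hom P → ∀ hx : x ∈ P, φ ⟨x, hx⟩ = x

/-- An injective map of the system from `U` into `U` has range `U`. -/
theorem range_eq_of_forall_mem [Finite S] (F : FusionSystem S) {U : Subgroup Ω} {α : U →* Ω}
    (hα : α ∈ F.Hom U) (h : ∀ u : U, α u ∈ U) : α.range = U := by
  have hU : U ≤ S := hom_le F hα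
  haveI : Finite U := finite_of_le hU
  apply Subgroup.eq_of_le_of_card_ge
  · rintro _ ⟨u, rfl⟩; exact h u
  · exact (card_eq_of_isConj F ⟨α, hα, rfl⟩).le

theorem fix_propagation [Finite S] {p : ℕ} [Fact p.Prime] (hS : IsPGroup p S) (F : FusionSystem S)
    (𝒰 : Set (Subgroup Ω))
    (h𝒰 : ∀ P : Subgroup Ω, P ≤ S → ∃ U ∈ 𝒰, F.IsConj P U ∧ F.IsFullyAutomized p U ∧ F.IsReceptive U)
    (X : Set Ω)
    (hX : ∀ U ∈ 𝒰, ∀ ψ : U →* Ω, ψ ∈ F.Hom U → ψ.range = U → ∀ x ∈ X, ∀ hx : x ∈ U, ψ ⟨x, hx⟩ = x) :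
    ∀ x ∈ X, FixedBy F x := by
  have key : ∀ n : ℕ, ∀ (P : Subgroup Ω), Nat.card S - Nat.card P = n → ∀ (φ : P →* Ω),
      φ ∈ F.Hom P → ∀ x ∈ X, ∀ hx : x ∈ P, φ ⟨x, hx⟩ = x := by
    intro n
    induction n using Nat.strong_induction_on with
    | _ n ih =>
    intro P hn φ hφ x hxX hx
    have hP : P ≤ S := hom_le F hφ
    haveI hfinP : Finite P := finite_of_le hP
    obtain ⟨U, hU𝒰, hc, hfa, hrec⟩ := h𝒰 P hP
    by_cases hPS : P = S
    · subst hPS
      have hUS : U = P := eq_top_of_isConj_top F hc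
      subst hUS
      have hr : φ.range = U := range_eq_of_forall_mem F hφ (fun u => hom_mem_S F hφ u)
      exact hX U hU𝒰 φ hφ hr x hxX hx
    · -- the image of `P`
      have hcP' : F.IsConj P φ.range := ⟨φ, hφ, rfl⟩
      have hP'S : φ.range ≤ S := range_le F hφ
      have hcard' : Nat.card φ.range = Nat.card P := (card_eq_of_isConj F hcP').symm
      have hP'ne : φ.range ≠ S := by
        intro h
        apply hPS
        apply Subgroup.eq_of_le_of_card_ge hP
        rw [← hcard', h]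
      have hc' : F.IsConj φ.range U := isConj_trans F (isConj_symm F hcP') hc
      obtain ⟨χ, hχ, hχN, hχP, hχU⟩ := exists_normalizer_map hS F hfa hrec hc
      obtain ⟨χ', hχ', hχ'N, hχ'P, hχ'U⟩ := exists_normalizer_map hS F hfa hrec hc'
      have hlt : Nat.card P < Nat.card (normalizerIn S P) := card_lt_card_normalizerIn hS hP hPS
      have hlt' : Nat.card P < Nat.card (normalizerIn S φ.range) := by
        rw [← hcard']; exact card_lt_card_normalizerIn hS hP'S hP'ne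
      have hNS : Nat.card (normalizerIn S P) ≤ Nat.card S :=
        Subgroup.card_le_of_le (normalizerIn_le S P)
      have hNS' : Nat.card (normalizerIn S φ.range) ≤ Nat.card S :=
        Subgroup.card_le_of_le (normalizerIn_le S φ.range)
      have hPN : P ≤ normalizerIn S P := le_normalizerIn hP
      have hP'N : φ.range ≤ normalizerIn S φ.range := le_normalizerIn hP'S
      -- Step 1: `χ` fixes `x`
      have h1 : χ ⟨x, hPN hx⟩ = x :=
        ih (Nat.card S - Nat.card (normalizerIn S P)) (by omega) _ rfl χ hχ x hxX (hPN hx)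
      have hxU : x ∈ U := by
        have := hχP ⟨x, hPN hx⟩ hx
        rwa [h1] at this
      -- Step 2: the automorphism of `U`
      have hχPmem : χ.comp (Subgroup.inclusion hPN) ∈ F.Hom P := restrict_mem F hχ hPN
      have hχPr : (χ.comp (Subgroup.inclusion hPN)).range = U := by
        apply le_antisymm
        · rintro _ ⟨y, rfl⟩
          exact hχP ⟨y, hPN y.2⟩ y.2
        · intro q hq
          obtain ⟨y, hyP, hy⟩ := hχU q hq
          exact ⟨⟨y, hyP⟩, hy⟩
      obtain ⟨ψ₁, hψ₁, hψ₁inv, hψ₁r⟩ := inv_exists F hχPmem hχPr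
      have hψ₁P : ∀ u : U, ψ₁ u ∈ P := fun u => hψ₁r ▸ ⟨u, rfl⟩
      have hχ'Pmem : χ'.comp (Subgroup.inclusion hP'N) ∈ F.Hom φ.range := restrict_mem F hχ' hP'N
      have hα₁ := F.comp_mem hψ₁ hφ hψ₁P
      have hα₁r : ∀ u : U, (φ.comp (ψ₁.codRestrict P hψ₁P)) u ∈ φ.range := fun u => ⟨_, rfl⟩
      have hα := F.comp_mem hα₁ hχ'Pmem hα₁r
      have hαU : ∀ u : U, ((χ'.comp (Subgroup.inclusion hP'N)).comp
          ((φ.comp (ψ₁.codRestrict P hψ₁P)).codRestrict φ.range hα₁r)) u ∈ U := by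
        intro u
        exact hχ'P _ (hα₁r u)
      have hαr := range_eq_of_forall_mem F hα hαU
      have h2 := hX U hU𝒰 _ hα hαr x hxX hxU
      -- unfold
      have e1 : ψ₁ ⟨x, hxU⟩ = x := by
        have := hψ₁inv ⟨x, hx⟩ (by
          show χ (Subgroup.inclusion hPN ⟨x, hx⟩) ∈ U
          exact hχP _ hx)
        have e : (⟨(χ.comp (Subgroup.inclusion hPN)) ⟨x, hx⟩, (by
          show χ (Subgroup.inclusion hPN ⟨x, hx⟩) ∈ U
          exact hχP _ hx)⟩ : U) = ⟨x, hxU⟩ := Subtype.ext h1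
        rw [e] at this
        exact this
      have h3 : χ' ⟨φ ⟨x, hx⟩, hP'N ⟨_, rfl⟩⟩ = x := by
        have e2 : (ψ₁.codRestrict P hψ₁P) ⟨x, hxU⟩ = ⟨x, hx⟩ := Subtype.ext e1
        have : ((χ'.comp (Subgroup.inclusion hP'N)).comp
          ((φ.comp (ψ₁.codRestrict P hψ₁P)).codRestrict φ.range hα₁r)) ⟨x, hxU⟩ =
            χ' ⟨φ ⟨x, hx⟩, hP'N ⟨_, rfl⟩⟩ := by
          show χ' (Subgroup.inclusion hP'N ⟨φ ((ψ₁.codRestrict P hψ₁P) ⟨x, hxU⟩), _⟩) = _
          congr 1
          apply Subtype.ext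
          show φ ((ψ₁.codRestrict P hψ₁P) ⟨x, hxU⟩) = φ ⟨x, hx⟩
          rw [e2]
        rw [← this]
        exact h2
      -- Step 3: the inverse of `χ'`
      obtain ⟨ψ₂, hψ₂, hψ₂inv, hψ₂r⟩ := inv_exists F hχ' rfl
      have hcardr : Nat.card χ'.range = Nat.card (normalizerIn S φ.range) :=
        (card_eq_of_isConj F ⟨χ', hχ', rfl⟩).symm
      have hxr : x ∈ χ'.range := ⟨_, h3⟩
      have h4 : ψ₂ ⟨x, hxr⟩ = x :=
        ih (Nat.card S - Nat.card χ'.range) (by omega) _ rfl ψ₂ hψ₂ x hxX hxr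
      have h5 := hψ₂inv ⟨φ ⟨x, hx⟩, hP'N ⟨_, rfl⟩⟩ ⟨_, rfl⟩
      have e3 : (⟨χ' ⟨φ ⟨x, hx⟩, hP'N ⟨_, rfl⟩⟩, ⟨_, rfl⟩⟩ : χ'.range) = ⟨x, hxr⟩ := Subtype.ext h3
      rw [e3, h4] at h5
      exact h5.symm
  intro x hxX P φ hφ hx
  exact key _ P rfl φ hφ x hxX hx

end Cfsg.Agent.Lib.Helper54.FusFix
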