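/-
Focal subgroups in fusion systems: the focal subgroup of a normalizer system, and a version of
Alperin's fusion theorem for an arbitrary family of subgroups containing a fully automized receptive
conjugate of every subgroup, in the form "if all automorphisms of members of the family move elements
inside cosets of `D`, so does every map".
-/
import Cfsg.Agent.Lib.Helper54.FusFix
import Cfsg.Agent.Lib.Helper87.NormalizerSystem

set_option autoImplicit false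

namespace Cfsg.Agent.Lib.Helper54.FusFoc

open Cfsg Cfsg.FusionSystem Cfsg.Agent.Lib.Helper87 Cfsg.Agent.Lib.Helper54.FusFix
open scoped commutatorElement

variable {Ω : Type*} [Group Ω] {S : Subgroup Ω}

/-- The focal subgroup of the normalizer system `N_F(Q)`, defined without reference to the system. -/
def focN (F : FusionSystem S) (Q : Subgroup Ω) : Subgroup Ω :=
  Subgroup.closure {y : Ω | ∃ (P : Subgroup Ω) (φ : P →* Ω) (x : P),
    φ ∈ F.normalizerHom Q P ∧ y = (x : Ω)⁻¹ * φ x}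

theorem focal_eq_focN (F : FusionSystem S) (Q : Subgroup Ω) (N : FusionSystem (normalizerIn S Q))
    (hN : F.IsNormalizerSystem Q N) : N.focalSubgroup = focN F Q := by
  unfold focalSubgroup focN
  congr 1
  ext y
  constructor
  · rintro ⟨P, φ, x, hφ, rfl⟩
    exact ⟨P, φ, x, (hN P) ▸ hφ, rfl⟩
  · rintro ⟨P, φ, x, hφ, rfl⟩
    exact ⟨P, φ, x, (hN P).symm ▸ hφ, rfl⟩

theorem focN_le_focal (F : FusionSystem S) (Q : Subgroup Ω) : focN F Q ≤ F.focalSubgroup := by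
  unfold focN focalSubgroup
  apply Subgroup.closure_mono
  rintro y ⟨P, φ, x, hφ, rfl⟩
  exact ⟨P, φ, x, hφ.1, rfl⟩

theorem mem_focal (F : FusionSystem S) {P : Subgroup Ω} {φ : P →* Ω} (hφ : φ ∈ F.Hom P) (x : P) :
    (x : Ω)⁻¹ * φ x ∈ F.focalSubgroup :=
  Subgroup.subset_closure ⟨P, φ, x, hφ, rfl⟩

theorem mem_focN (F : FusionSystem S) {Q P : Subgroup Ω} {φ : P →* Ω}
    (hφ : φ ∈ F.normalizerHom Q P) (x : P) : (x : Ω)⁻¹ * φ x ∈ focN F Q :=
  Subgroup.subset_closure ⟨P, φ, x, hφ, rfl⟩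

theorem focal_le_S (F : FusionSystem S) : F.focalSubgroup ≤ S := by
  unfold focalSubgroup
  rw [Subgroup.closure_le]
  rintro y ⟨P, φ, x, hφ, rfl⟩
  exact S.mul_mem (S.inv_mem (hom_le F hφ x.2)) (hom_mem_S F hφ x)

/-- The derived subgroup of `S` lies in the focal subgroup of every normalizer system of a subgroup
normalized by `S`. -/
theorem commutator_le_focN (F : FusionSystem S) {Q : Subgroup Ω} (hQ : Q ≤ S)
    (hQN : S ≤ Subgroup.normalizer (Q : Set Ω)) : ⁅S, S⁆ ≤ focN F Q := by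
  rw [Subgroup.commutator_le]
  intro s hs t ht
  -- ⁅s, t⁆ = s t s⁻¹ t⁻¹ = (t⁻¹)⁻¹⁻¹ ... use x = t⁻¹: x⁻¹ * (s x s⁻¹)... rearranged
  have hN : normalizerIn S Q = S := le_antisymm inf_le_left (le_inf le_rfl hQN)
  have hsN : s ∈ normalizerIn S Q := by rw [hN]; exact hs
  have hzN : Subgroup.zpowers t⁻¹ ≤ normalizerIn S Q := by
    rw [hN, Subgroup.zpowers_le]; exact S.inv_mem ht
  have hφ : conjHom (Subgroup.zpowers t⁻¹) s ∈ F.normalizerHom Q (Subgroup.zpowers t⁻¹) := by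
    have := (normalizerSystem F Q hQ).conj_mem hzN hsN
    exact this
  have h := mem_focN F hφ ⟨t⁻¹, Subgroup.mem_zpowers _⟩
  have e : ((⟨t⁻¹, Subgroup.mem_zpowers _⟩ : Subgroup.zpowers t⁻¹) : Ω)⁻¹ *
      conjHom (Subgroup.zpowers t⁻¹) s ⟨t⁻¹, Subgroup.mem_zpowers _⟩ = t * (s * t⁻¹ * s⁻¹) := by
    show (t⁻¹)⁻¹ * (s * t⁻¹ * s⁻¹) = _
    rw [inv_inv]
  rw [e] at h
  -- ⁅s,t⁆ = s t s⁻¹ t⁻¹ ; we have t s t⁻¹ s⁻¹ = ⁅t, s⁆ = ⁅s,t⁆⁻¹
  have e2 : ⁅s, t⁆ = (t * (s * t⁻¹ * s⁻¹))⁻¹ := by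
    rw [commutatorElement_def]; group
  rw [e2]
  exact Subgroup.inv_mem _ h

theorem focal_propagation [Finite S] {p : ℕ} [Fact p.Prime] (hS : IsPGroup p S) (F : FusionSystem S)
    (𝒰 : Set (Subgroup Ω))
    (h𝒰 : ∀ P : Subgroup Ω, P ≤ S → ∃ U ∈ 𝒰, F.IsConj P U ∧ F.IsFullyAutomized p U ∧ F.IsReceptive U)
    (D : Subgroup Ω)
    (hD : ∀ U ∈ 𝒰, ∀ ψ : U →* Ω, ψ ∈ F.Hom U → ψ.range = U → ∀ x : U, (x : Ω)⁻¹ * ψ x ∈ D) :
    F.focalSubgroup ≤ D := by
  have key : ∀ n : ℕ, ∀ (P : Subgroup Ω), Nat.card S - Nat.card P = n → ∀ (φ : P →* Ω),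
      φ ∈ F.Hom P → ∀ x : P, (x : Ω)⁻¹ * φ x ∈ D := by
    intro n
    induction n using Nat.strong_induction_on with
    | _ n ih =>
    intro P hn φ hφ x
    have hP : P ≤ S := hom_le F hφ
    haveI hfinP : Finite P := finite_of_le hP
    obtain ⟨U, hU𝒰, hc, hfa, hrec⟩ := h𝒰 P hP
    by_cases hPS : P = S
    · subst hPS
      have hUS : U = P := eq_top_of_isConj_top F hc
      subst hUS
      have hr : φ.range = U := range_eq_of_forall_mem F hφ (fun u => hom_mem_S F hφ u)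
      exact hD U hU𝒰 φ hφ hr x
    · have hcP' : F.IsConj P φ.range := ⟨φ, hφ, rfl⟩
      have hP'S : φ.range ≤ S := range_le F hφ
      have hcard' : Nat.card φ.range = Nat.card P := (card_eq_of_isConj F hcP').symm
      have hP'ne : φ.range ≠ S := by
        intro h
        apply hPS
        apply Subgroup.eq_of_le_of_card_ge hP
        rw [← hcard', h]
      have hc' : F.IsConj φ.range U := isConj_trans F (isConj_symm F hcP') hc
      obtain ⟨χ, hχ, hχN, hχP, hχU⟩ := exists_normalizer_map hS F hfa hrec hc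
      obtain ⟨χ', hχ', hχ'N, hχ'P, hχ'U⟩ := exists_normalizer_map hS F hfa hrec hc'
      have hlt : Nat.card P < Nat.card (normalizerIn S P) := card_lt_card_normalizerIn hS hP hPS
      have hlt' : Nat.card P < Nat.card (normalizerIn S φ.range) := by
        rw [← hcard']; exact card_lt_card_normalizerIn hS hP'S hP'ne
      have hNS : Nat.card (normalizerIn S P) ≤ Nat.card S :=
        Subgroup.card_le_of_le (normalizerIn_le S P)
      have hNS' : Nat.card (normalizerIn S φ.range) ≤ Nat.card S :=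
        Subgroup.card_le_of_le (normalizerIn_le S φ.range)
      have hPN : P ≤ normalizerIn S P := le_normalizerIn hP
      have hP'N : φ.range ≤ normalizerIn S φ.range := le_normalizerIn hP'S
      -- Step 1: `χ`
      have h1 : (x : Ω)⁻¹ * χ ⟨x, hPN x.2⟩ ∈ D :=
        ih (Nat.card S - Nat.card (normalizerIn S P)) (by omega) _ rfl χ hχ ⟨x, hPN x.2⟩
      have hyU : χ ⟨x, hPN x.2⟩ ∈ U := hχP ⟨x, hPN x.2⟩ x.2
      -- Step 2: the automorphism of `U`
      have hχPmem : χ.comp (Subgroup.inclusion hPN) ∈ F.Hom P := restrict_mem F hχ hPN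
      have hχPr : (χ.comp (Subgroup.inclusion hPN)).range = U := by
        apply le_antisymm
        · rintro _ ⟨y, rfl⟩
          exact hχP ⟨y, hPN y.2⟩ y.2
        · intro q hq
          obtain ⟨y, hyP, hy⟩ := hχU q hq
          exact ⟨⟨y, hyP⟩, hy⟩
      obtain ⟨ψ₁, hψ₁, hψ₁inv, hψ₁r⟩ := inv_exists F hχPmem hχPr
      have hψ₁P : ∀ u : U, ψ₁ u ∈ P := fun u => hψ₁r ▸ ⟨u, rfl⟩
      have hχ'Pmem : χ'.comp (Subgroup.inclusion hP'N) ∈ F.Hom φ.range := restrict_mem F hχ' hP'N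
      have hα₁ := F.comp_mem hψ₁ hφ hψ₁P
      have hα₁r : ∀ u : U, (φ.comp (ψ₁.codRestrict P hψ₁P)) u ∈ φ.range := fun u => ⟨_, rfl⟩
      have hα := F.comp_mem hα₁ hχ'Pmem hα₁r
      have hαU : ∀ u : U, ((χ'.comp (Subgroup.inclusion hP'N)).comp
          ((φ.comp (ψ₁.codRestrict P hψ₁P)).codRestrict φ.range hα₁r)) u ∈ U := by
        intro u
        exact hχ'P _ (hα₁r u)
      have hαr := range_eq_of_forall_mem F hα hαU
      have h2 := hD U hU𝒰 _ hα hαr ⟨χ ⟨x, hPN x.2⟩, hyU⟩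
      -- the value of the automorphism at `χ x`
      have e1 : ψ₁ ⟨χ ⟨x, hPN x.2⟩, hyU⟩ = x := hψ₁inv x (by
          show χ (Subgroup.inclusion hPN x) ∈ U
          exact hχP _ x.2)
      have e3 : ((χ'.comp (Subgroup.inclusion hP'N)).comp
          ((φ.comp (ψ₁.codRestrict P hψ₁P)).codRestrict φ.range hα₁r)) ⟨χ ⟨x, hPN x.2⟩, hyU⟩ =
            χ' ⟨φ x, hP'N ⟨_, rfl⟩⟩ := by
        have e2 : (ψ₁.codRestrict P hψ₁P) ⟨χ ⟨x, hPN x.2⟩, hyU⟩ = x := Subtype.ext e1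
        show χ' (Subgroup.inclusion hP'N ⟨φ ((ψ₁.codRestrict P hψ₁P) ⟨χ ⟨x, hPN x.2⟩, hyU⟩), _⟩) = _
        congr 1
        apply Subtype.ext
        show φ ((ψ₁.codRestrict P hψ₁P) ⟨χ ⟨x, hPN x.2⟩, hyU⟩) = φ x
        rw [e2]
      rw [e3] at h2
      -- Step 3: `χ'`
      have h3 : (φ x)⁻¹ * χ' ⟨φ x, hP'N ⟨_, rfl⟩⟩ ∈ D :=
        ih (Nat.card S - Nat.card (normalizerIn S φ.range)) (by omega) _ rfl χ' hχ'
          ⟨φ x, hP'N ⟨_, rfl⟩⟩
      have e : (x : Ω)⁻¹ * φ x = ((x : Ω)⁻¹ * χ ⟨x, hPN x.2⟩) *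
          ((χ ⟨x, hPN x.2⟩)⁻¹ * χ' ⟨φ x, hP'N ⟨_, rfl⟩⟩) *
          ((φ x)⁻¹ * χ' ⟨φ x, hP'N ⟨_, rfl⟩⟩)⁻¹ := by group
      rw [e]
      exact D.mul_mem (D.mul_mem h1 h2) (D.inv_mem h3)
  unfold focalSubgroup
  rw [Subgroup.closure_le]
  rintro y ⟨P, φ, x, hφ, rfl⟩
  exact key _ P rfl φ hφ x

end Cfsg.Agent.Lib.Helper54.FusFoc
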