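import Cfsg.Agent.Lib.Helper81.Mi.Defs
import Cfsg.Agent.Lib.Helper69.MiQV

set_option autoImplicit false

/-!
# Mi hive (S2140, owner helper81): leaf MI-TV2 `conj_tv`, `vecMul_inv_dotProduct`

Exact-name wrappers over helper69's `qv_conj_tv` / `qv_dot` (landed with MI-QV).
-/

namespace Cfsg.Agent.Lib.Helper81.Mi

open Matrix

section concrete

variable {F : Type*} [Field F] {n : ℕ}

/-- MI-TV2: conjugation formula. -/
theorem conj_tv (γ : SLn n F) (v φ : Fin n → F) :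
    γ * tv v φ * γ⁻¹ =
      tv ((γ : Matrix (Fin n) (Fin n) F) *ᵥ v) (φ ᵥ* ((γ⁻¹ : SLn n F) : Matrix (Fin n) (Fin n) F)) :=
  qv_conj_tv γ v φ

/-- MI-TV2 -/
theorem vecMul_inv_dotProduct (γ : SLn n F) (φ x : Fin n → F) :
    (φ ᵥ* ((γ⁻¹ : SLn n F) : Matrix (Fin n) (Fin n) F)) ⬝ᵥ ((γ : Matrix (Fin n) (Fin n) F) *ᵥ x) = φ ⬝ᵥ x :=
  qv_dot γ φ x

end concrete

end Cfsg.Agent.Lib.Helper81.Mi
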