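import Cfsg.Agent.Lib.Helper37.G2zDefs

/-! # G2z mini-hive (S4279, architect helper37): leaf G2Z-CENTRE (helper54)

`L1 ⊓ L2 = ⟨t0⟩`: an element of `L1 ⊓ L2 = φ₆(SL₂) ⊓ φ₉(SL₂)` commutes with `L2 = φ₉(SL₂)`, so (injectivity) its
`φ₉`-preimage is central in `SL₂(F)`, i.e. `± 1`. -/

set_option autoImplicit false

namespace Cfsg.Agent.Lib.Helper37.G2z

open Cfsg Cfsg.Lie Cfsg.Agent.Lib.Helper36 Cfsg.Agent.Lib.Helper20.G2c Cfsg.Agent.Lib.Helper18

/-- the centre of `SL₂(F)` is `{1, -1}` -/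
theorem g2zcentre_center {F : Type*} [Field F] (g : Matrix.SpecialLinearGroup (Fin 2) F)
    (hg : ∀ k : Matrix.SpecialLinearGroup (Fin 2) F, g * k = k * g) : g = 1 ∨ g = -1 := by
  have hc : g ∈ Subgroup.center (Matrix.SpecialLinearGroup (Fin 2) F) := by
    rw [Subgroup.mem_center_iff]
    intro k
    exact (hg k).symm
  rw [Matrix.SpecialLinearGroup.mem_center_iff] at hc
  obtain ⟨r, hr, hsc⟩ := hc
  have hr2 : r = 1 ∨ r = -1 := by
    have : (r - 1) * (r + 1) = 0 := by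
      have h2 : r ^ 2 = 1 := by simpa using hr
      ring_nf
      rw [h2]
      ring
    rcases mul_eq_zero.1 this with h | h
    · left; exact sub_eq_zero.1 h
    · right; exact eq_neg_of_add_eq_zero_left h
  rcases hr2 with rfl | rfl
  · left
    apply Subtype.ext
    rw [← hsc]
    simp
  · right
    apply Subtype.ext
    rw [← hsc]
    ext i j
    simp only [Matrix.scalar_apply, Matrix.diagonal_apply, Matrix.SpecialLinearGroup.coe_neg,
      Matrix.SpecialLinearGroup.coe_one, Matrix.neg_apply, Matrix.one_apply]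
    split_ifs <;> simp

variable (F : Type*) [Field F]

/-- G2Z-CENTRE -/
theorem L1_inf_L2 (hi9 : Function.Injective (phi9 F))
    (hr6 : (phi6 F).range = L1 F) (hr9 : (phi9 F).range = L2 F)
    (hn6 : phi6 F (-1) = t0 F) (hn9 : phi9 F (-1) = t0 F)
    (hcomm : ∀ x ∈ L1 F, ∀ y ∈ L2 F, x * y = y * x) : L1 F ⊓ L2 F = Subgroup.zpowers (t0 F) := by
  apply le_antisymm
  · intro x hx
    obtain ⟨hx1, hx2⟩ := Subgroup.mem_inf.1 hx
    rw [← hr9] at hx2
    obtain ⟨g, rfl⟩ := hx2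
    have hg : ∀ k : Matrix.SpecialLinearGroup (Fin 2) F, g * k = k * g := by
      intro k
      apply hi9
      rw [map_mul, map_mul]
      exact hcomm _ hx1 _ (by rw [← hr9]; exact ⟨k, rfl⟩)
    rcases g2zcentre_center g hg with rfl | rfl
    · rw [map_one]
      exact one_mem _
    · rw [hn9]
      exact Subgroup.mem_zpowers _
  · rw [Subgroup.zpowers_le]
    refine Subgroup.mem_inf.2 ⟨?_, ?_⟩
    · rw [← hr6, ← hn6]
      exact ⟨-1, rfl⟩
    · rw [← hr9, ← hn9]
      exact ⟨-1, rfl⟩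

end Cfsg.Agent.Lib.Helper37.G2z
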