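import Cfsg.Agent.Lib.Helper41.PsDefs
import Cfsg.Agent.Lib.Helper88.CgCG4

/-!
# Ps hive (S4321), leaf PS17 `ps_cB`, core (helper54)

`C(b) = P * C_G(P)`, with the statement of PS16 as an explicit hypothesis; PS15 (relative CG4) is
proved here privately as `ps17_cg4rel`.
-/

set_option autoImplicit false

namespace Cfsg.Agent.Lib.Helper41.Ps

open Subgroup
open Cfsg.Agent.Lib.Helper22.Cg

universe u

/-- relative CG4 (private copy of PS15). -/
theorem ps17_cg4rel {G : Type u} [Group G] [Finite G] (C L : Subgroup G)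
    (h : ∀ g ∈ C, ∃ k ∈ C, k * g * k⁻¹ ∈ L) : C ≤ L := by
  have htop : L.subgroupOf C = ⊤ := by
    apply cg4
    rintro ⟨g, hg⟩
    obtain ⟨k, hk, hkL⟩ := h g hg
    refine ⟨⟨k, hk⟩, ?_⟩
    rw [Subgroup.mem_subgroupOf]
    simpa using hkL
  intro g hg
  have : (⟨g, hg⟩ : C) ∈ L.subgroupOf C := by rw [htop]; exact Subgroup.mem_top _
  rw [Subgroup.mem_subgroupOf] at this
  exact this

/-- the subgroup `P * C_G(P)`. -/
def ps17_L {G : Type u} [Group G] (P : Subgroup G) : Subgroup G where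
  carrier := {g | ∃ y ∈ P, ∃ c : G, (∀ u ∈ P, c * u = u * c) ∧ g = y * c}
  one_mem' := ⟨1, P.one_mem, 1, fun u _ => by rw [one_mul, mul_one], by rw [one_mul]⟩
  mul_mem' := by
    rintro _ _ ⟨y1, hy1, c1, hc1, rfl⟩ ⟨y2, hy2, c2, hc2, rfl⟩
    refine ⟨y1 * y2, P.mul_mem hy1 hy2, c1 * c2, ?_, ?_⟩
    · intro u hu
      rw [mul_assoc, hc2 u hu, ← mul_assoc, hc1 u hu, mul_assoc]
    · have := hc1 y2 hy2
      calc y1 * c1 * (y2 * c2) = y1 * (c1 * y2) * c2 := by group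
        _ = y1 * (y2 * c1) * c2 := by rw [this]
        _ = y1 * y2 * (c1 * c2) := by group
  inv_mem' := by
    rintro _ ⟨y, hy, c, hc, rfl⟩
    refine ⟨y⁻¹, P.inv_mem hy, c⁻¹, ?_, ?_⟩
    · intro u hu
      have := hc u hu
      calc c⁻¹ * u = c⁻¹ * (u * c) * c⁻¹ := by group
        _ = c⁻¹ * (c * u) * c⁻¹ := by rw [this]
        _ = u * c⁻¹ := by group
    · have := hc y hy
      rw [← this, mul_inv_rev]

/-- PS17 core: `C(b) = P * C_G(P)` from the statement of PS16. -/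
theorem ps17_core {G : Type u} [Group G] [Finite G] (p : ℕ) [Fact p.Prime] (P : Sylow p G) (b : G)
    (hB1 : ∀ g : G, g * b = b * g → ∃ k : G, k * b = b * k ∧ ∃ y ∈ P, ∃ c : G,
      (∀ u ∈ P, c * u = u * c) ∧ k * g * k⁻¹ = y * c)
    (g : G) (hg : g * b = b * g) :
    ∃ y ∈ P, ∃ c : G, (∀ u ∈ P, c * u = u * c) ∧ g = y * c := by
  have hle : centralizer ({b} : Set G) ≤ ps17_L (P : Subgroup G) := by
    apply ps17_cg4rel
    intro g' hg'
    rw [mem_centralizer_singleton_iff] at hg'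
    obtain ⟨k, hk, y, hy, c, hc, hkg⟩ := hB1 g' hg'
    refine ⟨k, ?_, ?_⟩
    · rw [mem_centralizer_singleton_iff]
      exact hk
    · exact ⟨y, hy, c, hc, hkg⟩
  have hgC : g ∈ centralizer ({b} : Set G) := by
    rw [mem_centralizer_singleton_iff]
    exact hg
  exact hle hgC

end Cfsg.Agent.Lib.Helper41.Ps
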