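import Mathlib
import Cfsg.Agent.Lib.Helper47.G42Defs

/-!
# G42 hive (S2553), sub-hive G42-F56, sub-leaf F56-ARITH
-/

set_option autoImplicit false

namespace Cfsg.Agent.Lib.Helper47.G42

open Equiv

/-- SUB-LEAF F56-ARITH. -/
theorem f56_arith (n : ℕ) (h30 : 30 ∣ n) (h720 : n ∣ 720) (h9 : ¬ 9 ∣ n) :
    n = 30 ∨ n = 60 ∨ n = 120 ∨ n = 240 := by
  obtain ⟨k, rfl⟩ := h30
  have hk : k ∣ 24 := by
    have h : 30 * k ∣ 30 * 24 := by norm_num; exact h720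
    exact (Nat.mul_dvd_mul_iff_left (by norm_num : 0 < 30)).1 h
  have hle : k ≤ 24 := Nat.le_of_dvd (by norm_num) hk
  interval_cases k <;> omega

end Cfsg.Agent.Lib.Helper47.G42
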