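import Mathlib
import Cfsg.Agent.Lib.Helper47.G42Defs

/-!
# G42 hive (S2553), sub-hive G42-F56, sub-leaf F56-KER

The pointwise stabiliser of an `H`-invariant 6-set `Δ ⊆ Fin 8` in a `RadFree` subgroup `H` is
trivial.  (The invariance hypothesis `hinv` is needed: `H = ⊤`, `k = swap u v`.)
-/

set_option autoImplicit false

namespace Cfsg.Agent.Lib.Helper47.G42

open Equiv

theorem f56ker_sq (Δ : Finset (Fin 8)) (hΔ : Δ.card = 6) (a : Perm (Fin 8))
    (ha : ∀ x ∈ Δ, a x = x) : a * a = 1 := by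
  have hsub : a.support ⊆ Δᶜ := by
    intro x hx
    rw [Finset.mem_compl]
    intro hxΔ
    exact (Perm.mem_support.1 hx) (ha x hxΔ)
  have hcard : a.support.card ≤ 2 := by
    calc a.support.card ≤ (Δᶜ).card := Finset.card_le_card hsub
      _ = 2 := by rw [Finset.card_compl, hΔ]; rfl
  have h1 := Perm.card_support_ne_one a
  rcases Nat.lt_or_ge a.support.card 2 with h | h
  · have h0 : a.support.card = 0 := by omega
    rw [Finset.card_eq_zero, Perm.support_eq_empty_iff] at h0
    rw [h0, mul_one]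
  · have h2 : a.support.card = 2 := le_antisymm hcard h
    rw [Perm.card_support_eq_two] at h2
    obtain ⟨x, y, _, rfl⟩ := h2
    exact swap_mul_self x y

/-- SUB-LEAF F56-KER (with the invariance hypothesis `hinv`). -/
theorem f56_ker (H : Subgroup (Perm (Fin 8))) (hR : RadFree H) (Δ : Finset (Fin 8))
    (hΔ : Δ.card = 6) (hinv : ∀ h ∈ H, ∀ x ∈ Δ, h x ∈ Δ)
    (k : Perm (Fin 8)) (hk : k ∈ H) (hfix : ∀ x ∈ Δ, k x = x) : k = 1 := by
  let K : Subgroup H :=
    { carrier := {h | ∀ x ∈ Δ, (h : Perm (Fin 8)) x = x}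
      one_mem' := by intro x _; rfl
      mul_mem' := by
        intro a b ha hb x hx
        show (a : Perm (Fin 8)) ((b : Perm (Fin 8)) x) = x
        rw [hb x hx, ha x hx]
      inv_mem' := by
        intro a ha x hx
        show (a : Perm (Fin 8))⁻¹ x = x
        rw [Perm.inv_eq_iff_eq]
        exact (ha x hx).symm }
  have hKn : K.Normal := by
    constructor
    intro n hn h x hx
    have hx' : (h⁻¹ : H).1 x ∈ Δ := hinv _ (h⁻¹).2 x hx
    show (h : Perm (Fin 8)) ((n : Perm (Fin 8)) ((h⁻¹ : H).1 x)) = x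
    rw [hn _ hx']
    show (h : Perm (Fin 8)) ((h : Perm (Fin 8))⁻¹ x) = x
    exact Equiv.apply_symm_apply _ _
  have hKs : Group.IsSolvable K := by
    have hsq : ∀ a : K, a * a = 1 := by
      intro a
      apply Subtype.ext
      apply Subtype.ext
      exact f56ker_sq Δ hΔ a.1.1 a.2
    have hinv' : ∀ a : K, a⁻¹ = a := fun a => inv_eq_of_mul_eq_one_left (hsq a)
    apply Group.isSolvable_of_comm
    intro a b
    calc a * b = (a * b)⁻¹ := (hinv' (a * b)).symm
      _ = b⁻¹ * a⁻¹ := mul_inv_rev a b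
      _ = b * a := by rw [hinv' a, hinv' b]
  have hbot := hR K hKn hKs
  have hkK : (⟨k, hk⟩ : H) ∈ K := hfix
  rw [hbot, Subgroup.mem_bot] at hkK
  exact congrArg Subtype.val hkK

end Cfsg.Agent.Lib.Helper47.G42
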