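import Mathlib
import Cfsg.Agent.Lib.Helper47.G42Defs
import Cfsg.Agent.Lib.Helper48.Order120

/-!
# G42 hive (S2553), sub-hive G42-F56, sub-leaf F56-SOLV30
-/

set_option autoImplicit false

namespace Cfsg.Agent.Lib.Helper47.G42

open Equiv

/-- SUB-LEAF F56-SOLV30. -/
theorem f56_solvable_30 {G : Type*} [Group G] [Finite G] (h : Nat.card G = 30) :
    Group.IsSolvable G :=
  Cfsg.Agent.Lib.Helper48.O120.solvable_of_card_lt_sixty 30 G h (by norm_num)

end Cfsg.Agent.Lib.Helper47.G42
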