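/-
Characteristic functors and well-placed subgroups in fusion systems: the conjugacy functor induced
on the subgroups of `Ω` by an isomorphism-invariant functor `W`, its compatibility with the maps of
a fusion system, towers, and the existence of a well-placed conjugate of every subgroup.
-/
import Cfsg.Prelude.Def_ConjugacyFunctors
import Cfsg.Agent.Lib.Helper54.FusFix
import Cfsg.Agent.Lib.Helper33.WellPlaced

set_option autoImplicit false

universe u

namespace Cfsg.Agent.Lib.Helper54.FusWP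

open Cfsg Cfsg.FusionSystem Cfsg.Agent.Lib.Helper87

variable {Ω : Type u} [Group Ω] {S : Subgroup Ω}

/-- The image of the subgroup `Q` under a map `φ` defined on `D`. -/
def img {D : Subgroup Ω} (φ : D →* Ω) (Q : Subgroup Ω) : Subgroup Ω := (Q.subgroupOf D).map φ

theorem mem_img {D : Subgroup Ω} {φ : D →* Ω} {Q : Subgroup Ω} {y : Ω} :
    y ∈ img φ Q ↔ ∃ x : D, (x : Ω) ∈ Q ∧ φ x = y := by
  unfold img
  constructor
  · rintro ⟨x, hx, rfl⟩
    exact ⟨x, Subgroup.mem_subgroupOf.mp hx, rfl⟩
  · rintro ⟨x, hx, rfl⟩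
    exact ⟨x, Subgroup.mem_subgroupOf.mpr hx, rfl⟩

theorem img_mono {D : Subgroup Ω} (φ : D →* Ω) {Q Q' : Subgroup Ω} (h : Q ≤ Q') :
    img φ Q ≤ img φ Q' := by
  intro y hy
  obtain ⟨x, hx, rfl⟩ := mem_img.mp hy
  exact mem_img.mpr ⟨x, h hx, rfl⟩

/-- The restriction of `φ` to `Q ≤ D` has range `img φ Q`. -/
theorem range_restrict {D Q : Subgroup Ω} (φ : D →* Ω) (hQD : Q ≤ D) :
    (φ.comp (Subgroup.inclusion hQD)).range = img φ Q := by
  ext y
  rw [mem_img]
  constructor
  · rintro ⟨q, rfl⟩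
    exact ⟨Subgroup.inclusion hQD q, q.2, rfl⟩
  · rintro ⟨x, hx, rfl⟩
    exact ⟨⟨x, hx⟩, rfl⟩

theorem isConj_img (F : FusionSystem S) {D Q : Subgroup Ω} {φ : D →* Ω} (hφ : φ ∈ F.Hom D)
    (hQD : Q ≤ D) : F.IsConj Q (img φ Q) :=
  ⟨_, restrict_mem F hφ hQD, range_restrict φ hQD⟩

theorem card_img [Finite S] (F : FusionSystem S) {D Q : Subgroup Ω} {φ : D →* Ω}
    (hφ : φ ∈ F.Hom D) (hQD : Q ≤ D) : Nat.card (img φ Q) = Nat.card Q :=
  (card_eq_of_isConj F (isConj_img F hφ hQD)).symm

theorem img_le (F : FusionSystem S) {D : Subgroup Ω} {φ : D →* Ω} (hφ : φ ∈ F.Hom D)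
    (Q : Subgroup Ω) : img φ Q ≤ S := by
  intro y hy
  obtain ⟨x, -, rfl⟩ := mem_img.mp hy
  exact hom_mem_S F hφ x

/-! ### The induced functor -/

variable {p : ℕ} (W : ∀ (Q : Type u) [Group Q], Subgroup Q)

theorem induced_le (P : Subgroup Ω) : inducedFunctor W P ≤ P := Subgroup.map_subtype_le _

theorem mem_induced {P : Subgroup Ω} {y : Ω} :
    y ∈ inducedFunctor W P ↔ ∃ q : P, q ∈ W ↥P ∧ (q : Ω) = y := by
  unfold inducedFunctor
  constructor
  · rintro ⟨q, hq, rfl⟩; exact ⟨q, hq, rfl⟩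
  · rintro ⟨q, hq, rfl⟩; exact ⟨q, hq, rfl⟩

variable {W}

/-- The value of the induced functor at the range of an injective map. -/
theorem induced_range
    (hW2 : ∀ (Q R : Type u) [Group Q] [Group R] [Finite Q], IsPGroup p Q → ∀ φ : Q ≃* R,
      (W Q).map φ.toMonoidHom = W R)
    {P : Subgroup Ω} [Finite P] (hP : IsPGroup p P) (φ : P →* Ω) (hinj : Function.Injective φ) :
    inducedFunctor W φ.range = (W ↥P).map φ := by
  have h := hW2 ↥P ↥φ.range hP (MonoidHom.ofInjective hinj)
  unfold inducedFunctor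
  rw [← h, Subgroup.map_map]
  rfl

/-- The value of the induced functor at the range of an injective map from an abstract group. -/
theorem induced_range'
    (hW2 : ∀ (Q R : Type u) [Group Q] [Group R] [Finite Q], IsPGroup p Q → ∀ φ : Q ≃* R,
      (W Q).map φ.toMonoidHom = W R)
    {Q G : Type u} [Group Q] [Group G] [Finite Q] (hQ : IsPGroup p Q) (φ : Q →* G)
    (hinj : Function.Injective φ) :
    inducedFunctor W φ.range = (W Q).map φ := by
  have h := hW2 Q ↥φ.range hQ (MonoidHom.ofInjective hinj)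
  unfold inducedFunctor
  rw [← h, Subgroup.map_map]
  rfl

/-- The induced functor commutes with images under maps of a fusion system. -/
theorem induced_img [Finite S] (hS : IsPGroup p S)
    (hW2 : ∀ (Q R : Type u) [Group Q] [Group R] [Finite Q], IsPGroup p Q → ∀ φ : Q ≃* R,
      (W Q).map φ.toMonoidHom = W R)
    (F : FusionSystem S) {D Q : Subgroup Ω} {φ : D →* Ω} (hφ : φ ∈ F.Hom D) (hQD : Q ≤ D) :
    inducedFunctor W (img φ Q) = img φ (inducedFunctor W Q) := by
  have hQS : Q ≤ S := hQD.trans (hom_le F hφ)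
  haveI : Finite Q := finite_of_le hQS
  have hQp : IsPGroup p Q := hS.to_le hQS
  have hinj : Function.Injective (φ.comp (Subgroup.inclusion hQD)) :=
    F.injective_of_mem (restrict_mem F hφ hQD)
  rw [← range_restrict φ hQD, induced_range hW2 hQp _ hinj]
  ext y
  rw [mem_img]
  constructor
  · rintro ⟨q, hq, rfl⟩
    exact ⟨Subgroup.inclusion hQD q, (mem_induced W).mpr ⟨q, hq, rfl⟩, rfl⟩
  · rintro ⟨x, hx, rfl⟩
    obtain ⟨q, hq, hqx⟩ := (mem_induced W).mp hx
    refine ⟨q, hq, ?_⟩
    show φ (Subgroup.inclusion hQD q) = φ x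
    congr 1
    exact Subtype.ext hqx

/-- The normalizer of `P` normalizes the value of the induced functor at `P`. -/
theorem normalizer_le_normalizer_induced
    (hW2 : ∀ (Q R : Type u) [Group Q] [Group R] [Finite Q], IsPGroup p Q → ∀ φ : Q ≃* R,
      (W Q).map φ.toMonoidHom = W R)
    {P : Subgroup Ω} [Finite P] (hP : IsPGroup p P) :
    Subgroup.normalizer (P : Set Ω) ≤ Subgroup.normalizer ((inducedFunctor W P : Subgroup Ω) : Set Ω) := by
  have key : ∀ g ∈ Subgroup.normalizer (P : Set Ω), ∀ y ∈ inducedFunctor W P,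
      g * y * g⁻¹ ∈ inducedFunctor W P := by
    intro g hg y hy
    obtain ⟨q, hq, rfl⟩ := (mem_induced W).mp hy
    have h := hW2 ↥P ↥P hP (conjAut P g hg)
    have h2 : (conjAut P g hg) q ∈ W ↥P := by
      rw [← h]
      exact ⟨q, hq, rfl⟩
    exact (mem_induced W).mpr ⟨_, h2, rfl⟩
  intro g hg
  rw [Subgroup.mem_normalizer_iff]
  intro y
  constructor
  · exact key g hg y
  · intro h
    have := key g⁻¹ (Subgroup.inv_mem _ hg) _ h
    have e : g⁻¹ * (g * y * g⁻¹) * g⁻¹⁻¹ = y := by group
    rwa [e] at this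

theorem normalizerIn_le_normalizerIn_induced [Finite S] (hS : IsPGroup p S)
    (hW2 : ∀ (Q R : Type u) [Group Q] [Group R] [Finite Q], IsPGroup p Q → ∀ φ : Q ≃* R,
      (W Q).map φ.toMonoidHom = W R)
    {P : Subgroup Ω} (hP : P ≤ S) :
    normalizerIn S P ≤ normalizerIn S (inducedFunctor W P) := by
  haveI : Finite P := finite_of_le hP
  exact inf_le_inf_left _ (normalizer_le_normalizer_induced hW2 (hS.to_le hP))

/-! ### Well-placed subgroups -/

variable (W)

/-- `T` is well placed: every term of its tower is fully normalized. -/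
def IsWP (F : FusionSystem S) (T : Subgroup Ω) : Prop :=
  ∀ i : ℕ, F.IsFullyNormalized (functorTower (inducedFunctor W) S T i)

variable {W}

theorem isWP_iff (F : FusionSystem S) (T : Subgroup Ω) :
    IsWP W F T ↔ F.IsFullyNormalized T ∧ IsWP W F (inducedFunctor W (normalizerIn S T)) := by
  constructor
  · intro h
    refine ⟨h 0, fun i => ?_⟩
    have := h (i + 1)
    rwa [Cfsg.Agent.Lib.Helper33.tower_succ] at this
  · rintro ⟨h0, h1⟩ i
    cases i with
    | zero => exact h0
    | succ k =>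
      rw [Cfsg.Agent.Lib.Helper33.tower_succ]
      exact h1 k

theorem fullyNormalized_of_normalizerIn_eq [Finite S] (F : FusionSystem S) {U : Subgroup Ω}
    (hU : U ≤ S) (h : normalizerIn S U = S) : F.IsFullyNormalized U := by
  refine ⟨hU, fun Q _ => ?_⟩
  rw [h]
  exact Subgroup.card_le_of_le (normalizerIn_le S Q)

theorem isWP_of_normalizerIn_eq [Finite S] (hS : IsPGroup p S)
    (hW2 : ∀ (Q R : Type u) [Group Q] [Group R] [Finite Q], IsPGroup p Q → ∀ φ : Q ≃* R,
      (W Q).map φ.toMonoidHom = W R)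
    (F : FusionSystem S) {U : Subgroup Ω} (hU : U ≤ S) (h : normalizerIn S U = S) :
    IsWP W F U := by
  have hWS : normalizerIn S (inducedFunctor W S) = S := by
    apply le_antisymm (normalizerIn_le S _)
    have := normalizerIn_le_normalizerIn_induced (W := W) hS hW2 (le_refl S)
    refine le_trans ?_ this
    exact le_normalizerIn le_rfl
  have hWSle : inducedFunctor W S ≤ S := induced_le W S
  have hstep : ∀ i, functorTower (inducedFunctor W) S U (i + 1) = inducedFunctor W S := by
    intro i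
    induction i with
    | zero =>
      show inducedFunctor W (S ⊓ Subgroup.normalizer (U : Set Ω)) = inducedFunctor W S
      have : S ⊓ Subgroup.normalizer (U : Set Ω) = S := h
      rw [this]
    | succ k ih =>
      show inducedFunctor W (S ⊓ Subgroup.normalizer
        ((functorTower (inducedFunctor W) S U (k + 1) : Subgroup Ω) : Set Ω)) = inducedFunctor W S
      rw [ih]
      have : S ⊓ Subgroup.normalizer ((inducedFunctor W S : Subgroup Ω) : Set Ω) = S := hWS
      rw [this]
  intro i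
  cases i with
  | zero => exact fullyNormalized_of_normalizerIn_eq F hU h
  | succ k =>
    rw [hstep k]
    exact fullyNormalized_of_normalizerIn_eq F hWSle hWS

/-- Every subgroup of `S` is carried onto a well-placed subgroup by a map of the system defined on
its normalizer in `S`. -/
theorem exists_wp [Finite S] [Fact p.Prime] (hS : IsPGroup p S)
    (hW2 : ∀ (Q R : Type u) [Group Q] [Group R] [Finite Q], IsPGroup p Q → ∀ φ : Q ≃* R,
      (W Q).map φ.toMonoidHom = W R)
    (F : FusionSystem S) (hF : F.IsSaturated p) :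
    ∀ (n : ℕ) (T : Subgroup Ω), T ≤ S → Nat.card S - Nat.card (normalizerIn S T) = n →
      ∃ ψ ∈ F.Hom (normalizerIn S T), IsWP W F (img ψ T) := by
  intro n
  induction n using Nat.strong_induction_on with
  | _ n ih =>
  intro T hT hn
  obtain ⟨U, hcTU, hUfn⟩ := exists_fullyNormalized_conj F hT
  have hUS : U ≤ S := hUfn.1
  have hUfa := (fc_fa_of_fullyNormalized hS F hF hUfn).2
  have hUrec := receptive_of_fullyNormalized hS F hF hUfn
  obtain ⟨χ, hχ, hχN, hχT, hχU⟩ := exists_normalizer_map hS F hUfa hUrec hcTU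
  have himgχ : img χ T = U := by
    ext y
    rw [mem_img]
    constructor
    · rintro ⟨x, hx, rfl⟩; exact hχT x hx
    · intro hy
      obtain ⟨x, hx, hxy⟩ := hχU y hy
      exact ⟨x, hx, hxy⟩
  by_cases hRS : normalizerIn S U = S
  · exact ⟨χ, hχ, himgχ ▸ isWP_of_normalizerIn_eq hS hW2 F hUS hRS⟩
  · -- climb
    obtain ⟨R, hR⟩ : ∃ R, R = normalizerIn S U := ⟨_, rfl⟩
    have hRS' : R ≤ S := hR ▸ normalizerIn_le S U
    have hRne : R ≠ S := hR ▸ hRS
    obtain ⟨V, hV⟩ : ∃ V, V = inducedFunctor W R := ⟨_, rfl⟩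
    have hVR : V ≤ R := hV ▸ induced_le W R
    have hVS : V ≤ S := hVR.trans hRS'
    have hRNR : R ≤ normalizerIn S R := le_normalizerIn hRS'
    have hNRNV : normalizerIn S R ≤ normalizerIn S V :=
      hV ▸ normalizerIn_le_normalizerIn_induced hS hW2 hRS'
    have hc1 : Nat.card R < Nat.card (normalizerIn S R) := card_lt_card_normalizerIn hS hRS' hRne
    haveI : Finite (normalizerIn S V) := finite_of_le (normalizerIn_le S V)
    haveI : Finite (normalizerIn S R) := finite_of_le (normalizerIn_le S R)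
    have hc2 : Nat.card (normalizerIn S R) ≤ Nat.card (normalizerIn S V) :=
      Subgroup.card_le_of_le hNRNV
    have hc3 : Nat.card (normalizerIn S V) ≤ Nat.card S :=
      Subgroup.card_le_of_le (normalizerIn_le S V)
    have hc4 : Nat.card (normalizerIn S T) ≤ Nat.card R := by
      rw [hR]; exact hUfn.2 T (isConj_symm F hcTU)
    obtain ⟨ψ, hψ, hψWP⟩ := ih (Nat.card S - Nat.card (normalizerIn S V)) (by omega) V hVS rfl
    have hRD : R ≤ normalizerIn S V := hRNR.trans hNRNV
    have hUR : U ≤ R := hR ▸ le_normalizerIn hUS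
    have hUD : U ≤ normalizerIn S V := hUR.trans hRD
    -- the composite map
    have hχD : ∀ x : normalizerIn S T, χ x ∈ normalizerIn S V := fun x => hRD (hR ▸ hχN x)
    have hcomp := F.comp_mem hχ hψ hχD
    refine ⟨_, hcomp, ?_⟩
    -- its image of `T` is `img ψ U`
    have himg : img (ψ.comp (χ.codRestrict (normalizerIn S V) hχD)) T = img ψ U := by
      ext y
      rw [mem_img, mem_img]
      constructor
      · rintro ⟨x, hx, rfl⟩
        exact ⟨⟨χ x, hχD x⟩, hχT x hx, rfl⟩
      · rintro ⟨u, hu, rfl⟩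
        obtain ⟨x, hx, hxu⟩ := hχU _ hu
        refine ⟨x, hx, ?_⟩
        show ψ ⟨χ x, hχD x⟩ = ψ u
        congr 1
        exact Subtype.ext hxu
    rw [himg]
    -- `img ψ U` is well placed
    have hcU' : F.IsConj U (img ψ U) := isConj_img F hψ hUD
    have hU'S : img ψ U ≤ S := img_le F hψ U
    -- `img ψ R` normalizes `img ψ U`
    have hnorm : img ψ R ≤ normalizerIn S (img ψ U) := by
      have key : ∀ r : normalizerIn S V, (r : Ω) ∈ R → ∀ y ∈ img ψ U, ψ r * y * (ψ r)⁻¹ ∈ img ψ U := by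
        intro r hr y hy
        obtain ⟨u, hu, rfl⟩ := mem_img.mp hy
        have hrU : (r : Ω) ∈ Subgroup.normalizer (U : Set Ω) := (hR ▸ hr : (r : Ω) ∈ normalizerIn S U).2
        have h1 : (r : Ω) * u * (r : Ω)⁻¹ ∈ U := (Subgroup.mem_normalizer_iff.mp hrU u).mp hu
        refine mem_img.mpr ⟨r * u * r⁻¹, h1, ?_⟩
        rw [map_mul, map_mul, map_inv]
      intro z hz
      obtain ⟨r, hr, rfl⟩ := mem_img.mp hz
      refine ⟨hom_mem_S F hψ r, ?_⟩
      refine Subgroup.mem_normalizer_iff.mpr ?_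
      intro y
      constructor
      · exact key r hr y
      · intro h
        have := key r⁻¹ (R.inv_mem hr) _ h
        rw [map_inv] at this
        have e : (ψ r)⁻¹ * (ψ r * y * (ψ r)⁻¹) * (ψ r)⁻¹⁻¹ = y := by group
        rwa [e] at this
    have hcardR : Nat.card (img ψ R) = Nat.card R := card_img F hψ hRD
    have hcardN : Nat.card (normalizerIn S (img ψ U)) ≤ Nat.card R := by
      rw [hR]; exact hUfn.2 _ hcU'
    have hNeq : normalizerIn S (img ψ U) = img ψ R := by
      symm
      haveI : Finite (normalizerIn S (img ψ U)) := finite_of_le (normalizerIn_le S _)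
      apply Subgroup.eq_of_le_of_card_ge hnorm
      rw [hcardR]; exact hcardN
    rw [isWP_iff]
    constructor
    · refine ⟨hU'S, fun Q hQ => ?_⟩
      have hcUQ : F.IsConj U Q := isConj_trans F hcU' hQ
      rw [hNeq, hcardR, hR]
      exact hUfn.2 Q hcUQ
    · rw [hNeq, induced_img hS hW2 F hψ hRD, ← hV]
      exact hψWP

theorem exists_wp_conj [Finite S] [Fact p.Prime] (hS : IsPGroup p S)
    (hW2 : ∀ (Q R : Type u) [Group Q] [Group R] [Finite Q], IsPGroup p Q → ∀ φ : Q ≃* R,
      (W Q).map φ.toMonoidHom = W R)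
    (F : FusionSystem S) (hF : F.IsSaturated p) {T : Subgroup Ω} (hT : T ≤ S) :
    ∃ U : Subgroup Ω, F.IsConj T U ∧ IsWP W F U := by
  obtain ⟨ψ, hψ, hwp⟩ := exists_wp hS hW2 F hF _ T hT rfl
  exact ⟨img ψ T, isConj_img F hψ (le_normalizerIn hT), hwp⟩

end Cfsg.Agent.Lib.Helper54.FusWP
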