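/-
The local step for functors controlling weak closure in fusion systems: in a model of a constrained
system, an element fixed by the automorphisms of `W(T)` and satisfying the local condition is fixed
by every map.
-/
import Cfsg.Agent.Lib.Helper54.FusWP
import Cfsg.Agent.S5090
import Cfsg.Agent.S5098
import Cfsg.Agent.S5255
import Cfsg.Agent.Lib.Helper87.NormalizerConstrained
import Cfsg.Agent.Lib.Helper87.ModelCore
import Cfsg.Agent.Lib.Helper87.HypAct
import Cfsg.Agent.Lib.Helper87.ConstrainedNormal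

set_option autoImplicit false

universe u

namespace Cfsg.Agent.Lib.Helper54.FusLocal

open Cfsg Cfsg.FusionSystem Cfsg.Agent.Lib.Helper87 Cfsg.Agent.Lib.Helper54.FusWP
  Cfsg.Agent.Lib.Helper54.FusFix
open Cfsg.Agent.Lib.Helper88 (liftConj liftConj_mem ι_liftConj ι_eq)

variable {Ω : Type u} [Group Ω] {p : ℕ}

/-- In a model `G` of `E`: an element of a subgroup normal in `E` that is fixed by the automorphisms of
`W(T)` in `E`, and for which the local condition holds in `G`, is fixed by every map of `E`. -/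
theorem model_fix {T : Subgroup Ω} [Finite T] [Fact p.Prime] (hT : IsPGroup p T)
    (W : ∀ (Q : Type u) [Group Q], Subgroup Q)
    (E : FusionSystem T) {G : Type u} [Group G] {ι : T →* G} (hM : E.IsModel p G ι)
    {R₀ : Subgroup Ω} (hR₀ : E.IsNormal R₀) {c : Ω} (hcR : c ∈ R₀)
    (hcW : c ∈ inducedFunctor W T)
    (hfix : ∀ β ∈ E.Hom (inducedFunctor W T), β.range = inducedFunctor W T → β ⟨c, hcW⟩ = c)
    (hloc : ι ⟨c, hR₀.1 hcR⟩ ∈ pCore p G →
      (∀ n ∈ Subgroup.normalizer ((((W ↥T).map ι : Subgroup G)) : Set G),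
        n * ι ⟨c, hR₀.1 hcR⟩ = ι ⟨c, hR₀.1 hcR⟩ * n) →
      ι ⟨c, hR₀.1 hcR⟩ ∈ Subgroup.center G) :
    ∀ (P : Subgroup Ω) (ψ : P →* Ω), ψ ∈ E.Hom P → ∀ hc : c ∈ P, ψ ⟨c, hc⟩ = c := by
  have hnorm := model_map_normal hM hR₀
  obtain ⟨hfin, ⟨hinj, hiff⟩, ⟨Sy, hSy⟩, hcent⟩ := hM
  have hcT : c ∈ T := hR₀.1 hcR
  -- `ι c` lies in the `p`-core
  have h1 : ι ⟨c, hcT⟩ ∈ pCore p G := by
    apply le_pCore hnorm ((hT.to_subgroup _).map ι)
    exact ⟨⟨c, hcT⟩, Subgroup.mem_subgroupOf.mpr hcR, rfl⟩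
  -- `ι c` commutes with the normalizer of the image of `W(T)`
  have hVT : inducedFunctor W T ≤ T := induced_le W T
  have hmemW : ∀ w : inducedFunctor W T, ι ⟨w, hVT w.2⟩ ∈ (W ↥T).map ι := by
    intro w
    obtain ⟨q, hq, hqw⟩ := (mem_induced W).mp w.2
    refine ⟨q, hq, ?_⟩
    congr 1
    exact Subtype.ext hqw
  have h2 : ∀ n ∈ Subgroup.normalizer ((((W ↥T).map ι : Subgroup G)) : Set G),
      n * ι ⟨c, hcT⟩ = ι ⟨c, hcT⟩ * n := by
    intro n hn
    have hconj : ∀ w : inducedFunctor W T, n * ι ⟨w, hVT w.2⟩ * n⁻¹ ∈ (W ↥T).map ι := fun w =>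
      (Subgroup.mem_normalizer_iff.mp hn _).mp (hmemW w)
    have hg : ∀ w : inducedFunctor W T, n * ι ⟨w, hVT w.2⟩ * n⁻¹ ∈ ι.range := fun w =>
      Subgroup.map_le_range _ _ (hconj w)
    have hβT : ∀ w, liftConj ι hinj hVT n hg w ∈ T := liftConj_mem ι hinj hVT n hg
    have hβ : liftConj ι hinj hVT n hg ∈ E.Hom (inducedFunctor W T) :=
      (hiff _ hVT _ hβT).mpr ⟨n, fun w => ι_liftConj ι hinj hVT n hg w _⟩
    have hβW : ∀ w, liftConj ι hinj hVT n hg w ∈ inducedFunctor W T := by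
      intro w
      have h3 : ι ⟨liftConj ι hinj hVT n hg w, hβT w⟩ = n * ι ⟨w, hVT w.2⟩ * n⁻¹ :=
        ι_liftConj ι hinj hVT n hg w _
      have h4 := hconj w
      rw [← h3] at h4
      obtain ⟨q, hq, hqe⟩ := h4
      have hq' : q = ⟨liftConj ι hinj hVT n hg w, hβT w⟩ := hinj hqe
      exact (mem_induced W).mpr ⟨q, hq, by rw [hq']⟩
    have hβr := range_eq_of_forall_mem E hβ hβW
    have h5 := hfix _ hβ hβr
    have h6 : ι ⟨liftConj ι hinj hVT n hg ⟨c, hcW⟩, hβT _⟩ = n * ι ⟨c, hcT⟩ * n⁻¹ :=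
      ι_liftConj ι hinj hVT n hg ⟨c, hcW⟩ _
    have h7 : ι ⟨liftConj ι hinj hVT n hg ⟨c, hcW⟩, hβT _⟩ = ι ⟨c, hcT⟩ := by
      congr 1
      exact Subtype.ext h5
    rw [h7] at h6
    calc n * ι ⟨c, hcT⟩ = n * ι ⟨c, hcT⟩ * n⁻¹ * n := by group
      _ = ι ⟨c, hcT⟩ * n := by rw [← h6]
  have h3 := hloc h1 h2
  intro P ψ hψ hc
  have hPT : P ≤ T := hom_le E hψ
  have hψT : ∀ x : P, ψ x ∈ T := fun x => hom_mem_S E hψ x
  obtain ⟨g, hg⟩ := (hiff P hPT ψ hψT).mp hψ
  have h4 := hg ⟨c, hc⟩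
  have h5 : g * ι ⟨c, hcT⟩ * g⁻¹ = ι ⟨c, hcT⟩ := by
    have h := Subgroup.mem_center_iff.mp h3 g
    rw [h]
    group
  exact ι_eq ι hinj (h4.trans h5)


theorem fullyNormalized_of_stronglyClosed {R : Subgroup Ω} [Finite R] (F : FusionSystem R)
    {Q : Subgroup Ω} (hQ : F.StronglyClosed Q) : F.IsFullyNormalized Q := by
  refine ⟨hQ.1, fun Q' hQ' => ?_⟩
  obtain ⟨φ, hφ, hr⟩ := hQ'
  have := (weaklyClosed_of_stronglyClosed F hQ).2 φ hφ
  rw [← hr, this]

/-- A map of `F` defined on `Q` with range `Q` is a map of the normalizer system of `Q`. -/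
theorem mem_normalizerSystem_of_range_eq {R : Subgroup Ω} (F : FusionSystem R) {Q : Subgroup Ω}
    [Finite Q] (hQ : Q ≤ R) {E : FusionSystem (normalizerIn R Q)} (hE : F.IsNormalizerSystem Q E)
    {ψ : Q →* Ω} (hψ : ψ ∈ F.Hom Q) (hr : ψ.range = Q) : ψ ∈ E.Hom Q := by
  have hmem : ∀ z : Q, ψ z ∈ Q := by
    intro z
    have : ψ z ∈ ψ.range := ⟨z, rfl⟩
    rwa [hr] at this
  obtain ⟨γ, hγ, hγe⟩ := exists_aut_of_hom F hψ hmem
  have h := mem_normalizerSystem_of_mem_autGroup F hQ hE hγ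
  have e : Q.subtype.comp γ.toMonoidHom = ψ := by
    ext z
    exact hγe z
  rwa [e] at h

/-- The constrained step: `F₁` saturated over `R` with `U` normal in `F₁`; an element `c` of `Z(R)`
fixed by the automorphisms of `W(R)` and satisfying the local condition in the models is fixed by the
maps of `F₁` defined on `U C_R(U)`. -/
theorem constrained_fix {R : Subgroup Ω} [Finite R] [Fact p.Prime] (hR : IsPGroup p R)
    (W : ∀ (Q : Type u) [Group Q], Subgroup Q)
    (hWZ : ∀ (Q : Type u) [Group Q] [Finite Q], IsPGroup p Q → Subgroup.center Q ≤ W Q)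
    (F₁ : FusionSystem R) (hF₁ : F₁.IsSaturated p) {U : Subgroup Ω} (hU : F₁.IsNormal U)
    {c : Ω} (hcR : c ∈ R) (hcZ : c ∈ Subgroup.centralizer (R : Set Ω))
    (hV : ∀ β ∈ F₁.Hom (inducedFunctor W R), β.range = inducedFunctor W R →
      ∀ hc : c ∈ inducedFunctor W R, β ⟨c, hc⟩ = c)
    (hloc : ∀ (G : Type u) [Group G] [Finite G]
      (ι : ↥(normalizerIn R (U ⊔ centralizerIn R U)) →* G),
      Function.Injective ι → (∃ P : Sylow p G, (P : Subgroup G) = ι.range) →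
      ∀ hc : c ∈ normalizerIn R (U ⊔ centralizerIn R U), ι ⟨c, hc⟩ ∈ pCore p G →
        (∀ n ∈ Subgroup.normalizer
          ((((W ↥(normalizerIn R (U ⊔ centralizerIn R U))).map ι : Subgroup G)) : Set G),
          n * ι ⟨c, hc⟩ = ι ⟨c, hc⟩ * n) →
        ι ⟨c, hc⟩ ∈ Subgroup.center G) :
    ∀ ψ ∈ F₁.Hom (U ⊔ centralizerIn R U), ∀ hc : c ∈ U ⊔ centralizerIn R U, ψ ⟨c, hc⟩ = c := by
  have hUR : U ≤ R := hU.1
  have hUsc : F₁.StronglyClosed U := stronglyClosed_of_isNormal F₁ hU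
  have hR₀sc : F₁.StronglyClosed (U ⊔ centralizerIn R U) :=
    Cfsg.Agent.S5255.result p hR F₁ hF₁ U hUsc
  have hR₀R : U ⊔ centralizerIn R U ≤ R := hR₀sc.1
  have hcen : centralizerIn R (U ⊔ centralizerIn R U) ≤ U ⊔ centralizerIn R U := by
    intro x hx
    refine (le_sup_right : centralizerIn R U ≤ U ⊔ centralizerIn R U) ⟨hx.1, ?_⟩
    intro u hu
    exact hx.2 u ((le_sup_left : U ≤ U ⊔ centralizerIn R U) hu)
  have hR₀c : F₁.IsCentric (U ⊔ centralizerIn R U) := isCentric_of_stronglyClosed F₁ hR₀sc hcen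
  have hR₀fn : F₁.IsFullyNormalized (U ⊔ centralizerIn R U) :=
    fullyNormalized_of_stronglyClosed F₁ hR₀sc
  have hRN : R ≤ Subgroup.normalizer ((U ⊔ centralizerIn R U : Subgroup Ω) : Set Ω) :=
    stronglyClosed_le_normalizer F₁ hR₀sc
  have hTR : normalizerIn R (U ⊔ centralizerIn R U) = R :=
    le_antisymm inf_le_left (le_inf le_rfl hRN)
  have hTle : normalizerIn R (U ⊔ centralizerIn R U) ≤ R := inf_le_left
  haveI : Finite (normalizerIn R (U ⊔ centralizerIn R U)) := finite_of_le hTle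
  haveI : Finite (U ⊔ centralizerIn R U : Subgroup Ω) := finite_of_le hR₀R
  have hTp : IsPGroup p (normalizerIn R (U ⊔ centralizerIn R U)) := hR.to_le hTle
  -- the normalizer system of `R₀`
  have hE := isNormalizerSystem_normalizerSystem F₁ (U ⊔ centralizerIn R U) hR₀R
  have hEsat := Cfsg.Agent.S5098.result p hR F₁ hF₁ _ hR₀fn _ hE
  have hR₀n := normalizerSystem_isNormal F₁ hR₀R hE
  have hR₀Ec := normalizerSystem_isCentric F₁ hR₀c hE
  obtain ⟨G, hGrp, ι, hM⟩ := Cfsg.Agent.S5090.result p hTp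
    (normalizerSystem F₁ (U ⊔ centralizerIn R U) hR₀R) ⟨hEsat, _, hR₀n, hR₀Ec⟩
  haveI : Finite G := hM.1
  have hcR₀ : c ∈ U ⊔ centralizerIn R U :=
    (le_sup_right : centralizerIn R U ≤ U ⊔ centralizerIn R U)
      ⟨hcR, Subgroup.centralizer_le (show (U : Set Ω) ⊆ R from hUR) hcZ⟩
  have hcT : c ∈ normalizerIn R (U ⊔ centralizerIn R U) := hR₀n.1 hcR₀
  have hcW : c ∈ inducedFunctor W (normalizerIn R (U ⊔ centralizerIn R U)) := by
    refine (mem_induced W).mpr ⟨⟨c, hcT⟩, hWZ _ hTp ?_, rfl⟩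
    rw [Subgroup.mem_center_iff]
    intro t
    apply Subtype.ext
    exact hcZ t (hTle t.2)
  have hfix : ∀ β ∈ (normalizerSystem F₁ (U ⊔ centralizerIn R U) hR₀R).Hom
      (inducedFunctor W (normalizerIn R (U ⊔ centralizerIn R U))),
      β.range = inducedFunctor W (normalizerIn R (U ⊔ centralizerIn R U)) → β ⟨c, hcW⟩ = c := by
    intro β hβ hβr
    have hβF : β ∈ F₁.Hom _ := by
      rw [hE _] at hβ
      exact hβ.1
    have e : inducedFunctor W (normalizerIn R (U ⊔ centralizerIn R U)) = inducedFunctor W R := by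
      rw [hTR]
    have hβ' := cast_mem F₁ e hβF
    have hr' : (β.comp (Subgroup.inclusion e.ge)).range = inducedFunctor W R := by
      apply le_antisymm
      · rintro _ ⟨x, rfl⟩
        have : β (Subgroup.inclusion e.ge x) ∈ β.range := ⟨_, rfl⟩
        rw [hβr] at this
        exact e.le this
      · intro y hy
        have hy' : y ∈ β.range := by rw [hβr]; exact e.ge hy
        obtain ⟨x, rfl⟩ := hy'
        exact ⟨⟨x, e.le x.2⟩, rfl⟩
    exact hV _ hβ' hr' (e.le hcW)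
  have hmain := model_fix hTp W _ hM hR₀n hcR₀ hcW hfix
    (fun h1 h2 => hloc G ι hM.2.1.1 hM.2.2.1 hcT h1 h2)
  intro ψ hψ hc
  have hr : ψ.range = U ⊔ centralizerIn R U := (weaklyClosed_of_stronglyClosed F₁ hR₀sc).2 ψ hψ
  exact hmain _ ψ (mem_normalizerSystem_of_range_eq F₁ hR₀R hE hψ hr) hc


/-- The local hypothesis for the elements of `C`: in every finite group `G` into which a subgroup `T`
of `S` containing `Z(S)` embeds as a Sylow `p`-subgroup, an element of `C` lying in `O_p(G)` and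
commuting with the normalizer of `W(T)` is central. -/
def LocalHyp (p : ℕ) (W : ∀ (Q : Type u) [Group Q], Subgroup Q) (S : Subgroup Ω) (C : Set Ω) : Prop :=
  ∀ (T : Subgroup Ω), T ≤ S → S ⊓ Subgroup.centralizer (S : Set Ω) ≤ T →
    ∀ (G : Type u) [Group G] [Finite G] (ι : T →* G), Function.Injective ι →
      (∃ P : Sylow p G, (P : Subgroup G) = ι.range) →
      ∀ c ∈ C, ∀ hc : c ∈ T, ι ⟨c, hc⟩ ∈ pCore p G →
        (∀ n ∈ Subgroup.normalizer ((((W ↥T).map ι : Subgroup G)) : Set G),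
          n * ι ⟨c, hc⟩ = ι ⟨c, hc⟩ * n) →
        ι ⟨c, hc⟩ ∈ Subgroup.center G

variable {S : Subgroup Ω}

/-- The local step: for `U` fully normalized, if the automorphisms of `W(N_S(U))` fix the elements of
`C ⊆ Z(S)`, so do the automorphisms of `U`. -/
theorem local_fix [Finite S] [Fact p.Prime] (hS : IsPGroup p S)
    (W : ∀ (Q : Type u) [Group Q], Subgroup Q)
    (hWZ : ∀ (Q : Type u) [Group Q] [Finite Q], IsPGroup p Q → Subgroup.center Q ≤ W Q)
    (F : FusionSystem S) (hF : F.IsSaturated p) (C : Set Ω)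
    (hCZ : ∀ c ∈ C, c ∈ S ⊓ Subgroup.centralizer (S : Set Ω))
    (hLoc : LocalHyp p W S C)
    {U : Subgroup Ω} (hU : F.IsFullyNormalized U)
    (hV : ∀ β ∈ F.Hom (inducedFunctor W (normalizerIn S U)),
      β.range = inducedFunctor W (normalizerIn S U) →
      ∀ c ∈ C, ∀ hc : c ∈ inducedFunctor W (normalizerIn S U), β ⟨c, hc⟩ = c) :
    ∀ α ∈ F.Hom U, α.range = U → ∀ c ∈ C, ∀ hc : c ∈ U, α ⟨c, hc⟩ = c := by
  intro α hα hαr c hcC hcU
  have hUS : U ≤ S := hU.1
  have hRS : normalizerIn S U ≤ S := normalizerIn_le S U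
  haveI : Finite (normalizerIn S U) := finite_of_le hRS
  have hRp : IsPGroup p (normalizerIn S U) := hS.to_le hRS
  have hF₁ := isNormalizerSystem_normalizerSystem F U hUS
  have hF₁sat := Cfsg.Agent.S5098.result p hS F hF U hU _ hF₁
  have hUn := normalizerSystem_isNormal F hUS hF₁
  have hcS : c ∈ S := (hCZ c hcC).1
  have hcZS : c ∈ Subgroup.centralizer (S : Set Ω) := (hCZ c hcC).2
  have hZR : S ⊓ Subgroup.centralizer (S : Set Ω) ≤ normalizerIn S U := by
    intro z hz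
    exact ⟨hz.1, Subgroup.centralizer_le_normalizer _
      (Subgroup.centralizer_le (show (U : Set Ω) ⊆ S from hUS) hz.2)⟩
  have hcR : c ∈ normalizerIn S U := hZR (hCZ c hcC)
  have hcZ : c ∈ Subgroup.centralizer ((normalizerIn S U : Subgroup Ω) : Set Ω) :=
    Subgroup.centralizer_le (show ((normalizerIn S U : Subgroup Ω) : Set Ω) ⊆ S from hRS) hcZS
  have hR₀R : U ⊔ centralizerIn (normalizerIn S U) U ≤ normalizerIn S U :=
    sup_le (le_normalizerIn hUS) inf_le_left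
  have hTS : normalizerIn (normalizerIn S U) (U ⊔ centralizerIn (normalizerIn S U) U) ≤ S :=
    inf_le_left.trans hRS
  have hZT : S ⊓ Subgroup.centralizer (S : Set Ω) ≤
      normalizerIn (normalizerIn S U) (U ⊔ centralizerIn (normalizerIn S U) U) := by
    intro z hz
    refine ⟨hZR hz, Subgroup.centralizer_le_normalizer _
      (Subgroup.centralizer_le ?_ hz.2)⟩
    exact hR₀R.trans hRS
  have hmain := constrained_fix hRp W hWZ (normalizerSystem F U hUS) hF₁sat hUn hcR hcZ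
    (fun β hβ hβr hc => by
      have hβF : β ∈ F.Hom _ := by
        rw [hF₁ _] at hβ
        exact hβ.1
      exact hV β hβF hβr c hcC hc)
    (fun G _ _ ι hinj hSyl hc h1 h2 => hLoc _ hTS hZT G ι hinj hSyl c hcC hc h1 h2)
  -- extend `α` to `U C_S(U)`
  have hrec : F.IsReceptive U := receptive_of_fullyNormalized hS F hF hU
  have hM : U ⊔ centralizerIn (normalizerIn S U) U ≤ extender S U α := by
    refine sup_le (self_le_extender F hα) (le_trans ?_ (centralizerIn_le_extender' U α))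
    intro x hx
    exact ⟨hx.1.1, hx.2⟩
  obtain ⟨ψ, hψ, hψe⟩ := extend_to_sub F hα hαr hrec hM
  have hcR₀ : c ∈ U ⊔ centralizerIn (normalizerIn S U) U :=
    (le_sup_left : U ≤ U ⊔ centralizerIn (normalizerIn S U) U) hcU
  -- `ψ` maps `U` onto `U`
  have hψU : ∀ (u : Ω) (hu : u ∈ U), ψ ⟨u, (le_sup_left : U ≤ _) hu⟩ ∈ U := by
    intro u hu
    rw [hψe u hu]
    have : α ⟨u, hu⟩ ∈ α.range := ⟨_, rfl⟩
    rwa [hαr] at this
  have hψUsurj : ∀ u ∈ U, ∃ (u' : Ω) (hu' : u' ∈ U), ψ ⟨u', (le_sup_left : U ≤ _) hu'⟩ = u := by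
    intro u hu
    have : u ∈ α.range := by rw [hαr]; exact hu
    obtain ⟨u', hu'⟩ := this
    exact ⟨u', u'.2, by rw [hψe (u' : Ω) u'.2]; exact hu'⟩
  -- `ψ` is a map of the normalizer system
  have hψN : ψ ∈ (normalizerSystem F U hUS).Hom (U ⊔ centralizerIn (normalizerIn S U) U) := by
    rw [hF₁ _]
    have hval : ∀ x : ↥(U ⊔ centralizerIn (normalizerIn S U) U), ψ x ∈ normalizerIn S U := by
      have key : ∀ x : ↥(U ⊔ centralizerIn (normalizerIn S U) U), ∀ u ∈ U,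
          ψ x * u * (ψ x)⁻¹ ∈ U := by
        intro x u hu
        obtain ⟨u', hu', rfl⟩ := hψUsurj u hu
        have hxN : (x : Ω) ∈ Subgroup.normalizer (U : Set Ω) := (hR₀R x.2).2
        have h1 : (x : Ω) * u' * (x : Ω)⁻¹ ∈ U := (Subgroup.mem_normalizer_iff.mp hxN u').mp hu'
        have h2 := hψU _ h1
        have e : (⟨(x : Ω) * u' * (x : Ω)⁻¹, (le_sup_left : U ≤ _) h1⟩ :
            ↥(U ⊔ centralizerIn (normalizerIn S U) U)) = x * ⟨u', (le_sup_left : U ≤ _) hu'⟩ * x⁻¹ :=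
          Subtype.ext rfl
        rw [e, map_mul, map_mul, map_inv] at h2
        exact h2
      intro x
      refine ⟨hom_mem_S F hψ x, ?_⟩
      refine Subgroup.mem_normalizer_iff.mpr ?_
      intro y
      constructor
      · exact key x y
      · intro h
        have := key x⁻¹ _ h
        rw [map_inv] at this
        have e : (ψ x)⁻¹ * (ψ x * y * (ψ x)⁻¹) * (ψ x)⁻¹⁻¹ = y := by group
        rwa [e] at this
    have e : U ⊔ centralizerIn (normalizerIn S U) U =
        (U ⊔ centralizerIn (normalizerIn S U) U) ⊔ U := by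
      rw [sup_assoc, sup_comm (centralizerIn (normalizerIn S U) U) U, ← sup_assoc, sup_idem]
    refine ⟨hψ, hR₀R, hval, ψ.comp (Subgroup.inclusion e.ge), cast_mem F e hψ, fun x => rfl, ?_⟩
    rw [map_subgroupOf_eq_iff]
    refine ⟨fun y hy => ?_, fun q hq => ?_⟩
    · exact hψU _ hy
    · obtain ⟨u', hu', hq'⟩ := hψUsurj q hq
      exact ⟨⟨u', (le_sup_right : U ≤ (U ⊔ centralizerIn (normalizerIn S U) U) ⊔ U) hu'⟩, hu', hq'⟩
  have h := hmain ψ hψN hcR₀
  rw [← hψe c hcU hcR₀]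
  exact h

end Cfsg.Agent.Lib.Helper54.FusLocal
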