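import Mathlib
import Cfsg.Prelude.Def_Transfer
import Cfsg.Agent.S0072
import Cfsg.Agent.Lib.Helper19.PNil
import Cfsg.Agent.Lib.Helper32.RelSylow
import Cfsg.Agent.Lib.Helper33.SecBasic

set_option autoImplicit false
set_option linter.style.haveILetI false

/-!
# Tools for `p`-nilpotency arguments with relative (subgroup-internal) formulations
-/

namespace Cfsg.Agent.Lib.Helper54

open Cfsg Cfsg.Agent.Lib.Helper2 Cfsg.Agent.Lib.Helper19

section tools

variable {G : Type*} [Group G] {p : ℕ} [hp : Fact p.Prime]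

/-- coprime stability: a `p'`-element centralizing `B` and `A` modulo `B` centralizes the
`p`-group `A`. -/
theorem mem_centralizer_of_stab [Finite G] {A B : Subgroup G} (hA : IsPGroup p A) (hBA : B ≤ A)
    {g : G} (hg : (orderOf g).Coprime p) (hB : g ∈ Subgroup.centralizer (B : Set G))
    (hAB : ∀ a ∈ A, g * a * g⁻¹ * a⁻¹ ∈ B) : g ∈ Subgroup.centralizer (A : Set G) := by
  rw [Subgroup.mem_centralizer_iff]
  intro a ha
  set c := g * a * g⁻¹ * a⁻¹ with hc
  have hcB : c ∈ B := hAB a ha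
  have hgc : g * c = c * g := (Subgroup.mem_centralizer_iff.mp hB c hcB).symm
  have hconj : g * a * g⁻¹ = c * a := by rw [hc]; group
  have hiter : ∀ n : ℕ, g ^ n * a * (g ^ n)⁻¹ = c ^ n * a := by
    intro n
    induction n with
    | zero => simp
    | succ n ih =>
      have hgcn : g * c ^ n = c ^ n * g := by
        have : Commute g c := hgc
        exact (this.pow_right n).eq
      calc g ^ (n + 1) * a * (g ^ (n + 1))⁻¹ = g * (g ^ n * a * (g ^ n)⁻¹) * g⁻¹ := by
            rw [pow_succ']; group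
        _ = g * (c ^ n * a) * g⁻¹ := by rw [ih]
        _ = (g * c ^ n) * a * g⁻¹ := by group
        _ = c ^ n * (g * a * g⁻¹) := by rw [hgcn]; group
        _ = c ^ (n + 1) * a := by rw [hconj, pow_succ]; group
  have h1 := hiter (orderOf g)
  rw [pow_orderOf_eq_one] at h1
  have h2 : c ^ orderOf g = 1 := by
    have : a = c ^ orderOf g * a := by simpa using h1
    have h3 : c ^ orderOf g * a = 1 * a := by rw [one_mul]; exact this.symm
    exact mul_right_cancel h3
  obtain ⟨k, hk⟩ := hA ⟨c, hBA hcB⟩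
  have h3 : c ^ p ^ k = 1 := by
    have := congrArg Subtype.val hk
    simpa using this
  have h4 : orderOf c ∣ orderOf g := orderOf_dvd_of_pow_eq_one h2
  have h5 : orderOf c ∣ p ^ k := orderOf_dvd_of_pow_eq_one h3
  have h6 : orderOf c = 1 := Nat.eq_one_of_dvd_coprimes (Nat.Coprime.pow_right k hg) h4 h5
  have h7 : c = 1 := orderOf_eq_one_iff.mp h6
  rw [h7, one_mul] at hconj
  calc a * g = (g * a * g⁻¹) * g := by rw [hconj]
    _ = g * a := by group

/-- the relative Frobenius criterion -/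
theorem pn_of_frob [Finite G] {K : Subgroup G}
    (h : ∀ Q : Subgroup G, Q ≤ K → IsPGroup p Q → ∀ g ∈ K, g ∈ Subgroup.normalizer (Q : Set G) →
      (orderOf g).Coprime p → g ∈ Subgroup.centralizer (Q : Set G)) : PN p K := by
  unfold PN
  rw [Cfsg.Agent.S0072.hasNormalPComplement_iff_frobCond p]
  intro Q hQ g hg hgo
  have hQ' : IsPGroup p (Q.map K.subtype) := hQ.map _
  have hQK : Q.map K.subtype ≤ K := Subgroup.map_subtype_le Q
  have hg' : (g : G) ∈ Subgroup.normalizer ((Q.map K.subtype : Subgroup G) : Set G) :=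
    Subgroup.le_normalizer_map K.subtype ⟨g, hg, rfl⟩
  have hgo' : (orderOf (g : G)).Coprime p := by
    rw [Subgroup.orderOf_coe]; exact hgo
  have h1 := h _ hQK hQ' (g : G) g.2 hg' hgo'
  rw [Subgroup.mem_centralizer_iff] at h1 ⊢
  intro q hq
  have h2 := h1 (q : G) ⟨q, hq, rfl⟩
  exact Subtype.ext h2

/-- Lifting a normal `p`-complement through a normal `p`-subgroup centralized by all
`p'`-elements. -/
theorem hasNPC_of_quotient_pGroup {X : Type*} [Group X] [Finite X] (N : Subgroup X) [N.Normal]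
    (hN : IsPGroup p N)
    (hc : ∀ g : X, (orderOf g).Coprime p → g ∈ Subgroup.centralizer (N : Set X))
    (h : HasNormalPComplement p (X ⧸ N)) : HasNormalPComplement p X := by
  rw [Cfsg.Agent.S0072.hasNormalPComplement_iff_frobCond p] at h ⊢
  intro Q hQ g hg hgo
  have hgbar : QuotientGroup.mk' N g ∈
      Subgroup.normalizer ((Q.map (QuotientGroup.mk' N) : Subgroup (X ⧸ N)) : Set (X ⧸ N)) :=
    Subgroup.le_normalizer_map _ ⟨g, hg, rfl⟩
  have hgo' : (orderOf (QuotientGroup.mk' N g)).Coprime p :=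
    Nat.Coprime.coprime_dvd_left (orderOf_map_dvd _ g) hgo
  have h1 := h _ (hQ.map _) _ hgbar hgo'
  have hA : IsPGroup p (Q ⊔ N : Subgroup X) := hQ.to_sup_of_normal_right hN
  have h2 : g ∈ Subgroup.centralizer ((Q ⊔ N : Subgroup X) : Set X) := by
    apply mem_centralizer_of_stab hA le_sup_right hgo (hc g hgo)
    intro a ha
    have h3 : QuotientGroup.mk' N a ∈ Q.map (QuotientGroup.mk' N) := by
      have : QuotientGroup.mk' N a ∈ (Q ⊔ N).map (QuotientGroup.mk' N) :=
        Subgroup.mem_map_of_mem _ ha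
      rw [Subgroup.map_sup] at this
      have hb : N.map (QuotientGroup.mk' N) = ⊥ := by
        rw [Subgroup.map_eq_bot_iff, QuotientGroup.ker_mk']
      rwa [hb, sup_bot_eq] at this
    have h4 := Subgroup.mem_centralizer_iff.mp h1 _ h3
    have h5 : QuotientGroup.mk' N (g * a * g⁻¹ * a⁻¹) = 1 := by
      rw [map_mul, map_mul, map_mul, map_inv, map_inv, ← h4]; group
    rw [← QuotientGroup.ker_mk' N]
    exact h5
  exact Subgroup.centralizer_le (by exact_mod_cast (le_sup_left : Q ≤ Q ⊔ N)) h2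

/-- a normal relative Sylow subgroup contains every `p`-subgroup -/
theorem le_of_normal_relSylow [Finite G] {K X Q : Subgroup G} (hKX : K ≤ X)
    (hXK : X ≤ Subgroup.normalizer (K : Set G)) (hKi : ¬ p ∣ K.relIndex X) (hQX : Q ≤ X)
    (hQ : IsPGroup p Q) : Q ≤ K := by
  rw [← Subgroup.relIndex_eq_one]
  have h1 : K.relIndex (Q ⊔ K) = K.relIndex Q :=
    Cfsg.Agent.Lib.Helper32.relIndex_sup_right_of_le_normalizer (hQX.trans hXK)
  have h2 : K.relIndex (Q ⊔ K) * (Q ⊔ K).relIndex X = K.relIndex X :=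
    Subgroup.relIndex_mul_relIndex K (Q ⊔ K) X le_sup_right (sup_le hQX hKX)
  have h3 : K.relIndex Q ∣ K.relIndex X := by rw [← h1, ← h2]; exact Dvd.intro _ rfl
  obtain ⟨n, hn⟩ := IsPGroup.iff_card.mp hQ
  have h4 : K.relIndex Q ∣ p ^ n := by
    rw [← hn]; exact Subgroup.index_dvd_card _
  have hcop : (K.relIndex X).Coprime (p ^ n) :=
    Nat.Coprime.pow_right n ((Nat.Prime.coprime_iff_not_dvd hp.out).mpr hKi).symm
  exact Nat.eq_one_of_dvd_coprimes hcop h3 h4

/-- `p'`-elements of `M` lie in the normal subgroup `H` if those normalizing a relative Sylow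
subgroup of `H` do. -/
theorem mem_of_coprime_of_frattini [Finite G] {M H R : Subgroup G} (hHM : H ≤ M)
    (hMH : M ≤ Subgroup.normalizer (H : Set G)) (hRH : R ≤ H) (hRp : IsPGroup p R)
    (hRi : ¬ p ∣ R.relIndex H)
    (hy : ∀ y ∈ M ⊓ Subgroup.normalizer (R : Set G), (orderOf y).Coprime p → y ∈ H) :
    ∀ g ∈ M, (orderOf g).Coprime p → g ∈ H := by
  intro g hgM hgo
  obtain ⟨x₁, hx₁, y, hyM, rfl⟩ := Cfsg.Agent.Lib.Helper33.frattini_gen hMH hHM hRH hRp hRi hgM
  obtain ⟨k, m, hm, hkm⟩ := Nat.exists_eq_pow_mul_and_not_dvd (orderOf_pos y).ne' p hp.out.ne_one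
  have hmc : m.Coprime p := ((Nat.Prime.coprime_iff_not_dvd hp.out).mpr hm).symm
  have h2 : (y ^ p ^ k) ^ m = 1 := by rw [← pow_mul, ← hkm, pow_orderOf_eq_one]
  have h3 : (orderOf (y ^ p ^ k)).Coprime p :=
    Nat.Coprime.coprime_dvd_left (orderOf_dvd_of_pow_eq_one h2) hmc
  have h4 : y ^ p ^ k ∈ H := hy _ (pow_mem hyM _) h3
  -- in the quotient `M / H`
  haveI hn : (H.subgroupOf M).Normal := (Subgroup.normal_subgroupOf_iff_le_normalizer hHM).mpr hMH
  have hyM' : y ∈ M := (Subgroup.mem_inf.mp hyM).1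
  have h5 : (QuotientGroup.mk' (H.subgroupOf M) ⟨x₁ * y, hgM⟩) =
      QuotientGroup.mk' (H.subgroupOf M) ⟨y, hyM'⟩ := by
    have : (⟨x₁ * y, hgM⟩ : M) = ⟨x₁, hHM hx₁⟩ * ⟨y, hyM'⟩ := rfl
    rw [this, map_mul]
    have h6 : QuotientGroup.mk' (H.subgroupOf M) ⟨x₁, hHM hx₁⟩ = 1 := by
      rw [QuotientGroup.mk'_apply, QuotientGroup.eq_one_iff, Subgroup.mem_subgroupOf]
      exact hx₁
    rw [h6, one_mul]
  have h7 : (QuotientGroup.mk' (H.subgroupOf M) ⟨y, hyM'⟩) ^ (p ^ k) = 1 := by
    rw [← map_pow, QuotientGroup.mk'_apply, QuotientGroup.eq_one_iff, Subgroup.mem_subgroupOf]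
    exact h4
  have h8 : (x₁ * y) ^ p ^ k ∈ H := by
    have : (QuotientGroup.mk' (H.subgroupOf M) ⟨x₁ * y, hgM⟩) ^ (p ^ k) = 1 := by rw [h5, h7]
    rw [← map_pow, QuotientGroup.mk'_apply, QuotientGroup.eq_one_iff,
      Subgroup.mem_subgroupOf] at this
    exact this
  have hcop : (p ^ k).Coprime (orderOf (x₁ * y)) := Nat.Coprime.pow_left k hgo.symm
  obtain ⟨m', hm'⟩ := exists_pow_eq_self_of_coprime hcop
  rw [← hm']
  exact pow_mem h8 _

/-- the normalizer of an image under a surjection containing the kernel -/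
theorem normalizer_map_eq_of_ker_le {X Y : Type*} [Group X] [Group Y] (f : X →* Y)
    (hf : Function.Surjective f) (W : Subgroup X) (hker : f.ker ≤ W) :
    Subgroup.normalizer ((W.map f : Subgroup Y) : Set Y) =
      (Subgroup.normalizer (W : Set X)).map f := by
  have h1 := Subgroup.comap_normalizer_eq_of_surjective (W.map f) hf
  rw [Subgroup.comap_map_eq, sup_eq_left.mpr hker] at h1
  rw [← h1, Subgroup.map_comap_eq_self_of_surjective hf]

end tools

end Cfsg.Agent.Lib.Helper54
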