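import Mathlib
import Cfsg.Prelude.Def_Transfer
import Cfsg.Agent.Lib.Helper24.Coprime

set_option autoImplicit false
set_option linter.style.haveILetI false

/-!
# Cyclic derived subgroups of Sylow subgroups: auxiliary lemmas
-/

namespace Cfsg.Agent.Lib.Helper54

open scoped commutatorElement

/-- In a finite `p`-group, conjugation fixes every element of order dividing `p` of a cyclic
normal subgroup. -/
theorem conj_eq_of_cyclic_normal {P : Type*} [Group P] [Finite P] {p : ℕ} [hp : Fact p.Prime]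
    (hP : IsPGroup p P) (K : Subgroup P) [hKn : K.Normal] [hK : IsCyclic K] (a : P) (c : P)
    (hc : c ∈ K) (hcp : c ^ p = 1) : a * c * a⁻¹ = c := by
  obtain ⟨m, hm⟩ := MonoidHom.map_cyclic ((MulAut.conjNormal a : MulAut K).toMonoidHom)
  -- iterate
  have hiter : ∀ n : ℕ, ∀ g : K, (MulAut.conjNormal (a ^ n) : MulAut K) g = g ^ (m ^ n) := by
    intro n
    induction n with
    | zero => intro g; simp
    | succ n ih =>
      intro g
      rw [pow_succ, map_mul, MulAut.mul_apply]
      have h1 : (MulAut.conjNormal a : MulAut K) g = g ^ m := hm g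
      rw [h1, ih, ← zpow_mul, pow_succ, mul_comm]
  obtain ⟨e, he⟩ := hP a
  have h2 := hiter (p ^ e) ⟨c, hc⟩
  rw [he, map_one, MulAut.one_apply] at h2
  -- `m ^ (p ^ e) ≡ m mod p`
  have h3 : ((m ^ (p ^ e) - m : ℤ) : ZMod p) = 0 := by
    push_cast
    rw [ZMod.pow_card_pow, sub_self]
  obtain ⟨t, ht⟩ := (ZMod.intCast_zmod_eq_zero_iff_dvd _ p).mp h3
  have h4 : (⟨c, hc⟩ : K) ^ (m ^ (p ^ e)) = (⟨c, hc⟩ : K) ^ m := by
    have : m ^ (p ^ e) = m + (p : ℤ) * t := by linarith
    rw [this, zpow_add, zpow_mul]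
    have hcp' : (⟨c, hc⟩ : K) ^ (p : ℤ) = 1 := by
      apply Subtype.ext
      simp [hcp]
    rw [hcp', one_zpow, mul_one]
  have h5 : (MulAut.conjNormal a : MulAut K) ⟨c, hc⟩ = ⟨c, hc⟩ := by
    have := hm ⟨c, hc⟩
    rw [← h4, ← h2] at this
    exact this
  have h6 := congrArg (Subtype.val) h5
  rw [MulAut.conjNormal_apply] at h6
  exact h6

/-- If the Sylow `p`-subgroup `S` has cyclic derived subgroup and `V ≤ S` is a normal subgroup
of `X` of exponent `p`, then every element of `S` acts quadratically on `V`. -/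
theorem quadratic_of_cyclic_commutator {X : Type*} [Group X] [Finite X] {p : ℕ} [hp : Fact p.Prime]
    (S : Subgroup X) (hSp : IsPGroup p S) (hS : IsCyclic (commutator S)) (V : Subgroup X)
    [hVn : V.Normal] (hVS : V ≤ S) (hVp : ∀ v ∈ V, v ^ p = 1) (a : X) (ha : a ∈ S) (v : X)
    (hv : v ∈ V) : ⁅a, ⁅a, v⁆⁆ = 1 := by
  haveI : Finite S := inferInstance
  have hcV : ⁅a, v⁆ ∈ V := by
    rw [commutatorElement_def]
    exact V.mul_mem (hVn.conj_mem v hv a) (V.inv_mem hv)
  have hcp : ⁅a, v⁆ ^ p = 1 := hVp _ hcV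
  set a' : S := ⟨a, ha⟩ with ha'
  set v' : S := ⟨v, hVS hv⟩ with hv'
  have hc' : ⁅a', v'⁆ ∈ commutator S := by
    rw [commutator_def]
    exact Subgroup.commutator_mem_commutator (Subgroup.mem_top _) (Subgroup.mem_top _)
  have hcp' : ⁅a', v'⁆ ^ p = 1 := by
    apply Subtype.ext
    simpa [commutatorElement_def] using hcp
  have h1 := conj_eq_of_cyclic_normal hSp (commutator S) a' ⁅a', v'⁆ hc' hcp'
  have h2 : ⁅a', ⁅a', v'⁆⁆ = 1 := by
    rw [commutatorElement_def a' ⁅a', v'⁆, h1, mul_inv_cancel]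
  have h3 := congrArg Subtype.val h2
  simpa [commutatorElement_def] using h3

/-- Burnside: a `p'`-group of operators acting trivially on the Frattini quotient of a `p`-group
`V` centralizes `V`. -/
theorem le_centralizer_of_commutator_le_frattini {X : Type*} [Group X] [Finite X] {p : ℕ}
    [hp : Fact p.Prime] (V : Subgroup X) (hV : IsPGroup p V) (A : Subgroup X)
    (hAN : A ≤ Subgroup.normalizer (V : Set X)) (hcop : (Nat.card A).Coprime p)
    (hc : ⁅V, A⁆ ≤ (frattini V).map V.subtype) : A ≤ Subgroup.centralizer (V : Set X) := by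
  obtain ⟨n, hn⟩ := IsPGroup.iff_card.mp hV
  have hcop' : (Nat.card A).Coprime (Nat.card V) := by
    rw [hn]; exact Nat.Coprime.pow_right n hcop
  have hsolv : Group.IsSolvable A ∨ Group.IsSolvable V := by
    right
    haveI := hV.isNilpotent
    infer_instance
  have h1 := Cfsg.Agent.Lib.Helper24.commutator_sup_centralizer_eq A V hAN hcop' hsolv
  -- in `↥V`
  have h2 : (V ⊓ Subgroup.centralizer (A : Set X)).subgroupOf V ⊔ frattini V = ⊤ := by
    rw [eq_top_iff]
    intro x _
    have hx : (x : X) ∈ ⁅V, A⁆ ⊔ (V ⊓ Subgroup.centralizer (A : Set X)) := by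
      rw [h1]; exact x.2
    have hle : ⁅V, A⁆ ⊔ (V ⊓ Subgroup.centralizer (A : Set X)) ≤
        ((V ⊓ Subgroup.centralizer (A : Set X)).subgroupOf V ⊔ frattini V).map V.subtype := by
      rw [Subgroup.map_sup]
      apply sup_le
      · exact hc.trans le_sup_right
      · refine le_trans ?_ le_sup_left
        rw [Subgroup.map_subgroupOf_eq_of_le inf_le_left]
    obtain ⟨y, hy, hyx⟩ := hle hx
    have : y = x := Subtype.ext hyx
    rw [← this]; exact hy
  have h3 := frattini_nongenerating h2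
  intro a ha
  rw [Subgroup.mem_centralizer_iff]
  intro v hv
  have h4 : (⟨v, hv⟩ : V) ∈ (V ⊓ Subgroup.centralizer (A : Set X)).subgroupOf V := by
    rw [h3]; exact Subgroup.mem_top _
  rw [Subgroup.mem_subgroupOf] at h4
  have h5 := (Subgroup.mem_inf.mp h4).2
  rw [Subgroup.mem_centralizer_iff] at h5
  exact (h5 a ha).symm

end Cfsg.Agent.Lib.Helper54
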