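import Cfsg.Agent.Lib.Helper88.AovDefs
import Cfsg.Agent.Lib.Helper87.FusionBasic
import Cfsg.Agent.Lib.Helper87.Saturation
import Cfsg.Agent.Lib.Helper87.ModExt
import Cfsg.Agent.Lib.Helper87.ConstrainedNormal
import Cfsg.Agent.Lib.Helper87.Inner
import Cfsg.Agent.Lib.Helper87.Alperin
import Cfsg.Agent.Lib.Helper87.Lemma26

/-! Leaf A2 of helper88's S5243 project (AOV Lemma 1.26): the witness `g ∈ C_T(P ⊓ T) ∩ N_S(P) ∖ P`
for a fully normalized `F`-centric `P` with `P ⊓ T` not `E`-centric. -/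

set_option autoImplicit false

namespace Cfsg.Agent.Lib.Helper88.Aov

open Cfsg Cfsg.FusionSystem Cfsg.Agent.Lib.Helper88
open Cfsg.Agent.Lib.Helper87 (hom_le hom_mem_S range_le subtype_mem restrict_mem inv_exists
  isConj_symm isConj_trans isConj_le_left isConj_le_right finite_of_le stronglyClosed_map_mem
  stronglyClosed_le_normalizer exists_normalizer_map fc_fa_of_fullyNormalized
  receptive_of_fullyNormalized exists_fullyNormalized_conj self_le_extender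
  centralizerIn_le_extender' card_lt_card_normalizerIn)

variable {Ω : Type*} [Group Ω] {S T : Subgroup Ω} [Finite S] {p : ℕ} [Fact p.Prime]
  {F : FusionSystem S} {E : FusionSystem T} {K : Subgroup (MulAut T)}

/-- an element normalizing `A` and `B` normalizes `A ⊓ B` -/
theorem h54_mem_normalizer_inf {A B : Subgroup Ω} {x : Ω}
    (hA : x ∈ Subgroup.normalizer (A : Set Ω)) (hB : x ∈ Subgroup.normalizer (B : Set Ω)) :
    x ∈ Subgroup.normalizer ((A ⊓ B : Subgroup Ω) : Set Ω) := by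
  rw [Subgroup.mem_normalizer_iff] at hA hB ⊢
  intro n
  rw [Subgroup.mem_inf, Subgroup.mem_inf, hA n, hB n]

/-- an element normalizing `A` normalizes its centralizer -/
theorem h54_mem_normalizer_centralizer {A : Subgroup Ω} {x : Ω}
    (hA : x ∈ Subgroup.normalizer (A : Set Ω)) :
    x ∈ Subgroup.normalizer ((Subgroup.centralizer (A : Set Ω) : Subgroup Ω) : Set Ω) := by
  have key : ∀ y : Ω, y ∈ Subgroup.normalizer (A : Set Ω) → ∀ n : Ω,
      n ∈ Subgroup.centralizer (A : Set Ω) → y * n * y⁻¹ ∈ Subgroup.centralizer (A : Set Ω) := by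
    intro y hy n hn
    rw [Subgroup.mem_centralizer_iff] at hn ⊢
    intro q hq
    have hq' : y⁻¹ * q * y ∈ A := by
      have := (Subgroup.mem_normalizer_iff.mp (Subgroup.inv_mem _ hy) q).mp hq
      simpa using this
    have h1 := hn _ hq'
    calc q * (y * n * y⁻¹) = y * ((y⁻¹ * q * y) * n) * y⁻¹ := by group
      _ = y * (n * (y⁻¹ * q * y)) * y⁻¹ := by rw [h1]
      _ = y * n * y⁻¹ * q := by group
  rw [Subgroup.mem_normalizer_iff]
  intro n
  constructor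
  · exact key x hA n
  · intro hn
    have := key x⁻¹ (Subgroup.inv_mem _ hA) _ hn
    have e : x⁻¹ * (x * n * x⁻¹) * x⁻¹⁻¹ = n := by group
    rwa [e] at this

/-- normalizer growth: if the `p`-group `A` normalizes the `p`-group `D` and `D ≰ A` then some
element of `D` outside `A` normalizes `A` -/
theorem h54_normalizer_growth (hS : IsPGroup p S) {A D : Subgroup Ω} (hA : A ≤ S) (hD : D ≤ S)
    (hAD : A ≤ Subgroup.normalizer (D : Set Ω)) (hn : ¬ D ≤ A) :
    ∃ d ∈ D, d ∈ Subgroup.normalizer (A : Set Ω) ∧ d ∉ A := by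
  have hM : A ⊔ D ≤ S := sup_le hA hD
  haveI : Finite ↥(A ⊔ D) := finite_of_le hM
  have hMp : IsPGroup p ↥(A ⊔ D) := hS.to_le hM
  have hne : A ≠ A ⊔ D := fun h => hn (h ▸ le_sup_right)
  have hlt := card_lt_card_normalizerIn (S := A ⊔ D) hMp le_sup_left hne
  have hnot : ¬ normalizerIn (A ⊔ D) A ≤ A := by
    intro hle
    haveI : Finite A := finite_of_le hA
    exact absurd (Subgroup.card_le_of_le hle) (not_le.mpr hlt)
  obtain ⟨y, hy, hyA⟩ := SetLike.not_le_iff_exists.mp hnot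
  have hy' : y ∈ ((A ⊔ D : Subgroup Ω) : Set Ω) := hy.1
  rw [Subgroup.coe_mul_of_left_le_normalizer_right A D hAD] at hy'
  obtain ⟨a, ha, d, hd, rfl⟩ := hy'
  refine ⟨d, hd, ?_, ?_⟩
  · have e : d = a⁻¹ * (a * d) := by group
    rw [e]
    exact Subgroup.mul_mem _ (Subgroup.inv_mem _ (Subgroup.le_normalizer ha)) hy.2
  · intro hdA
    exact hyA (A.mul_mem ha hdA)

/-- transfer of `C_T(Q₁) ≰ Q₁` to a receptive `F`-conjugate -/
theorem h54_cent_not_le_of_receptive (h : Setup p F E K) {Q₁ Qs : Subgroup Ω}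
    (hrec : F.IsReceptive Qs) (hc : F.IsConj Q₁ Qs) (hn : ¬ centralizerIn T Q₁ ≤ Q₁) :
    ¬ centralizerIn T Qs ≤ Qs := by
  obtain ⟨θ, hθ, hr⟩ := hc
  obtain ⟨ψ, hψ, hψe⟩ := hrec.2 Q₁ θ hθ hr
  obtain ⟨c, hc, hcQ⟩ := SetLike.not_le_iff_exists.mp hn
  have hTS : T ≤ S := h.hT.1
  have hcN : c ∈ extender S Q₁ θ := centralizerIn_le_extender' Q₁ θ ⟨hTS hc.1, hc.2⟩
  have hQN : Q₁ ≤ extender S Q₁ θ := self_le_extender F hθ
  intro hle
  have hd : ψ ⟨c, hcN⟩ ∈ centralizerIn T Qs := by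
    refine ⟨stronglyClosed_map_mem F h.hT hψ ⟨c, hcN⟩ hc.1, Subgroup.mem_centralizer_iff.mpr ?_⟩
    intro q hq
    rw [← hr] at hq
    obtain ⟨x, rfl⟩ := hq
    have e1 : θ x = ψ ⟨x, hQN x.2⟩ := (hψe x x.2 (hQN x.2)).symm
    rw [e1, ← map_mul, ← map_mul]
    congr 1
    apply Subtype.ext
    exact Subgroup.mem_centralizer_iff.mp hc.2 x x.2
  have := hle hd
  rw [← hr] at this
  obtain ⟨x, hx⟩ := this
  have e1 : θ x = ψ ⟨x, hQN x.2⟩ := (hψe x x.2 (hQN x.2)).symm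
  rw [e1] at hx
  have := F.injective_of_mem hψ hx
  apply hcQ
  have e2 : (x : Ω) = c := congrArg (fun z : ↥(extender S Q₁ θ) => (z : Ω)) this
  rw [← e2]
  exact x.2

/-- A2. -/
theorem exists_witness (h : Setup p F E K) {P : Subgroup Ω} (hPc : F.IsCentric P)
    (hfn : F.IsFullyNormalized P) (hP : ¬ E.IsCentric (P ⊓ T)) :
    ∃ g, g ∈ centralizerIn T (P ⊓ T) ∧ g ∈ normalizerIn S P ∧ g ∉ P := by
  have hTS : T ≤ S := h.hT.1
  have hPS : P ≤ S := hPc.1
  have hQS : P ⊓ T ≤ S := inf_le_left.trans hPS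
  have hST : S ≤ Subgroup.normalizer (T : Set Ω) := stronglyClosed_le_normalizer F h.hT
  -- a conjugate `Q₁` of `Q = P ⊓ T` in `E` with `C_T(Q₁) ≰ Q₁`
  obtain ⟨Q₁, hQQ₁, hQ₁⟩ : ∃ Q₁, E.IsConj (P ⊓ T) Q₁ ∧ ¬ centralizerIn T Q₁ ≤ Q₁ := by
    by_contra hcon
    push_neg at hcon
    exact hP ⟨inf_le_right, hcon⟩
  have hQQ₁F : F.IsConj (P ⊓ T) Q₁ := by
    obtain ⟨θ, hθ, hr⟩ := hQQ₁
    exact ⟨θ, h.hsub _ hθ, hr⟩
  -- fully normalized conjugate `Qs` of `Q`
  obtain ⟨Qs, hQQs, hQsfn⟩ := exists_fullyNormalized_conj F hQS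
  have hQsfa := (fc_fa_of_fullyNormalized h.hS F h.hF hQsfn).2
  have hQsrec := receptive_of_fullyNormalized h.hS F h.hF hQsfn
  have hQscent : ¬ centralizerIn T Qs ≤ Qs :=
    h54_cent_not_le_of_receptive h hQsrec (isConj_trans F (isConj_symm F hQQ₁F) hQQs) hQ₁
  obtain ⟨ρ, hρ, -, hρQ, hρsurj⟩ := exists_normalizer_map h.hS F hQsfa hQsrec hQQs
  -- `P ≤ N_S(Q)`
  have hPN : P ≤ normalizerIn S (P ⊓ T) := fun x hx =>
    ⟨hPS hx, h54_mem_normalizer_inf (Subgroup.le_normalizer hx) (hST (hPS hx))⟩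
  have hρP := restrict_mem F hρ hPN
  obtain ⟨ρi, hρi, hρie, -⟩ := inv_exists F hρP rfl
  -- `Ps = ρ(P)`
  have hPsS : (ρ.comp (Subgroup.inclusion hPN)).range ≤ S := range_le F hρP
  have hPsT : (ρ.comp (Subgroup.inclusion hPN)).range ⊓ T = Qs := by
    ext y
    constructor
    · rintro ⟨⟨x, rfl⟩, hyT⟩
      have hxT : (x : Ω) ∈ T := by
        have := stronglyClosed_map_mem F h.hT hρi ⟨_, ⟨x, rfl⟩⟩ hyT
        rwa [hρie x ⟨x, rfl⟩] at this
      exact hρQ (Subgroup.inclusion hPN x) ⟨x.2, hxT⟩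
    · intro hy
      obtain ⟨x, hx, rfl⟩ := hρsurj y hy
      exact ⟨⟨⟨x, hx.1⟩, rfl⟩, stronglyClosed_map_mem F h.hT hρ x hx.2⟩
  have hPPs : F.IsConj P (ρ.comp (Subgroup.inclusion hPN)).range := ⟨_, hρP, rfl⟩
  -- normalizer growth
  have hDS : centralizerIn T Qs ≤ S := inf_le_left.trans hTS
  have hAD : (ρ.comp (Subgroup.inclusion hPN)).range ≤
      Subgroup.normalizer ((centralizerIn T Qs : Subgroup Ω) : Set Ω) := by
    intro a ha
    have haT : a ∈ Subgroup.normalizer (T : Set Ω) := hST (hPsS ha)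
    have haQ : a ∈ Subgroup.normalizer (Qs : Set Ω) := by
      rw [← hPsT]
      exact h54_mem_normalizer_inf (Subgroup.le_normalizer ha) haT
    exact h54_mem_normalizer_inf haT (h54_mem_normalizer_centralizer haQ)
  have hDA : ¬ centralizerIn T Qs ≤ (ρ.comp (Subgroup.inclusion hPN)).range := by
    intro hle
    apply hQscent
    intro c hc
    rw [← hPsT]
    exact ⟨hle hc, hc.1⟩
  obtain ⟨d, hd, hdN, hdA⟩ := h54_normalizer_growth h.hS hPsS hDS hAD hDA
  have hdNS : d ∈ normalizerIn S (ρ.comp (Subgroup.inclusion hPN)).range := ⟨hDS hd, hdN⟩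
  -- back to `P`
  have hPfa := (fc_fa_of_fullyNormalized h.hS F h.hF hfn).2
  have hPrec := receptive_of_fullyNormalized h.hS F h.hF hfn
  obtain ⟨σ, hσ, hσN, -, hσsurj⟩ := exists_normalizer_map h.hS F hPfa hPrec (isConj_symm F hPPs)
  obtain ⟨σi, hσi, hσie, -⟩ := inv_exists F hσ rfl
  refine ⟨σ ⟨d, hdNS⟩, ⟨stronglyClosed_map_mem F h.hT hσ ⟨d, hdNS⟩ hd.1,
    Subgroup.mem_centralizer_iff.mpr ?_⟩, hσN _, ?_⟩
  · intro z hz
    obtain ⟨x, hx, rfl⟩ := hσsurj z hz.1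
    have hxT : (x : Ω) ∈ T := by
      have := stronglyClosed_map_mem F h.hT hσi ⟨_, ⟨x, rfl⟩⟩ hz.2
      rwa [hσie x ⟨x, rfl⟩] at this
    have hxQs : (x : Ω) ∈ Qs := by
      rw [← hPsT]
      exact ⟨hx, hxT⟩
    rw [← map_mul, ← map_mul]
    congr 1
    apply Subtype.ext
    exact Subgroup.mem_centralizer_iff.mp hd.2 x hxQs
  · intro hg
    obtain ⟨x, hx, hxe⟩ := hσsurj _ hg
    have := F.injective_of_mem hσ hxe
    apply hdA
    have e2 : (x : Ω) = d :=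
      congrArg (fun z : ↥(normalizerIn S (ρ.comp (Subgroup.inclusion hPN)).range) => (z : Ω)) this
    rw [← e2]
    exact hx

end Cfsg.Agent.Lib.Helper88.Aov
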