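import Cfsg.Agent.Lib.Helper88.AovDefs
import Cfsg.Agent.Lib.Helper87.FusionBasic
import Cfsg.Agent.Lib.Helper87.Saturation
import Cfsg.Agent.Lib.Helper87.ModExt
import Cfsg.Agent.Lib.Helper87.ConstrainedNormal

/-! Leaf C1 of helper88's S5243 project (AOV Lemma 1.26): the naive system `kerSys` is a fusion
system. -/

set_option autoImplicit false

namespace Cfsg.Agent.Lib.Helper88.Aov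

open Cfsg Cfsg.FusionSystem Cfsg.Agent.Lib.Helper88
open Cfsg.Agent.Lib.Helper87 (hom_le hom_mem_S range_le subtype_mem restrict_mem)

variable {Ω : Type*} [Group Ω] {S T : Subgroup Ω} [Finite S] {p : ℕ} [Fact p.Prime]
  {F : FusionSystem S} {E : FusionSystem T} {K : Subgroup (MulAut T)}

/-- composition rule: `ψ₀ ∘ κ ∘ φ₀ = κ ∘ χ` for a map `χ` of `E` -/
theorem h54_comp_rule (h : Setup p F E K) {R R' : Subgroup Ω} {φ₀ : R →* Ω} (hφ₀ : φ₀ ∈ E.Hom R)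
    {κ : MulAut T} (hκ : κ ∈ K) {ψ₀ : R' →* Ω} (hψ₀ : ψ₀ ∈ E.Hom R')
    (hmem : ∀ (x : R) (hx : φ₀ x ∈ T), ((κ ⟨φ₀ x, hx⟩ : T) : Ω) ∈ R') :
    ∃ χ ∈ E.Hom R, ∀ (x : R) (hχ : χ x ∈ T) (hx : φ₀ x ∈ T)
      (hx' : ((κ ⟨φ₀ x, hx⟩ : T) : Ω) ∈ R'),
      ((κ ⟨χ x, hχ⟩ : T) : Ω) = ψ₀ ⟨_, hx'⟩ := by
  have hφ₀T : ∀ x : R, φ₀ x ∈ T := fun x => hom_mem_S E hφ₀ x
  have hR₁T : φ₀.range ≤ T := range_le E hφ₀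
  have hκF : κ ∈ F.autGroup T := h.hKF hκ
  have hκF' : κ⁻¹ ∈ F.autGroup T := inv_mem hκF
  have hR₂ : img κ φ₀.range ≤ R' := by
    intro y hy
    obtain ⟨t, ht, rfl⟩ := mem_img.mp hy
    obtain ⟨x, hx⟩ := ht
    have : t = ⟨φ₀ x, hφ₀T x⟩ := Subtype.ext hx.symm
    rw [this]
    exact hmem x _
  have hψ₁ := restrict_mem E hψ₀ hR₂
  have hP' : φ₀.range = img κ⁻¹ (img κ φ₀.range) := by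
    rw [img_img, inv_mul_cancel, img_one hR₁T]
  obtain ⟨χ₁, hχ₁, hχ₁e⟩ := transport_hom h.hinv (img_le κ _) hψ₁ hκF' hP'
  refine ⟨_, E.comp_mem hφ₀ hχ₁ (fun x => ⟨x, rfl⟩), fun x hχ hx hx' => ?_⟩
  have hy : ((κ ⟨φ₀ x, hx⟩ : T) : Ω) ∈ img κ φ₀.range :=
    mem_img.mpr ⟨⟨φ₀ x, hx⟩, ⟨x, rfl⟩, rfl⟩
  have hinvy : κ⁻¹ ⟨((κ ⟨φ₀ x, hx⟩ : T) : Ω), img_le κ _ hy⟩ = ⟨φ₀ x, hx⟩ := by
    have : (⟨((κ ⟨φ₀ x, hx⟩ : T) : Ω), img_le κ _ hy⟩ : T) = κ ⟨φ₀ x, hx⟩ := rfl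
    rw [this, MulAut.inv_apply_self]
  have hψ₁T : (ψ₀.comp (Subgroup.inclusion hR₂)) ⟨_, hy⟩ ∈ T := hom_mem_S E hψ₁ _
  have hm : ((κ⁻¹ ⟨((κ ⟨φ₀ x, hx⟩ : T) : Ω), img_le κ _ hy⟩ : T) : Ω) ∈ φ₀.range := by
    rw [hinvy]; exact ⟨x, rfl⟩
  have h1 := hχ₁e ⟨_, hy⟩ hψ₁T hm
  have e1 : (⟨((κ⁻¹ ⟨((κ ⟨φ₀ x, hx⟩ : T) : Ω), img_le κ _ hy⟩ : T) : Ω), hm⟩ : φ₀.range) =
      ⟨φ₀ x, ⟨x, rfl⟩⟩ := Subtype.ext (congrArg (fun t : T => (t : Ω)) hinvy)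
  have e2 : (χ₁.comp (φ₀.codRestrict φ₀.range fun x => ⟨x, rfl⟩)) x =
      ((κ⁻¹ ⟨(ψ₀.comp (Subgroup.inclusion hR₂)) ⟨_, hy⟩, hψ₁T⟩ : T) : Ω) := by
    rw [← h1, e1]
    rfl
  have e3 : (⟨(χ₁.comp (φ₀.codRestrict φ₀.range fun x => ⟨x, rfl⟩)) x, hχ⟩ : T) =
      κ⁻¹ ⟨(ψ₀.comp (Subgroup.inclusion hR₂)) ⟨_, hy⟩, hψ₁T⟩ := Subtype.ext e2
  rw [e3, MulAut.apply_inv_self]
  rfl

theorem h54_kerHom_conj (h : Setup p F E K) {P : Subgroup Ω} {g : Ω} (hP : P ≤ S) (hg : g ∈ S) :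
    conjHom P g ∈ kerHom F E K P := by
  refine ⟨F.conj_mem hP hg, ?_⟩
  have hgN : g ∈ Subgroup.normalizer (T : Set Ω) :=
    Cfsg.Agent.Lib.Helper87.stronglyClosed_le_normalizer F h.hT hg
  refine ⟨Cfsg.Agent.Lib.Helper87.conjAut T g hgN,
    h.hKS (Cfsg.Agent.Lib.Helper87.conjAut_mem_autInducedBy hg hgN), (P ⊓ T).subtype,
    subtype_mem E inf_le_right, fun x hx => ?_⟩
  rfl

theorem h54_kerHom_comp (h : Setup p F E K) {P Q : Subgroup Ω} {φ : P →* Ω} {ψ : Q →* Ω}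
    (hφ : φ ∈ kerHom F E K P) (hψ : ψ ∈ kerHom F E K Q) (hPQ : ∀ x : P, φ x ∈ Q) :
    ψ.comp (φ.codRestrict Q hPQ) ∈ kerHom F E K P := by
  obtain ⟨hφF, κ, hκ, φ₀, hφ₀, hφe⟩ := hφ
  obtain ⟨hψF, κ', hκ', ψ₀, hψ₀, hψe⟩ := hψ
  refine ⟨F.comp_mem hφF hψF hPQ, ?_⟩
  have hφ₀T : ∀ x, φ₀ x ∈ T := fun x => hom_mem_S E hφ₀ x
  have hmem : ∀ (x : ↥(P ⊓ T)) (hx : φ₀ x ∈ T), ((κ ⟨φ₀ x, hx⟩ : T) : Ω) ∈ Q ⊓ T := by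
    intro x hx
    refine ⟨?_, (κ _).2⟩
    rw [← hφe x hx]
    exact hPQ _
  obtain ⟨χ, hχ, hχe⟩ := h54_comp_rule h hφ₀ hκ hψ₀ hmem
  refine ⟨κ' * κ, K.mul_mem hκ' hκ, χ, hχ, fun x hx => ?_⟩
  have h1 := hχe x hx (hφ₀T x) (hmem x _)
  have hψ₀T : ψ₀ ⟨_, hmem x (hφ₀T x)⟩ ∈ T := hom_mem_S E hψ₀ _
  have h2 := hψe ⟨_, hmem x (hφ₀T x)⟩ hψ₀T
  show ψ ⟨φ ⟨x, x.2.1⟩, hPQ _⟩ = ((κ' (κ ⟨χ x, hx⟩) : T) : Ω)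
  have e1 : κ ⟨χ x, hx⟩ = ⟨ψ₀ ⟨_, hmem x (hφ₀T x)⟩, hψ₀T⟩ := Subtype.ext h1
  rw [e1, ← h2]
  congr 1
  exact Subtype.ext (hφe x (hφ₀T x))

theorem h54_kerHom_inv (h : Setup p F E K) {P : Subgroup Ω} {φ : P →* Ω}
    (hφ : φ ∈ kerHom F E K P) :
    ∃ ψ ∈ kerHom F E K φ.range, ∀ x : P, ψ ⟨φ x, ⟨x, rfl⟩⟩ = (x : Ω) := by
  obtain ⟨hφF, κ, hκ, φ₀, hφ₀, hφe⟩ := hφ
  obtain ⟨ψ, hψ, hψe⟩ := F.inv_mem hφF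
  refine ⟨ψ, ⟨hψ, ?_⟩, hψe⟩
  have hφ₀T : ∀ x, φ₀ x ∈ T := fun x => hom_mem_S E hφ₀ x
  have hR₁T : φ₀.range ≤ T := range_le E hφ₀
  obtain ⟨ξ, hξ, hξe⟩ := E.inv_mem hφ₀
  have hκF : κ ∈ F.autGroup T := h.hKF hκ
  have hxT : ∀ x : P, φ x ∈ T → (x : Ω) ∈ T := by
    intro x hyT
    have := Cfsg.Agent.Lib.Helper87.stronglyClosed_map_mem F h.hT hψ ⟨φ x, ⟨x, rfl⟩⟩ hyT
    rwa [hψe x] at this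
  have hP' : φ.range ⊓ T = img κ φ₀.range := by
    ext y
    rw [mem_img]
    constructor
    · rintro ⟨⟨x, rfl⟩, hyT⟩
      refine ⟨⟨φ₀ ⟨x, x.2, hxT x hyT⟩, hφ₀T _⟩, ⟨_, rfl⟩, ?_⟩
      exact (hφe ⟨x, x.2, hxT x hyT⟩ (hφ₀T _)).symm
    · rintro ⟨t, ⟨x, hx⟩, rfl⟩
      have : t = ⟨φ₀ x, hφ₀T x⟩ := Subtype.ext hx.symm
      rw [this]
      refine ⟨?_, (κ _).2⟩
      rw [← hφe x (hφ₀T x)]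
      exact ⟨_, rfl⟩
  obtain ⟨χ, hχ, hχe⟩ := transport_hom h.hinv hR₁T hξ hκF hP'
  refine ⟨κ⁻¹, K.inv_mem hκ, χ, hχ, fun y hy => ?_⟩
  obtain ⟨x, hxy⟩ := y.2.1
  have hxT' : (x : Ω) ∈ T := hxT x (by rw [hxy]; exact y.2.2)
  have hξT : ξ ⟨φ₀ ⟨x, x.2, hxT'⟩, ⟨_, rfl⟩⟩ ∈ T := by
    rw [hξe]; exact hxT'
  have hκy : ((κ ⟨φ₀ ⟨x, x.2, hxT'⟩, hφ₀T _⟩ : T) : Ω) = (y : Ω) := by
    rw [← hφe ⟨x, x.2, hxT'⟩ (hφ₀T _)]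
    exact hxy
  have hmem : ((κ ⟨φ₀ ⟨x, x.2, hxT'⟩, hφ₀T _⟩ : T) : Ω) ∈ φ.range ⊓ T := by
    rw [hκy]; exact y.2
  have h1 := hχe ⟨φ₀ ⟨x, x.2, hxT'⟩, ⟨_, rfl⟩⟩ hξT hmem
  have e1 : y = ⟨((κ ⟨φ₀ ⟨x, x.2, hxT'⟩, hφ₀T _⟩ : T) : Ω), hmem⟩ := Subtype.ext hκy.symm
  have e2 : (⟨ξ ⟨φ₀ ⟨x, x.2, hxT'⟩, ⟨_, rfl⟩⟩, hξT⟩ : T) = ⟨x, hxT'⟩ := Subtype.ext (hξe _)
  have e3 : χ y = ((κ ⟨x, hxT'⟩ : T) : Ω) := by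
    rw [← e2, ← h1]
    congr 1
  have e4 : (⟨χ y, hy⟩ : T) = κ ⟨x, hxT'⟩ := Subtype.ext e3
  rw [e4, MulAut.inv_apply_self]
  have e5 : (⟨(y : Ω), y.2.1⟩ : φ.range) = ⟨φ x, ⟨x, rfl⟩⟩ := Subtype.ext hxy.symm
  rw [e5, hψe]

/-- C1. The naive system is a fusion system. -/
def kerSys (h : Setup p F E K) : FusionSystem S where
  Hom := kerHom F E K
  le_of_mem := fun hφ => F.le_of_mem hφ.1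
  injective_of_mem := fun hφ => F.injective_of_mem hφ.1
  conj_mem := fun hP hg => h54_kerHom_conj h hP hg
  comp_mem := fun hφ hψ hPQ => h54_kerHom_comp h hφ hψ hPQ
  inv_mem := fun hφ => h54_kerHom_inv h hφ

end Cfsg.Agent.Lib.Helper88.Aov
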