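import Mathlib
import Cfsg.Prelude.Def_Transfer
import Cfsg.Agent.Lib.Helper54.CyclicDerived
import Cfsg.Agent.Lib.Helper35.PStabMain
import Cfsg.Agent.Lib.Helper35.NoSL
import Cfsg.Agent.Lib.Helper55.Cores
import Cfsg.Agent.Lib.Helper55.SolvCore
import Cfsg.Agent.Lib.Helper53.SolvPSolv
import Cfsg.Agent.Lib.Helper2.PGroup

set_option autoImplicit false
set_option linter.style.haveILetI false

/-!
# Odd order solvable groups whose Sylow `p`-subgroups have cyclic derived subgroup have
`p`-length one.
-/

namespace Cfsg.Agent.Lib.Helper54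

open scoped commutatorElement
open Cfsg.Agent.Lib.Helper55

universe u

/-- A normal `p`-subgroup lies in every Sylow `p`-subgroup. -/
theorem normal_pGroup_le_sylow'' {G : Type*} [Group G] [Finite G] {p : ℕ} [Fact p.Prime]
    (N : Subgroup G) [hN : N.Normal] (hp : IsPGroup p N) (P : Sylow p G) : N ≤ P := by
  obtain ⟨Q, hQ⟩ := hp.exists_le_sylow
  obtain ⟨g, hg⟩ := MulAction.exists_smul_eq G Q P
  intro x hx
  have h1 : g⁻¹ * x * g⁻¹⁻¹ ∈ N := hN.conj_mem x hx g⁻¹
  have h2 : g⁻¹ * x * g⁻¹⁻¹ ∈ (Q : Subgroup G) := hQ h1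
  rw [← hg, Sylow.coe_subgroup_smul, Subgroup.mem_pointwise_smul_iff_inv_smul_mem]
  simpa [MulAut.smul_def, MulAut.conj_apply] using h2

/-- cyclic derived subgroup passes to images of Sylow subgroups -/
theorem isCyclic_commutator_map {X Y : Type*} [Group X] [Group Y] (f : X →* Y) (S : Subgroup X)
    (hS : IsCyclic (commutator S)) : IsCyclic (commutator (S.map f)) := by
  have hsurj : Function.Surjective (f.subgroupMap S) := f.subgroupMap_surjective S
  have h1 : commutator (S.map f) = (commutator S).map (f.subgroupMap S) := by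
    rw [commutator_def, commutator_def, Subgroup.map_commutator,
      ← MonoidHom.range_eq_map, MonoidHom.range_eq_top.mpr hsurj]
  rw [h1]
  haveI := hS
  exact isCyclic_of_surjective ((f.subgroupMap S).subgroupMap (commutator S))
    ((f.subgroupMap S).subgroupMap_surjective _)

theorem card_quotient_lt {X : Type*} [Group X] [Finite X] (N : Subgroup X) [N.Normal]
    (hN : N ≠ ⊥) : Nat.card (X ⧸ N) < Nat.card X := by
  have h1 := Subgroup.card_eq_card_quotient_mul_card_subgroup N
  have h2 : 1 < Nat.card N := by
    rcases Nat.lt_or_ge 1 (Nat.card N) with h | h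
    · exact h
    · exfalso
      apply hN
      have : Nat.card N = 1 := le_antisymm h Nat.card_pos
      exact Subgroup.card_eq_one.mp this
  have h3 : 0 < Nat.card (X ⧸ N) := Nat.card_pos
  rw [h1]
  nlinarith

theorem odd_card_quotient {X : Type*} [Group X] [Finite X] (N : Subgroup X) [N.Normal]
    (hX : Odd (Nat.card X)) : Odd (Nat.card (X ⧸ N)) := by
  have h1 := Subgroup.card_eq_card_quotient_mul_card_subgroup N
  rw [h1] at hX
  exact (Nat.odd_mul.mp hX).1

/-- pulling back normality of the image of `S` in `X ⧸ N`. -/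
theorem normal_sup_of_map_normal {X : Type*} [Group X] (N : Subgroup X) [N.Normal]
    (S : Subgroup X) (h : (S.map (QuotientGroup.mk' N)).Normal) : (N ⊔ S).Normal := by
  have h1 : (S.map (QuotientGroup.mk' N)).comap (QuotientGroup.mk' N) = N ⊔ S := by
    rw [Subgroup.comap_map_eq, QuotientGroup.ker_mk', sup_comm]
  rw [← h1]
  exact h.comap _

theorem cyclic_derived_aux (p : ℕ) [hp : Fact p.Prime] (hp2 : p ≠ 2) :
    ∀ n : ℕ, ∀ (X : Type u) [Group X] [Finite X], Nat.card X = n → Group.IsSolvable X →
      Odd (Nat.card X) → ∀ S : Sylow p X, IsCyclic (commutator (S : Subgroup X)) →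
      (Cfsg.pPrimeCore p X ⊔ (S : Subgroup X)).Normal := by
  intro n
  induction n using Nat.strong_induction_on with
  | _ n ih =>
  intro X _ _ hcard hsol hodd S hS
  haveI := hsol
  by_cases hN : Cfsg.pPrimeCore p X = ⊥
  swap
  · -- Case A
    haveI hNn : (Cfsg.pPrimeCore p X).Normal := pPrimeCore_normal' p
    set N := Cfsg.pPrimeCore p X with hNdef
    have hlt : Nat.card (X ⧸ N) < n := hcard ▸ card_quotient_lt N hN
    have hsurj : Function.Surjective (QuotientGroup.mk' N) := QuotientGroup.mk'_surjective N
    have hsolq : Group.IsSolvable (X ⧸ N) := Group.isSolvable_of_surjective hsurj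
    have hcyc : IsCyclic (commutator ((S.mapSurjective hsurj : Sylow p (X ⧸ N)) :
        Subgroup (X ⧸ N))) := isCyclic_commutator_map (QuotientGroup.mk' N) (S : Subgroup X) hS
    have h1 := ih _ hlt (X ⧸ N) rfl hsolq (odd_card_quotient N hodd) (S.mapSurjective hsurj) hcyc
    rw [pPrimeCore_quotient_eq_bot, bot_sup_eq] at h1
    exact normal_sup_of_map_normal N (S : Subgroup X) h1
  · -- Case B
    rw [hN, bot_sup_eq]
    haveI hVn : (Cfsg.pCore p X).Normal := pCore_normal' p
    have hVp : IsPGroup p (Cfsg.pCore p X) := pCore_isPGroup p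
    have hCV := centralizer_pCore_le (G := X) p hN
    set V := Cfsg.pCore p X with hVdef
    have hVS : V ≤ (S : Subgroup X) := normal_pGroup_le_sylow'' V hVp S
    haveI hΦn : ((frattini V).map V.subtype).Normal := ConjAct.normal_of_characteristic_of_normal
    set Φ := (frattini V).map V.subtype with hΦdef
    have hΦV : Φ ≤ V := Subgroup.map_subtype_le _
    by_cases hΦ : Φ = ⊥
    swap
    · -- Case B1
      have hlt : Nat.card (X ⧸ Φ) < n := hcard ▸ card_quotient_lt Φ hΦ
      have hsurj : Function.Surjective (QuotientGroup.mk' Φ) := QuotientGroup.mk'_surjective Φ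
      have hsolq : Group.IsSolvable (X ⧸ Φ) := Group.isSolvable_of_surjective hsurj
      have hcyc : IsCyclic (commutator ((S.mapSurjective hsurj : Sylow p (X ⧸ Φ)) :
          Subgroup (X ⧸ Φ))) := isCyclic_commutator_map (QuotientGroup.mk' Φ) (S : Subgroup X) hS
      have h1 := ih _ hlt (X ⧸ Φ) rfl hsolq (odd_card_quotient Φ hodd) (S.mapSurjective hsurj) hcyc
      have hT : Cfsg.pPrimeCore p (X ⧸ Φ) = ⊥ := by
        have hTc : (Nat.card (Cfsg.pPrimeCore p (X ⧸ Φ))).Coprime p := pPrimeCore_card_coprime p
        haveI hTn : (Cfsg.pPrimeCore p (X ⧸ Φ)).Normal := pPrimeCore_normal' p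
        set T := Cfsg.pPrimeCore p (X ⧸ Φ) with hTdef
        set L := T.comap (QuotientGroup.mk' Φ) with hLdef
        haveI hLn : L.Normal := hTn.comap _
        -- `L ⊓ V ≤ Φ`
        have hLV : L ⊓ V ≤ Φ := by
          intro x hx
          obtain ⟨hxL, hxV⟩ := Subgroup.mem_inf.mp hx
          have h2 : (QuotientGroup.mk' Φ x) ∈ T := hxL
          obtain ⟨k, hk⟩ := hVp ⟨x, hxV⟩
          have h3 : (QuotientGroup.mk' Φ x) ^ (p ^ k) = 1 := by
            rw [← map_pow]
            have : x ^ p ^ k = 1 := by
              have := congrArg Subtype.val hk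
              simpa using this
            rw [this, map_one]
          have h4 : orderOf (QuotientGroup.mk' Φ x) ∣ p ^ k := orderOf_dvd_of_pow_eq_one h3
          have h5 : orderOf (QuotientGroup.mk' Φ x) ∣ Nat.card T := by
            have h6 : orderOf (⟨_, h2⟩ : T) ∣ Nat.card T := orderOf_dvd_natCard _
            rwa [← Subgroup.orderOf_coe] at h6
          have h7 : orderOf (QuotientGroup.mk' Φ x) = 1 := by
            have h8 : (Nat.card T).Coprime (p ^ k) := Nat.Coprime.pow_right k hTc
            exact Nat.eq_one_of_dvd_coprimes h8 h5 h4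
          have h9 : QuotientGroup.mk' Φ x = 1 := orderOf_eq_one_iff.mp h7
          rw [← QuotientGroup.ker_mk' Φ]
          exact h9
        -- `p'`-elements of `L` are trivial
        have hpe : ∀ t ∈ L, (orderOf t).Coprime p → t = 1 := by
          intro t htL htc
          have hA : Subgroup.zpowers t ≤ L := by
            rw [Subgroup.zpowers_le]; exact htL
          have hAN : Subgroup.zpowers t ≤ Subgroup.normalizer (V : Set X) := by
            rw [Subgroup.normalizer_eq_top]; exact le_top
          have hc : ⁅V, Subgroup.zpowers t⁆ ≤ Φ := by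
            refine le_trans ?_ hLV
            apply le_inf
            · calc ⁅V, Subgroup.zpowers t⁆ ≤ ⁅(⊤ : Subgroup X), L⁆ :=
                    Subgroup.commutator_mono le_top hA
                _ ≤ L := Subgroup.commutator_le_right _ _
            · exact Subgroup.commutator_le_left _ _
          have h2 := le_centralizer_of_commutator_le_frattini V hVp (Subgroup.zpowers t) hAN
            (by rw [Nat.card_zpowers]; exact htc) hc
          have h3 : t ∈ V := hCV (h2 (Subgroup.mem_zpowers t))
          obtain ⟨k, hk⟩ := hVp ⟨t, h3⟩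
          have h4 : t ^ p ^ k = 1 := by
            have := congrArg Subtype.val hk
            simpa using this
          have h5 : orderOf t ∣ p ^ k := orderOf_dvd_of_pow_eq_one h4
          have h6 : orderOf t = 1 :=
            Nat.eq_one_of_dvd_coprimes (Nat.Coprime.pow_right k htc) dvd_rfl h5
          exact orderOf_eq_one_iff.mp h6
        rw [eq_bot_iff]
        intro y hy
        obtain ⟨x, rfl⟩ := hsurj y
        have hxL : x ∈ L := hy
        obtain ⟨k, m, hm, hkm⟩ := Nat.exists_eq_pow_mul_and_not_dvd
          (orderOf_pos x).ne' p hp.out.ne_one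
        have hmc : m.Coprime p := ((Nat.Prime.coprime_iff_not_dvd hp.out).mpr hm).symm
        have h2 : (x ^ p ^ k) ^ m = 1 := by
          rw [← pow_mul, ← hkm, pow_orderOf_eq_one]
        have h3 : (orderOf (x ^ p ^ k)).Coprime p :=
          Nat.Coprime.coprime_dvd_left (orderOf_dvd_of_pow_eq_one h2) hmc
        have h4 : x ^ p ^ k = 1 := hpe _ (L.pow_mem hxL _) h3
        have h5 : (QuotientGroup.mk' Φ x) ^ (p ^ k) = 1 := by
          rw [← map_pow, h4, map_one]
        have h6 : orderOf (QuotientGroup.mk' Φ x) ∣ p ^ k := orderOf_dvd_of_pow_eq_one h5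
        have h7 : orderOf (QuotientGroup.mk' Φ x) ∣ Nat.card T := by
          have h8 : orderOf (⟨_, hy⟩ : T) ∣ Nat.card T := orderOf_dvd_natCard _
          rwa [← Subgroup.orderOf_coe] at h8
        have h9 : orderOf (QuotientGroup.mk' Φ x) = 1 :=
          Nat.eq_one_of_dvd_coprimes (Nat.Coprime.pow_right k hTc) h7 h6
        rw [Subgroup.mem_bot]
        exact orderOf_eq_one_iff.mp h9
      rw [hT, bot_sup_eq] at h1
      have h2 := normal_sup_of_map_normal Φ (S : Subgroup X) h1
      have h3 : Φ ⊔ (S : Subgroup X) = S := sup_eq_right.mpr (hΦV.trans hVS)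
      rwa [h3] at h2
    · -- Case B2
      have hfr : frattini V = ⊥ :=
        (Subgroup.map_eq_bot_iff_of_injective _ V.subtype_injective).mp hΦ
      have hexp : ∀ v ∈ V, v ^ p = 1 := by
        intro v hv
        have h1 := Cfsg.Agent.Lib.Helper2.pow_mem_frattini hVp ⟨v, hv⟩
        rw [hfr, Subgroup.mem_bot] at h1
        have := congrArg Subtype.val h1
        simpa using this
      have hPS : Cfsg.IsPSolvable p X := Cfsg.Agent.Lib.Helper53.isPSolvable_of_isSolvable p hsol
      have hNo : Cfsg.Agent.Lib.Helper35.NoSL p X := Cfsg.Agent.Lib.Helper35.noSL_of_odd hodd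
      have hSV : (S : Subgroup X) ≤ V := by
        intro a ha
        have hq : ∀ v ∈ V, ⁅a, ⁅a, v⁆⁆ = 1 := fun v hv =>
          quadratic_of_cyclic_commutator (S : Subgroup X) S.isPGroup' hS V hVS hexp a ha v hv
        obtain ⟨D, hDn, haD, hD⟩ :=
          Cfsg.Agent.Lib.Helper35.PStab.pstable_D hp2 hPS hNo V hVp a hq
        haveI := hDn
        have hDp : IsPGroup p D := by
          intro d
          obtain ⟨k₁, hk₁⟩ := hD d d.2
          have h1 : (d : X) ^ p ^ k₁ ∈ V := hCV hk₁
          obtain ⟨k₂, hk₂⟩ := hVp ⟨_, h1⟩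
          refine ⟨k₁ + k₂, ?_⟩
          apply Subtype.ext
          have := congrArg Subtype.val hk₂
          simp only [Subgroup.coe_pow, Subgroup.coe_one] at this ⊢
          rw [pow_add, pow_mul]
          exact this
        exact le_pCore p D hDp haD
      have : (S : Subgroup X) = V := le_antisymm hSV hVS
      rw [this]
      exact hVn

end Cfsg.Agent.Lib.Helper54
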