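import Cfsg.Agent.Lib.Helper72.E6gDefs
import Cfsg.Agent.Lib.Helper36.ChevTwPerf
import Cfsg.Agent.Lib.Helper40.C2gTorus
import Cfsg.Agent.Lib.Helper5.E6gTORCOMM

/-! # E6g mini-hive (S2406, owner helper72): leaf E6G-SEP (helper54)

`aE = hE z * x₄₆(1)` with commuting factors, `x₄₆(1) ^ |K| = x₄₆(0) = 1`, `hE z ^ |K| = hE z` (`z ^ |K| = z`). -/

set_option autoImplicit false

namespace Cfsg.Agent.Lib.Helper72.E6g

open Cfsg Cfsg.Lie Cfsg.Agent.Lib.Helper36 Cfsg.Agent.Lib.Helper40.C2g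

variable {K : Type*} [Field K]

theorem e6gsep_gc : gc chevE6 56 46 = 0 ∧ gc chevE6 36 46 = 0 := by decide +kernel

/-- `hE z` commutes with `x₄₆(t)` -/
theorem e6gsep_comm (q : ℕ) (z : K) (hz : z ≠ 0) (t : K) : Commute (hE K q z) (xe K 46 t) := by
  unfold hE he xe
  exact Commute.mul_left
    (hGL_commute_of_gc chevE6 hE6 K 56 46 (by decide) (by decide) e6gsep_gc.1 z hz t)
    (hGL_commute_of_gc chevE6 hE6 K 36 46 (by decide) (by decide) e6gsep_gc.2 (z ^ q) (pow_ne_zero _ hz) t)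

/-- E6G-SEP -/
theorem aE_pow_card [Fintype K] (q : ℕ) (z : K) (hz : z ≠ 0) :
    aE K q z ^ Fintype.card K = hE K q z := by
  have hzq : z ^ q ≠ 0 := pow_ne_zero _ hz
  unfold aE
  rw [(e6gsep_comm q z hz 1).mul_pow]
  have hx : xe K 46 1 ^ Fintype.card K = 1 := by
    unfold xe
    rw [xGL_pow', Nat.cast_card_eq_zero, zero_mul, xGL_zero']
  rw [hx, mul_one]
  unfold hE he
  rw [(hGL_commute chevE6 hE6 K 56 36 (by decide) (by decide) z (z ^ q) hz hzq).mul_pow,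
    hGL_pow' chevE6 hE6 K 56 (by decide) z hz, hGL_pow' chevE6 hE6 K 36 (by decide) (z ^ q) hzq,
    FiniteField.pow_card, FiniteField.pow_card]

end Cfsg.Agent.Lib.Helper72.E6g
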