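import Cfsg.Agent.Lib.Helper47.FLDefs
import Cfsg.Agent.Lib.Helper47.FrakLSL2

/-! # FL-SL2FREE `goodPair_SL2_free` (helper54, FL hive of helper47, S2863)

`P = stabVec e`; `w` with `dd e w = 1`, `g e = w`, `cj g P = stabVec w`; for `y = transv e k ≠ 1`
take `y' = transv w k⁻¹`; then `n = y y' y` maps `w` to `k • e`, so `cj n (stabVec w) = stabVec e`. -/

set_option autoImplicit false

namespace Cfsg.Agent.Lib.Helper47.FL

open Cfsg

section sl2
open Cfsg.Agent.Lib.Helper46.SL2
variable {F : Type*} [Field F]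

/-- `cj M (stabVec e) = stabVec (M e)` -/
theorem sl2free_cj_stabVec (M : SL F) (e : Fin 2 → F) : cj M (stabVec e) = stabVec (mv M e) := by
  ext x
  rw [mem_cj_iff]
  have h : M * (M⁻¹ * x * M) * M⁻¹ = x := by group
  constructor
  · intro hx
    have := (conj_mem_stabVec (e := e) (M := M) (A := M⁻¹ * x * M)).mpr hx
    rwa [h] at this
  · intro hx
    apply (conj_mem_stabVec (e := e) (M := M) (A := M⁻¹ * x * M)).mp
    rwa [h]

/-- the key computation: `y y' y` sends `w` to `k • e` -/
theorem sl2free_mv {e w : Fin 2 → F} (hd : dd e w = 1) {k : F} (hk : k ≠ 0) :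
    mv (transv e k * transv w k⁻¹ * transv e k) w = k • e := by
  have hwe : dd w e = -1 := by rw [dd_swap, hd]
  have h1 : mv (transv e k) w = w + k • e := by
    rw [mv_transv, hd, mul_one]
  have h2 : mv (transv w k⁻¹) (w + k • e) = k • e := by
    rw [mv_transv, dd_add, dd_self, dd_smul, hwe, zero_add]
    have h : k⁻¹ * (k * -1) = -1 := by
      rw [← mul_assoc, inv_mul_cancel₀ hk, one_mul]
    rw [h, neg_one_smul]
    abel
  have h3 : mv (transv e k) (k • e) = k • e := by
    rw [mv_smul, mem_stabVec.mp (transv_mem_stabVec e k)]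
  rw [mv_mul, mv_mul, h1, h2, h3]

end sl2

section sl2
open Cfsg.Agent.Lib.Helper46.SL2
variable {F : Type*} [Field F] [Fintype F] {p : ℕ} [Fact p.Prime]

/-- LEAF GP-SL2-FREE. -/
theorem goodPair_SL2_free {P : Subgroup (SL F)} (hP : IsPGroup p ↥P)
    (hcard : Nat.card ↥P = Fintype.card F) :
    ∀ y ∈ P, y ≠ 1 → ∃ g : SL F, cj g P ≠ P ∧ ∃ y' ∈ cj g P,
      ∃ n ∈ Subgroup.closure ({y, y'} : Set (SL F)), cj n (cj g P) = P := by
  obtain ⟨n, hn⟩ := IsPGroup.iff_card.mp hP
  have hF : Fintype.card F = p ^ n := by rw [← hcard, hn]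
  obtain ⟨e, he, hPe⟩ := exists_fixed_vector hF P hP
  have hPe' : P = stabVec e := by
    apply Subgroup.eq_of_le_of_card_ge hPe
    rw [card_stabVec he, hcard]
  intro y hy hy1
  rw [hPe'] at hy
  obtain ⟨k, rfl⟩ := eq_transv_of_mem_stabVec he hy
  have hk : k ≠ 0 := by
    rintro rfl
    exact hy1 (transv_zero e)
  obtain ⟨w, hw⟩ := exists_dd_eq_one he
  have hw0 : w ≠ 0 := by
    rintro rfl
    have : dd e (0 : Fin 2 → F) = 0 := by unfold dd; simp
    rw [this] at hw
    exact zero_ne_one hw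
  obtain ⟨g, hg⟩ := exists_mv_eq he hw0
  have hcjg : cj g P = stabVec w := by rw [hPe', sl2free_cj_stabVec, hg]
  refine ⟨g, ?_, transv w k⁻¹, ?_, transv e k * transv w k⁻¹ * transv e k, ?_, ?_⟩
  · intro h
    have h1 : transv e k ∈ stabVec w := by
      rw [← hcjg, h, hPe']; exact transv_mem_stabVec e k
    rw [mem_stabVec, mv_transv, hw, mul_one] at h1
    have h2 : k • e = 0 := by
      have := congrArg (fun z => z - w) h1
      simpa using this
    rcases smul_eq_zero.mp h2 with h3 | h3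
    · exact hk h3
    · exact he h3
  · rw [hcjg]; exact transv_mem_stabVec w k⁻¹
  · apply Subgroup.mul_mem
    · apply Subgroup.mul_mem
      · exact Subgroup.subset_closure (by simp)
      · exact Subgroup.subset_closure (by simp)
    · exact Subgroup.subset_closure (by simp)
  · rw [hcjg, sl2free_cj_stabVec, sl2free_mv hw hk, stabVec_smul hk, hPe']

end sl2

end Cfsg.Agent.Lib.Helper47.FL
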