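import Cfsg.Agent.Lib.Helper83.FpDefs

/-!
# Fp hive (S2276), leaf FP-B3b

`s = replicate μ l`, `μ l < m = p ^ a`, `m > 9`.  `d` = back(l) on `[0,l)` times rotation by
`r = μ - 1` of `[l, μ l)`.  `FixCard (c * d) = l - 1`, `z₁ = c d c⁻¹ d⁻¹` is the 5-cycle
`0 ↦ l ↦ μ l ↦ l + μ - 1 ↦ l - 1 ↦ 0`, `z₂ = c ^ j z₁ c ^ (-j)`.
-/

set_option autoImplicit false
set_option linter.unusedTactic false
set_option linter.unreachableTactic false

namespace Cfsg.Agent.Lib.Helper83.Fp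

open Equiv

/-! ## the maps on `ℕ` -/

/-- back(l) on `[0,l)`, rotation by `r` on `[l, l+N)` -/
def fpb3b_dN (l r N : ℕ) (x : ℕ) : ℕ :=
  if x < l then (if x = 0 then l - 1 else x - 1)
  else if x < l + N then (if x + r < l + N then x + r else x + r - N) else x

/-- the inverse map -/
def fpb3b_eN (l r N : ℕ) (x : ℕ) : ℕ :=
  if x < l then (if x + 1 = l then 0 else x + 1)
  else if x < l + N then (if l + r ≤ x then x - r else x + N - r) else x

/-- `x ↦ x + 1` on `Z_m` -/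
def fpb3b_cN (m : ℕ) (x : ℕ) : ℕ := if x + 1 = m then 0 else x + 1

/-- `x ↦ x - 1` on `Z_m` -/
def fpb3b_bN (m : ℕ) (x : ℕ) : ℕ := if x = 0 then m - 1 else x - 1

/-- the 5-cycle `0 ↦ l ↦ l+N ↦ l+r ↦ l-1 ↦ 0` -/
def fpb3b_tN (l r N : ℕ) (x : ℕ) : ℕ :=
  if x = 0 then l else if x = l then l + N else if x = l + N then l + r
  else if x = l + r then l - 1 else if x + 1 = l then 0 else x

theorem fpb3b_exists_perm (m : ℕ) (f g : ℕ → ℕ) (hf : ∀ x < m, f x < m) (hg : ∀ x < m, g x < m)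
    (hgf : ∀ x < m, g (f x) = x) (hfg : ∀ x < m, f (g x) = x) :
    ∃ d : Perm (Fin m), (∀ x, (d x).val = f x.val) ∧ (∀ x, (d⁻¹ x).val = g x.val) :=
  ⟨⟨fun x => ⟨f x.val, hf _ x.isLt⟩, fun x => ⟨g x.val, hg _ x.isLt⟩,
    fun x => Fin.ext (hgf _ x.isLt), fun x => Fin.ext (hfg _ x.isLt)⟩, fun _ => rfl, fun _ => rfl⟩

theorem fpb3b_c_val (m : ℕ) (x : Fin m) : (finRotate m x).val = fpb3b_cN m x.val := by
  cases m with
  | zero => exact x.elim0
  | succ k =>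
    rw [coe_finRotate]
    unfold fpb3b_cN
    by_cases h : x = Fin.last k
    · subst h; simp
    · have h' : x.val ≠ k := fun h' => h (Fin.ext h')
      rw [if_neg h, if_neg (by omega)]

theorem fpb3b_cinv_val (m : ℕ) (x : Fin m) : ((finRotate m)⁻¹ x).val = fpb3b_bN m x.val := by
  have h := fpb3b_c_val m ((finRotate m)⁻¹ x)
  have hx : finRotate m ((finRotate m)⁻¹ x) = x := Equiv.apply_symm_apply _ _
  rw [hx] at h
  have h2 := ((finRotate m)⁻¹ x).isLt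
  have h3 := x.isLt
  unfold fpb3b_cN at h
  unfold fpb3b_bN
  split_ifs at h ⊢ <;> omega

theorem fpb3b_cpow_val (m j : ℕ) (hj : j ≤ m) (x : Fin m) :
    ((finRotate m ^ j) x).val = if x.val + j < m then x.val + j else x.val + j - m := by
  induction j with
  | zero => simp [x.isLt]
  | succ j ih =>
    rw [pow_succ', Perm.mul_apply, fpb3b_c_val, ih (by omega)]
    have := x.isLt
    unfold fpb3b_cN
    split_ifs <;> omega

theorem fpb3b_cpowinv_val (m j : ℕ) (hj : j ≤ m) (x : Fin m) :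
    (((finRotate m ^ j))⁻¹ x).val = if j ≤ x.val then x.val - j else x.val + m - j := by
  have h := fpb3b_cpow_val m j hj ((finRotate m ^ j)⁻¹ x)
  have hx : (finRotate m ^ j) ((finRotate m ^ j)⁻¹ x) = x := Equiv.apply_symm_apply _ _
  rw [hx] at h
  have h2 := ((finRotate m ^ j)⁻¹ x).isLt
  have h3 := x.isLt
  split_ifs at h ⊢ <;> omega

/-! ## a general cycle type criterion -/

theorem fpb3b_cycleType_all_eq {α : Type*} [Fintype α] [DecidableEq α] (σ : Perm α) (l : ℕ)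
    (h : ∀ x ∈ σ.support, ∀ k : ℕ, (σ ^ k) x = x ↔ l ∣ k) : ∀ n ∈ σ.cycleType, n = l := by
  intro n hn
  rw [Equiv.Perm.cycleType_def, Multiset.mem_map] at hn
  obtain ⟨c, hc, rfl⟩ := hn
  have hc' : c ∈ σ.cycleFactorsFinset := hc
  have hcyc : c.IsCycle := (Equiv.Perm.mem_cycleFactorsFinset_iff.1 hc').1
  obtain ⟨x, hx⟩ := hcyc.nonempty_support
  have hcx : c = σ.cycleOf x := Equiv.Perm.cycle_is_cycleOf hx hc'
  have hxσ : x ∈ σ.support := Equiv.Perm.mem_cycleFactorsFinset_support_le hc' hx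
  have key : ∀ k : ℕ, c ^ k = 1 ↔ l ∣ k := by
    intro k
    rw [hcyc.pow_eq_one_iff' (Equiv.Perm.mem_support.1 hx), hcx,
      Equiv.Perm.cycleOf_pow_apply_self, h x hxσ]
  simp only [Function.comp_apply]
  rw [← hcyc.orderOf]
  apply Nat.dvd_antisymm
  · rw [orderOf_dvd_iff_pow_eq_one, key]
  · rw [← key, pow_orderOf_eq_one]

theorem fpb3b_cycleType_replicate {α : Type*} [Fintype α] [DecidableEq α] (σ : Perm α) (l μ : ℕ)
    (hl : 0 < l) (h : ∀ x ∈ σ.support, ∀ k : ℕ, (σ ^ k) x = x ↔ l ∣ k)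
    (hcard : σ.support.card = μ * l) : σ.cycleType = Multiset.replicate μ l := by
  have hall := fpb3b_cycleType_all_eq σ l h
  have h1 : σ.cycleType = Multiset.replicate (Multiset.card σ.cycleType) l :=
    Multiset.eq_replicate_card.2 hall
  have h2 : σ.cycleType.sum = μ * l := by rw [Equiv.Perm.sum_cycleType, hcard]
  rw [h1, Multiset.sum_replicate, smul_eq_mul] at h2
  have h3 : Multiset.card σ.cycleType = μ := Nat.eq_of_mul_eq_mul_right hl h2
  rw [h1, h3]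

/-! ## arithmetic of the maps -/

theorem fpb3b_dN_lt (m l r N : ℕ) (hl : 3 ≤ l) (hr : r ≤ N) (hm : l + N < m) :
    ∀ x < m, fpb3b_dN l r N x < m := by
  intro x hx
  unfold fpb3b_dN
  split_ifs <;> first | omega | (exfalso; assumption)

theorem fpb3b_eN_lt (m l r N : ℕ) (hl : 3 ≤ l) (hr : r ≤ N) (hm : l + N < m) :
    ∀ x < m, fpb3b_eN l r N x < m := by
  intro x hx
  unfold fpb3b_eN
  split_ifs <;> first | omega | (exfalso; assumption)

theorem fpb3b_eN_dN (l r N : ℕ) (hl : 3 ≤ l) (hr : r ≤ N) :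
    ∀ x, fpb3b_eN l r N (fpb3b_dN l r N x) = x := by
  intro x
  unfold fpb3b_eN fpb3b_dN
  split_ifs <;> first | omega | (exfalso; assumption)

theorem fpb3b_dN_eN (l r N : ℕ) (hl : 3 ≤ l) (hr : r ≤ N) :
    ∀ x, fpb3b_dN l r N (fpb3b_eN l r N x) = x := by
  intro x
  unfold fpb3b_eN fpb3b_dN
  split_ifs <;> first | omega | (exfalso; assumption)

/-- `c * d` -/
def fpb3b_vN (m l r N : ℕ) (y : ℕ) : ℕ :=
  if y < l then (if y = 0 then l else y)
  else if y < l + N then (if y + r < l + N then y + r + 1 else y + r + 1 - N)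
  else (if y + 1 = m then 0 else y + 1)

/-- `c⁻¹ * d⁻¹` -/
def fpb3b_uN (m l r N : ℕ) (x : ℕ) : ℕ :=
  if x < l then (if x + 1 = l then m - 1 else x)
  else if x < l + N then (if l + r ≤ x then x - r - 1 else x + N - r - 1) else x - 1

theorem fpb3b_cd_eq (m l r N : ℕ) (hl : 3 ≤ l) (hr : 1 ≤ r) (hN3 : 3 * r ≤ N) (hm : l + N < m) :
    ∀ y < m, fpb3b_cN m (fpb3b_dN l r N y) = fpb3b_vN m l r N y := by
  intro y hy
  unfold fpb3b_cN fpb3b_dN fpb3b_vN
  split_ifs <;> first | omega | (exfalso; assumption)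

theorem fpb3b_be_eq (m l r N : ℕ) (hl : 3 ≤ l) (hr : 1 ≤ r) (hN3 : 3 * r ≤ N) (hm : l + N < m) :
    ∀ x < m, fpb3b_bN m (fpb3b_eN l r N x) = fpb3b_uN m l r N x := by
  intro x hx
  unfold fpb3b_bN fpb3b_eN fpb3b_uN
  split_ifs <;> first | omega | (exfalso; assumption)

theorem fpb3b_uN_lt (m l r N : ℕ) (hl : 3 ≤ l) (hr : 1 ≤ r) (hN3 : 3 * r ≤ N) (hm : l + N < m) :
    ∀ x < m, fpb3b_uN m l r N x < m := by
  intro x hx
  unfold fpb3b_uN
  split_ifs <;> first | omega | (exfalso; assumption)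

theorem fpb3b_vu_eq (m l r N : ℕ) (hl : 3 ≤ l) (hr : 1 ≤ r) (hN3 : 3 * r ≤ N) (hm : l + N < m) :
    ∀ x < m, fpb3b_vN m l r N (fpb3b_uN m l r N x) = fpb3b_tN l r N x := by
  intro x hx
  unfold fpb3b_vN fpb3b_uN fpb3b_tN
  split_ifs <;> first | omega | (exfalso; assumption)

/-- fixed points of `c * d` -/
theorem fpb3b_fix_iff (m l r N : ℕ) (hl : 3 ≤ l) (hr : 1 ≤ r) (hN3 : 3 * r ≤ N) (hm : l + N < m) :
    ∀ x < m, fpb3b_vN m l r N x = x ↔ 1 ≤ x ∧ x < l := by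
  intro x hx
  unfold fpb3b_vN
  split_ifs <;> first | omega | (exfalso; assumption)

/-! ## orbits of the rotation blocks -/

theorem fpb3b_rot_mod (s M ρ y : ℕ) (hρ : ρ ≤ M) (hy : s ≤ y) (hy' : y < s + M) :
    (if y + ρ < s + M then y + ρ else y + ρ - M) = s + (y - s + ρ) % M := by
  split_ifs with h
  · rw [Nat.mod_eq_of_lt (by omega)]; omega
  · rw [Nat.mod_eq_sub_mod (by omega), Nat.mod_eq_of_lt (by omega)]; omega

theorem fpb3b_iter (s M ρ : ℕ) (f : ℕ → ℕ) (hM : 0 < M)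
    (hf : ∀ y, s ≤ y → y < s + M → f y = s + (y - s + ρ) % M) :
    ∀ k y, s ≤ y → y < s + M → f^[k] y = s + (y - s + k * ρ) % M := by
  intro k
  induction k with
  | zero =>
    intro y h1 h2
    rw [Function.iterate_zero, id, Nat.zero_mul, Nat.add_zero, Nat.mod_eq_of_lt (by omega)]
    omega
  | succ k ih =>
    intro y h1 h2
    have hlt := Nat.mod_lt (y - s + k * ρ) hM
    rw [Function.iterate_succ_apply', ih y h1 h2, hf _ (by omega) (by omega)]
    congr 1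
    rw [Nat.add_sub_cancel_left, Nat.mod_add_mod]
    congr 1
    ring

theorem fpb3b_iter_fix (s M ρ k y : ℕ) (h1 : s ≤ y) (h2 : y < s + M) :
    s + (y - s + k * ρ) % M = y ↔ M ∣ k * ρ := by
  constructor
  · intro h
    have h3 : (y - s + k * ρ) % M = (y - s + 0) % M := by
      rw [Nat.add_zero, Nat.mod_eq_of_lt (a := y - s) (by omega)]; omega
    exact (Nat.modEq_zero_iff_dvd).1 (Nat.ModEq.add_left_cancel' (y - s) h3)
  · rintro ⟨t, ht⟩
    rw [ht, Nat.add_mul_mod_self_left, Nat.mod_eq_of_lt (by omega)]; omega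

theorem fpb3b_block1 (l r N : ℕ) (hl : 3 ≤ l) :
    ∀ y, 0 ≤ y → y < 0 + l → fpb3b_dN l r N y = 0 + (y - 0 + (l - 1)) % l := by
  intro y h1 h2
  rw [← fpb3b_rot_mod 0 l (l - 1) y (by omega) h1 h2]
  unfold fpb3b_dN
  split_ifs <;> first | omega | (exfalso; assumption)

theorem fpb3b_block2 (l r N : ℕ) (hr : r ≤ N) :
    ∀ y, l ≤ y → y < l + N → fpb3b_dN l r N y = l + (y - l + r) % N := by
  intro y h1 h2
  rw [← fpb3b_rot_mod l N r y hr h1 h2]
  unfold fpb3b_dN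
  split_ifs <;> first | omega | (exfalso; assumption)

theorem fpb3b_orbit (l r : ℕ) (hl : 3 ≤ l) (hr : 1 ≤ r) (x : ℕ) (hx : x < l + r * l) (k : ℕ) :
    (fpb3b_dN l r (r * l))^[k] x = x ↔ l ∣ k := by
  have hrN : r ≤ r * l := by nlinarith
  by_cases h : x < l
  · rw [fpb3b_iter 0 l (l - 1) _ (by omega) (fpb3b_block1 l r (r * l) hl) k x (Nat.zero_le _)
      (by omega), fpb3b_iter_fix 0 l (l - 1) k x (Nat.zero_le _) (by omega)]
    have hcop : Nat.Coprime l (l - 1) := by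
      rw [Nat.coprime_self_sub_right (by omega : 1 ≤ l)]
      exact Nat.coprime_one_right l
    exact hcop.dvd_mul_right
  · have hNpos : 0 < r * l := by nlinarith
    rw [fpb3b_iter l (r * l) r _ hNpos (fpb3b_block2 l r (r * l) hrN) k x (by omega) hx,
      fpb3b_iter_fix l (r * l) r k x (by omega) hx, mul_comm k r]
    exact Nat.mul_dvd_mul_iff_left hr

/-! ## the permutation `d` -/

section perm

variable {m l r N : ℕ} (d : Perm (Fin m))

theorem fpb3b_pow_val (hd : ∀ x, (d x).val = fpb3b_dN l r N x.val) (k : ℕ) (x : Fin m) :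
    ((d ^ k) x).val = (fpb3b_dN l r N)^[k] x.val := by
  induction k with
  | zero => rfl
  | succ k ih => rw [pow_succ', Perm.mul_apply, hd, ih, Function.iterate_succ_apply']

theorem fpb3b_mem_support (hl : 3 ≤ l) (hr : 1 ≤ r) (hN3 : 3 * r ≤ N)
    (hd : ∀ x, (d x).val = fpb3b_dN l r N x.val) (x : Fin m) :
    x ∈ d.support ↔ x.val < l + N := by
  rw [Perm.mem_support, Ne, Fin.ext_iff, hd]
  unfold fpb3b_dN
  split_ifs <;> first | omega | (exfalso; assumption)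

theorem fpb3b_cycleType (hl : 3 ≤ l) (hr : 1 ≤ r) (hm : l + r * l < m)
    (hd : ∀ x, (d x).val = fpb3b_dN l r (r * l) x.val) :
    d.cycleType = Multiset.replicate (r + 1) l := by
  have hN3 : 3 * r ≤ r * l := by nlinarith
  apply fpb3b_cycleType_replicate d l (r + 1) (by omega)
  · intro x hx k
    rw [fpb3b_mem_support d hl hr hN3 hd] at hx
    rw [Fin.ext_iff, fpb3b_pow_val d hd]
    exact fpb3b_orbit l r hl hr x.val hx k
  · have hs : d.support = Finset.univ.filter (fun x : Fin m => x.val < l + r * l) := by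
      ext x
      rw [fpb3b_mem_support d hl hr hN3 hd]
      simp
    rw [hs, Fin.card_filter_val_lt, Nat.succ_mul]
    omega

theorem fpb3b_cd_val (hl : 3 ≤ l) (hr : 1 ≤ r) (hN3 : 3 * r ≤ N) (hm : l + N < m)
    (hd : ∀ x, (d x).val = fpb3b_dN l r N x.val) (x : Fin m) :
    ((finRotate m * d) x).val = fpb3b_vN m l r N x.val := by
  rw [Perm.mul_apply, fpb3b_c_val, hd, fpb3b_cd_eq m l r N hl hr hN3 hm _ x.isLt]

theorem fpb3b_z_val (hl : 3 ≤ l) (hr : 1 ≤ r) (hN3 : 3 * r ≤ N) (hm : l + N < m)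
    (hd : ∀ x, (d x).val = fpb3b_dN l r N x.val) (hd' : ∀ x, (d⁻¹ x).val = fpb3b_eN l r N x.val)
    (x : Fin m) :
    ((finRotate m * d * (finRotate m)⁻¹ * d⁻¹) x).val = fpb3b_tN l r N x.val := by
  rw [Perm.mul_apply, Perm.mul_apply, Perm.mul_apply, fpb3b_c_val, hd, fpb3b_cinv_val, hd',
    fpb3b_be_eq m l r N hl hr hN3 hm _ x.isLt,
    fpb3b_cd_eq m l r N hl hr hN3 hm _ (fpb3b_uN_lt m l r N hl hr hN3 hm _ x.isLt),
    fpb3b_vu_eq m l r N hl hr hN3 hm _ x.isLt]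

theorem fpb3b_fixCard (hl : 3 ≤ l) (hr : 1 ≤ r) (hN3 : 3 * r ≤ N) (hm : l + N < m)
    (hd : ∀ x, (d x).val = fpb3b_dN l r N x.val) :
    FixCard (finRotate m * d) = l - 1 := by
  unfold FixCard
  have h1 : (Finset.univ.filter fun x : Fin m => (finRotate m * d) x = x) =
      (Finset.univ.filter fun x : Fin m => 1 ≤ x.val ∧ x.val < l) := by
    apply Finset.filter_congr
    intro x _
    rw [Fin.ext_iff, fpb3b_cd_val d hl hr hN3 hm hd, fpb3b_fix_iff m l r N hl hr hN3 hm _ x.isLt]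
  rw [h1, ← Finset.card_map Fin.valEmbedding]
  have h2 : (Finset.univ.filter fun x : Fin m => 1 ≤ x.val ∧ x.val < l).map Fin.valEmbedding =
      Finset.Ico 1 l := by
    ext y
    simp only [Finset.mem_map, Finset.mem_filter, Finset.mem_univ, true_and,
      Fin.valEmbedding_apply, Finset.mem_Ico]
    constructor
    · rintro ⟨x, hx, rfl⟩
      exact hx
    · intro hy
      exact ⟨⟨y, by omega⟩, hy, rfl⟩
  rw [h2, Nat.card_Ico]

end perm

theorem fpb3b_tN_ne_iff (l r N : ℕ) (hl : 3 ≤ l) (hr : 1 ≤ r) (hN3 : 3 * r ≤ N) (x : ℕ) :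
    fpb3b_tN l r N x ≠ x ↔ (x = 0 ∨ x = l ∨ x = l + N ∨ x = l + r ∨ x + 1 = l) := by
  unfold fpb3b_tN
  split_ifs <;> first | omega | (exfalso; assumption)

theorem fpb3b_inter (m l r N j qN x : ℕ) (hl : 3 ≤ l) (hr : 1 ≤ r) (hN3 : 3 * r ≤ N)
    (hN1 : r = 1 → N = l) (hm : l + N + 3 ≤ m) (hx : x < m)
    (hcase : (j = 1 ∧ qN = l ∧ 2 ≤ r) ∨
        (j = 2 ∧ qN = l + 1 ∧ r = 1 ∧ 4 ≤ l) ∨ (j = 6 ∧ qN = 6 ∧ r = 1 ∧ l = 3 ∧ 27 ≤ m)) :
    (fpb3b_tN l r N x ≠ x ∧ fpb3b_tN l r N (if j ≤ x then x - j else x + m - j) ≠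
      (if j ≤ x then x - j else x + m - j)) ↔ x = qN := by
  rw [fpb3b_tN_ne_iff l r N hl hr hN3, fpb3b_tN_ne_iff l r N hl hr hN3]
  rcases hcase with ⟨rfl, rfl, h2r⟩ | ⟨rfl, rfl, hr1, hl4⟩ | ⟨rfl, rfl, hr1, hl3, hm27⟩
  · split_ifs <;> omega
  · have := hN1 hr1
    split_ifs <;> omega
  · have := hN1 hr1
    split_ifs <;> omega

/-! ## the overlap certificate -/

theorem fpb3b_certO_core (p : ℕ) {m l r N : ℕ} (hl : 3 ≤ l) (hr : 1 ≤ r) (hN3 : 3 * r ≤ N)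
    (hN1 : r = 1 → N = l) (hm : l + N + 3 ≤ m) (hm9 : 9 < m)
    (hnc : 3 * (l - 1) ≠ m ∧ 3 * (l - 1) ≠ 2 * m) (h27 : r = 1 → l = 3 → 27 ≤ m)
    (hpl : ¬ p ∣ l - 1) (d : Perm (Fin m))
    (hd : ∀ x, (d x).val = fpb3b_dN l r N x.val) (hd' : ∀ x, (d⁻¹ x).val = fpb3b_eN l r N x.val) :
    CertO p d := by
  have hm' : l + N < m := by omega
  refine ⟨?_, ?_⟩
  · unfold FixOK
    rw [fpb3b_fixCard d hl hr hN3 hm' hd]
    exact hpl
  · have hc : finRotate m ∈ Hcd d := Subgroup.subset_closure (Set.mem_insert _ _)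
    have hdm : d ∈ Hcd d := Subgroup.subset_closure (Set.mem_insert_of_mem _ rfl)
    have hz₁ : finRotate m * d * (finRotate m)⁻¹ * d⁻¹ ∈ Hcd d :=
      (Hcd d).mul_mem ((Hcd d).mul_mem ((Hcd d).mul_mem hc hdm) ((Hcd d).inv_mem hc))
        ((Hcd d).inv_mem hdm)
    have hzv := fpb3b_z_val d hl hr hN3 hm' hd hd'
    obtain ⟨j, qN, hcase⟩ : ∃ j qN : ℕ, (j = 1 ∧ qN = l ∧ 2 ≤ r) ∨
        (j = 2 ∧ qN = l + 1 ∧ r = 1 ∧ 4 ≤ l) ∨ (j = 6 ∧ qN = 6 ∧ r = 1 ∧ l = 3 ∧ 27 ≤ m) := by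
      by_cases h2 : 2 ≤ r
      · exact ⟨1, l, Or.inl ⟨rfl, rfl, h2⟩⟩
      · have hr1 : r = 1 := by omega
        by_cases h3 : l = 3
        · exact ⟨6, 6, Or.inr (Or.inr ⟨rfl, rfl, hr1, h3, h27 hr1 h3⟩)⟩
        · exact ⟨2, l + 1, Or.inr (Or.inl ⟨rfl, rfl, hr1, by omega⟩)⟩
    have hjm : j ≤ m := by omega
    have hqm : qN < m := by
      have := hN1
      omega
    set z₁ := finRotate m * d * (finRotate m)⁻¹ * d⁻¹ with hz₁def
    refine ⟨z₁, hz₁, finRotate m ^ j * z₁ * (finRotate m ^ j)⁻¹,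
      (Hcd d).mul_mem ((Hcd d).mul_mem ((Hcd d).pow_mem hc j) hz₁)
        ((Hcd d).inv_mem ((Hcd d).pow_mem hc j)), ⟨qN, hqm⟩, ?_, ?_⟩
    · ext x
      simp only [Finset.mem_inter, Perm.mem_support, Finset.mem_singleton]
      have h1 : z₁ x ≠ x ↔ fpb3b_tN l r N x.val ≠ x.val := by
        rw [Ne, Fin.ext_iff, hzv]
      have h2 : (finRotate m ^ j * z₁ * (finRotate m ^ j)⁻¹) x ≠ x ↔
          fpb3b_tN l r N ((finRotate m ^ j)⁻¹ x).val ≠ ((finRotate m ^ j)⁻¹ x).val := by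
        rw [Perm.mul_apply, Perm.mul_apply, Ne, ← Perm.eq_inv_iff_eq, Fin.ext_iff, hzv]
      rw [h1, h2, fpb3b_cpowinv_val m j hjm x, Fin.ext_iff]
      exact fpb3b_inter m l r N j qN x.val hl hr hN3 hN1 hm x.isLt hcase
    · have e0 := hzv ⟨qN, hqm⟩
      have e1 := fpb3b_cpowinv_val m j hjm ⟨qN, hqm⟩
      have e2 := hzv ((finRotate m ^ j)⁻¹ ⟨qN, hqm⟩)
      have e3 := fpb3b_cpow_val m j hjm (z₁ ((finRotate m ^ j)⁻¹ ⟨qN, hqm⟩))
      have e4 : (finRotate m ^ j * z₁ * (finRotate m ^ j)⁻¹) ⟨qN, hqm⟩ =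
          (finRotate m ^ j) (z₁ ((finRotate m ^ j)⁻¹ ⟨qN, hqm⟩)) := rfl
      rw [← e4] at e3
      have := hN1
      simp only [] at e0 e1
      unfold NonCosetSet
      rcases hcase with ⟨hj, hq, h2r⟩ | ⟨hj, hq, hr1, hl4⟩ | ⟨hj, hq, hr1, hl3, hm27⟩
      · -- pair (z₂ q, q) = (1, l)
        refine ⟨(finRotate m ^ j * z₁ * (finRotate m ^ j)⁻¹) ⟨qN, hqm⟩, by simp, ⟨qN, hqm⟩, by simp,
          ?_⟩
        have e1' : ((finRotate m ^ j)⁻¹ ⟨qN, hqm⟩).val = l - 1 := by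
          rw [e1]; split_ifs <;> omega
        have e2' : (z₁ ((finRotate m ^ j)⁻¹ ⟨qN, hqm⟩)).val = 0 := by
          rw [e2, e1']; unfold fpb3b_tN; split_ifs <;> first | omega | (exfalso; assumption)
        have e3' : ((finRotate m ^ j * z₁ * (finRotate m ^ j)⁻¹) ⟨qN, hqm⟩).val = 1 := by
          rw [e3, e2']; split_ifs <;> omega
        rw [e3']
        show 1 < qN ∧ 3 * (qN - 1) ≠ m ∧ 3 * (qN - 1) ≠ 2 * m
        subst hq
        exact ⟨by omega, hnc.1, hnc.2⟩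
      · -- pair (z₁ q, q) = (l - 1, l + 1)
        refine ⟨z₁ ⟨qN, hqm⟩, by simp, ⟨qN, hqm⟩, by simp, ?_⟩
        have e0' : (z₁ ⟨qN, hqm⟩).val = l - 1 := by
          rw [e0]; unfold fpb3b_tN; split_ifs <;> first | omega | (exfalso; assumption)
        rw [e0']
        show l - 1 < qN ∧ 3 * (qN - (l - 1)) ≠ m ∧ 3 * (qN - (l - 1)) ≠ 2 * m
        omega
      · -- pair (z₁ q, q) = (4, 6)
        refine ⟨z₁ ⟨qN, hqm⟩, by simp, ⟨qN, hqm⟩, by simp, ?_⟩
        have e0' : (z₁ ⟨qN, hqm⟩).val = 4 := by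
          rw [e0]; unfold fpb3b_tN; split_ifs <;> first | omega | (exfalso; assumption)
        rw [e0']
        show 4 < qN ∧ 3 * (qN - 4) ≠ m ∧ 3 * (qN - 4) ≠ 2 * m
        omega

/-! ## the leaf -/

/-- FP-B3b (s = replicate μ l, μ l < m = p^a, m > 9). -/
theorem b3b : B3bStmt := by
  intro p hp hp3 a m hm hm9 i l μ hi hl hμ hlt
  obtain ⟨r, rfl⟩ : ∃ r, μ = r + 1 := ⟨μ - 1, by omega⟩
  have hr : 1 ≤ r := by omega
  have hi0 : i ≠ 0 := by omega
  have hpl : p ∣ l := by rw [hl]; exact dvd_pow_self p hi0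
  have hl3 : 3 ≤ l := by
    calc 3 ≤ p := hp3
      _ = p ^ 1 := (pow_one p).symm
      _ ≤ p ^ i := Nat.pow_le_pow_right hp.pos hi
      _ = l := hl.symm
  have ha0 : a ≠ 0 := by
    rintro rfl
    rw [pow_zero] at hm
    omega
  have hpm : p ∣ m := by rw [hm]; exact dvd_pow_self p ha0
  have hL : (r + 1) * l = l + r * l := by rw [Nat.succ_mul]; omega
  have hgap : l + r * l + 3 ≤ m := by
    have h1 : p ∣ m - (r + 1) * l := Nat.dvd_sub hpm (Dvd.dvd.mul_left hpl _)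
    have h2 : p ≤ m - (r + 1) * l := Nat.le_of_dvd (by omega) h1
    omega
  have hN3 : 3 * r ≤ r * l := by nlinarith
  have hN1 : r = 1 → r * l = l := by rintro rfl; exact one_mul l
  have hpl1 : ¬ p ∣ l - 1 := by
    intro h
    have h1 : p ∣ l - (l - 1) := Nat.dvd_sub hpl h
    have h2 : l - (l - 1) = 1 := by omega
    rw [h2] at h1
    exact hp.one_lt.ne' (Nat.dvd_one.1 h1)
  -- if `p = 3` then `27 ∣ m`
  have h27 : p = 3 → 27 ∣ m := by
    rintro rfl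
    have ha3 : 3 ≤ a := by
      by_contra hcon
      have : a ≤ 2 := by omega
      have : 3 ^ a ≤ 3 ^ 2 := Nat.pow_le_pow_right (by norm_num) this
      omega
    rw [hm]
    exact pow_dvd_pow 3 ha3
  have hnc : 3 * (l - 1) ≠ m ∧ 3 * (l - 1) ≠ 2 * m := by
    have key : ∀ c : ℕ, 3 * (l - 1) = c * m → False := by
      intro c hc
      have h1 : p ∣ 3 * l - 3 * (l - 1) :=
        Nat.dvd_sub (Dvd.dvd.mul_left hpl _) (hc ▸ Dvd.dvd.mul_left hpm _)
      have h2 : 3 * l - 3 * (l - 1) = 3 := by omega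
      rw [h2] at h1
      have hp3' : p = 3 := by
        have := Nat.le_of_dvd (by norm_num) h1
        omega
      obtain ⟨m', hm'⟩ := h27 hp3'
      subst hp3'
      obtain ⟨l', hl'⟩ := hpl
      have : 3 * (l - 1) = 27 * (c * m') := by rw [hc, hm']; ring
      omega
    exact ⟨fun h => key 1 (by rw [h, one_mul]), fun h => key 2 h⟩
  have h27' : r = 1 → l = 3 → 27 ≤ m := by
    intro _ hl3'
    have hp3' : p = 3 := by
      rw [hl3'] at hpl
      have := Nat.le_of_dvd (by norm_num) hpl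
      omega
    exact Nat.le_of_dvd (by omega) (h27 hp3')
  obtain ⟨d, hd, hd'⟩ := fpb3b_exists_perm m (fpb3b_dN l r (r * l)) (fpb3b_eN l r (r * l))
    (fpb3b_dN_lt m l r (r * l) hl3 (by omega) (by omega))
    (fpb3b_eN_lt m l r (r * l) hl3 (by omega) (by omega))
    (fun x _ => fpb3b_eN_dN l r (r * l) hl3 (by omega) x)
    (fun x _ => fpb3b_dN_eN l r (r * l) hl3 (by omega) x)
  exact ⟨d, fpb3b_cycleType d hl3 hr (by omega) hd,
    fpb3b_certO_core p hl3 hr hN3 hN1 hgap hm9 hnc h27' hpl1 d hd hd'⟩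

end Cfsg.Agent.Lib.Helper83.Fp
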