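import Cfsg.Agent.Lib.Helper83.FpDefs

/-!
# Fp hive (S2276), glue leaf FP-CG: certificates give `Good`
-/

set_option autoImplicit false

namespace Cfsg.Agent.Lib.Helper83.Fp

open Equiv

/-- glue FP-CG -/
theorem cert_good_of : FixStmt → A5Stmt → CertGoodStmt := by
  intro hF hA p hp m hpm d hc
  exact ⟨hF p hp m hpm _ hc.1, hA m (Hcd d) hc.2⟩

end Cfsg.Agent.Lib.Helper83.Fp
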