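import Cfsg.Agent.Lib.Helper83.FpDefs

/-!
# Fp hive (S2276), glue leaf FP-THMB1: Theorem B for the single part `{m}`
-/

set_option autoImplicit false

namespace Cfsg.Agent.Lib.Helper83.Fp

open Equiv

theorem fpthmb1_rot_mem {m : ℕ} (d : Perm (Fin m)) : finRotate m ∈ Hcd d :=
  Subgroup.subset_closure (Set.mem_insert _ _)

/-- `CertT → Cert` (ThreeStmt; `m` odd). -/
theorem fpthmb1_certT_cert (hThree : ThreeStmt) {p m : ℕ} (hm : Odd m) (d : Perm (Fin m))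
    (h : CertT p d) : Cert p d := by
  obtain ⟨hfix, t, ht, h3, hnc⟩ := h
  exact ⟨hfix, hThree m hm (Hcd d) (fpthmb1_rot_mem d) t ht h3 hnc⟩

/-- `CertO → CertT` (CommStmt). -/
theorem fpthmb1_certO_certT (hComm : CommStmt) {p m : ℕ} (d : Perm (Fin m))
    (h : CertO p d) : CertT p d := by
  obtain ⟨hfix, z₁, hz₁, z₂, hz₂, q, hq, hnc⟩ := h
  obtain ⟨h3, hsupp⟩ := hComm m z₁ z₂ q hq
  refine ⟨hfix, z₁ * z₂ * z₁⁻¹ * z₂⁻¹, ?_, h3, ?_⟩
  · exact (Hcd d).mul_mem ((Hcd d).mul_mem ((Hcd d).mul_mem hz₁ hz₂) ((Hcd d).inv_mem hz₁))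
      ((Hcd d).inv_mem hz₂)
  · rw [hsupp]; exact hnc

/-- glue FP-THMB1: p = 3 (then m = 3^a ≥ 5 gives 9 ≤ m) B1b + CommStmt + ThreeStmt;
p ≥ 5: B1a + ThreeStmt. -/
theorem thmB1_of : CommStmt → ThreeStmt → B1aStmt → B1bStmt → ThmB1Stmt := by
  intro hComm hThree hB1a hB1b p hp hp3 a m hm hm5
  have ha : a ≠ 0 := by
    rintro rfl
    rw [pow_zero] at hm
    omega
  have hpm : p ∣ m := by
    rw [hm]; exact dvd_pow_self p ha
  have hpodd : Odd p := hp.odd_of_ne_two (by omega)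
  have hmodd : Odd m := by
    rw [hm]; exact hpodd.pow
  by_cases hp3' : p = 3
  · subst hp3'
    have ha2 : 2 ≤ a := by
      by_contra hcon
      have : a = 1 := by omega
      subst this
      rw [pow_one] at hm
      omega
    have hm9 : 9 ≤ m := by
      rw [hm]
      calc 9 = 3 ^ 2 := by norm_num
        _ ≤ 3 ^ a := Nat.pow_le_pow_right (by norm_num) ha2
    obtain ⟨d, τ, hd, hτ, h1, h2⟩ := hB1b m hm9 hpm hmodd
    exact ⟨d, τ, hd, hτ, fpthmb1_certT_cert hThree hmodd d (fpthmb1_certO_certT hComm d h1),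
      fpthmb1_certT_cert hThree hmodd _ (fpthmb1_certO_certT hComm _ h2)⟩
  · have hp5 : 5 ≤ p := by
      have h4 : p ≠ 4 := by
        rintro rfl
        norm_num at hp
      omega
    obtain ⟨d, τ, hd, hτ, h1, h2⟩ := hB1a p hp hp5 m hm5 hpm hmodd
    exact ⟨d, τ, hd, hτ, fpthmb1_certT_cert hThree hmodd d h1,
      fpthmb1_certT_cert hThree hmodd _ h2⟩

end Cfsg.Agent.Lib.Helper83.Fp
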