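import Cfsg.Agent.Lib.Helper83.FpDefs

/-!
# Fp hive (S2276), glue leaf FP-TR1: transfer of a good pair from `Fin m` to `Fin n`
-/

set_option autoImplicit false

namespace Cfsg.Agent.Lib.Helper83.Fp

open Equiv

/-- glue FP-TR1: EmbStmt gives ι for (c,U); ExtStmt gives φ for (d,W,ι); Par1Stmt gives g;
RestrictStmt. -/
theorem transfer_of : EmbStmt → ExtStmt → Par1Stmt → RestrictStmt → TransferStmt := by
  intro hEmb hExt hPar hRes p hp m n c d U W h1 h2 h3 h4 hgood hpar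
  obtain ⟨ι, hι⟩ := hEmb m n c U h1 h2
  obtain ⟨φ, hφ⟩ := hExt m n ι d W h3 h4
  obtain ⟨g, hg, hgW⟩ := hPar m n ι d W φ hφ hpar
  exact ⟨g, hg, hRes p hp m n ι c d U (g * W * g⁻¹) hι hgW hgood⟩

end Cfsg.Agent.Lib.Helper83.Fp
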