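import Cfsg.Agent.Lib.Helper83.FpDefs

/-!
# Fp hive (S2276), glue leaf FP-TR2: transfer with two models `d`, `τ d τ⁻¹`
-/

set_option autoImplicit false

namespace Cfsg.Agent.Lib.Helper83.Fp

open Equiv

/-- glue FP-TR2 -/
theorem transfer2_of : EmbStmt → ExtStmt → Par2Stmt → RestrictStmt → Transfer2Stmt := by
  intro hEmb hExt hPar hRes p hp m n c d τ U W h1 h2 h3 h4 hτ hgood hgood'
  obtain ⟨ι, hι⟩ := hEmb m n c U h1 h2
  obtain ⟨φ, hφ⟩ := hExt m n ι d W h3 h4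
  obtain ⟨g, hg, hgW | hgW⟩ := hPar m n ι d τ W φ hτ hφ
  · exact ⟨g, hg, hRes p hp m n ι c d U (g * W * g⁻¹) hι hgW hgood⟩
  · exact ⟨g, hg, hRes p hp m n ι c (τ * d * τ⁻¹) U (g * W * g⁻¹) hι hgW hgood'⟩

end Cfsg.Agent.Lib.Helper83.Fp
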