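import Mathlib
import Cfsg.Agent.Lib.Helper37.FusDefs

/-!
# FUS-C sub-hive (owner helper54): definitions

Minimal block context `MinCtx` and the field context `FieldCtx` for the "J-trick" proof of
`exists_refl_prod_commute` (Fus hive of helper37, S2720/S2721).

WARNING: inside this namespace the TERM `rfl` is shadowed by helper37's reflection `Fus.rfl`;
write `by rfl`, `Eq.refl _` or `_root_.rfl`.
-/

set_option autoImplicit false

namespace Cfsg.Agent.Lib.Helper37.Fus

variable {F : Type*} [Field F] {V : Type*} [AddCommGroup V] [Module F V]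

/-- `U` is `a`-invariant -/
def Inv (a : V →ₗ[F] V) (U : Submodule F V) : Prop := ∀ u ∈ U, a u ∈ U

/-- `B` is nondegenerate on `U` -/
def NondegOn (B : LinearMap.BilinForm F V) (U : Submodule F V) : Prop :=
  ∀ u ∈ U, (∀ v ∈ U, B u v = 0) → u = 0

/-- The minimal block: `a` is a semisimple isometry with inverse `a'`, `a ^ 2` has no nonzero fixed
vector, and the only `a`-invariant nondegenerate subspaces are `⊥` and `⊤`. -/
structure MinCtx (B : LinearMap.BilinForm F V) (a a' : V →ₗ[F] V) : Prop where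
  h2 : (2 : F) ≠ 0
  hs : ∀ u v, B u v = B v u
  hnd : ∀ u, (∀ v, B u v = 0) → u = 0
  ha : ∀ u v, B (a u) (a v) = B u v
  haa' : a * a' = 1
  ha'a : a' * a = 1
  hsemi : Module.End.IsSemisimple a
  hsemi' : ∀ g : Polynomial F, Module.End.IsSemisimple (Polynomial.aeval (a + a') g)
  hfix2 : ∀ v, a (a v) = v → v = 0
  hne : ∃ v : V, v ≠ 0
  hmin : ∀ U : Submodule F V, Inv a U → NondegOn B U → U = ⊥ ∨ U = ⊤

/-- A field `L` acting on `V` through `ρ`, generated by `σ` with `ρ σ = a + a'`. -/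
structure FieldCtx (a a' : V →ₗ[F] V) {L : Type*} [Field L] [Algebra F L]
    (ρ : L →ₐ[F] Module.End F V) (σ : L) : Prop where
  hσ : ρ σ = a + a'
  hgen : Algebra.adjoin F ({σ} : Set L) = ⊤

section
variable {L : Type*} [Field L] [Algebra F L]

/-- `x ↦ ρ x w` -/
noncomputable def evL (ρ : L →ₐ[F] Module.End F V) (w : V) : L →ₗ[F] V :=
  (LinearMap.applyₗ w).comp ρ.toLinearMap

@[simp] theorem evL_apply (ρ : L →ₐ[F] Module.End F V) (w : V) (x : L) : evL ρ w x = ρ x w := by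
  rfl

/-- `N0 = ρ(L) w` -/
noncomputable def N0 (ρ : L →ₐ[F] Module.End F V) (w : V) : Submodule F V := LinearMap.range (evL ρ w)

/-- `N1 = (a - a') ρ(L) w` -/
noncomputable def N1 (a a' : V →ₗ[F] V) (ρ : L →ₐ[F] Module.End F V) (w : V) : Submodule F V :=
  (N0 ρ w).map (a - a')

theorem mem_N0 (ρ : L →ₐ[F] Module.End F V) (w v : V) : v ∈ N0 ρ w ↔ ∃ x : L, ρ x w = v := by
  unfold N0
  rw [LinearMap.mem_range]
  rfl

theorem mem_N1 (a a' : V →ₗ[F] V) (ρ : L →ₐ[F] Module.End F V) (w v : V) :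
    v ∈ N1 a a' ρ w ↔ ∃ x : L, (a - a') (ρ x w) = v := by
  unfold N1
  rw [Submodule.mem_map]
  constructor
  · rintro ⟨u, hu, rfl⟩
    obtain ⟨x, rfl⟩ := (mem_N0 ρ w u).1 hu
    exact ⟨x, by rfl⟩
  · rintro ⟨x, rfl⟩
    exact ⟨ρ x w, (mem_N0 ρ w _).2 ⟨x, by rfl⟩, by rfl⟩

end

end Cfsg.Agent.Lib.Helper37.Fus
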