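import Mathlib
import Cfsg.Agent.Lib.Helper37.FusDefs
import Cfsg.Agent.Lib.Helper54.FusCDefs

/-!
# FUS-C sub-hive (helper54): the small leaves ANISO, RHO, STAB, NORTH, OB, MINB
-/

set_option autoImplicit false

namespace Cfsg.Agent.Lib.Helper37.Fus

open Polynomial

variable {F : Type*} [Field F] {V : Type*} [AddCommGroup V] [Module F V]

/-- FUSC-OB -/
theorem exists_orth_basis [FiniteDimensional F V] (h2 : (2 : F) ≠ 0) (B : LinearMap.BilinForm F V)
    (hs : ∀ u v, B u v = B v u) (hnd : ∀ u, (∀ v, B u v = 0) → u = 0) :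
    ∃ b : Module.Basis (Fin (Module.finrank F V)) F V,
      (∀ i j, i ≠ j → B (b i) (b j) = 0) ∧ ∀ i, B (b i) (b i) ≠ 0 := by
  haveI : Invertible (2 : F) := invertibleOfNonzero h2
  have hsymm : LinearMap.IsSymm B := ⟨fun u v => by simpa using hs u v⟩
  obtain ⟨b, hb⟩ := LinearMap.BilinForm.exists_orthogonal_basis hsymm
  have ho : ∀ i j, i ≠ j → B (b i) (b j) = 0 := fun i j hij => hb hij
  refine ⟨b, ho, ?_⟩
  intro i h0
  have : b i = 0 := by
    apply hnd
    intro v
    rw [← b.sum_repr v, map_sum]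
    apply Finset.sum_eq_zero
    intro j _
    rw [map_smul]
    by_cases hij : i = j
    · subst hij
      rw [h0, smul_zero]
    · rw [ho i j hij, smul_zero]
  exact b.ne_zero i this

/-- FUSC-MINB -/
theorem exists_min_block [FiniteDimensional F V] (B : LinearMap.BilinForm F V)
    (hnd : ∀ u, (∀ v, B u v = 0) → u = 0) (a : V →ₗ[F] V) (ha1 : a ≠ 1) :
    ∃ W : Submodule F V, Inv a W ∧ NondegOn B W ∧ (∃ u ∈ W, a u ≠ u) ∧
      ∀ U : Submodule F V, U ≤ W → Inv a U → NondegOn B U → (∃ u ∈ U, a u ≠ u) → U = W := by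
  classical
  let P : Submodule F V → Prop := fun W => Inv a W ∧ NondegOn B W ∧ ∃ u ∈ W, a u ≠ u
  have htop : P ⊤ := by
    refine ⟨fun u _ => trivial, fun u _ h => hnd u (fun v => h v trivial), ?_⟩
    by_contra hcon
    apply ha1
    apply LinearMap.ext
    intro u
    by_contra hu
    exact hcon ⟨u, trivial, hu⟩
  have hex : ∃ k : ℕ, ∃ W : Submodule F V, P W ∧ Module.finrank F W = k := ⟨_, ⊤, htop, by rfl⟩
  obtain ⟨W, hPW, hk⟩ := Nat.find_spec hex
  refine ⟨W, hPW.1, hPW.2.1, hPW.2.2, ?_⟩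
  intro U hUW hU1 hU2 hU3
  apply Submodule.eq_of_le_of_finrank_le hUW
  rw [hk]
  exact Nat.find_min' hex ⟨U, ⟨hU1, hU2, hU3⟩, by rfl⟩

section Min

variable {B : LinearMap.BilinForm F V} {a a' : V →ₗ[F] V}

/-- FUSC-ANISO -/
theorem exists_aniso (c : MinCtx B a a') : ∃ w : V, B w w ≠ 0 := by
  by_contra hcon0
  have hcon : ∀ w : V, B w w = 0 := fun w => by
    by_contra h
    exact hcon0 ⟨w, h⟩
  obtain ⟨v, hv⟩ := c.hne
  apply hv
  apply c.hnd
  intro u
  have h1 := hcon (v + u)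
  simp only [map_add, LinearMap.add_apply] at h1
  rw [hcon v, hcon u, c.hs u v, zero_add, add_zero, ← two_mul] at h1
  exact (mul_eq_zero.1 h1).resolve_left c.h2

theorem aniso_adj (c : MinCtx B a a') (u v : V) : B (a u) v = B u (a' v) := by
  have h : a (a' v) = v := by
    have := LinearMap.congr_fun c.haa' v
    simpa using this
  conv_lhs => rw [← h]
  exact c.ha u (a' v)

theorem aniso_adj' (c : MinCtx B a a') (u v : V) : B (a' u) v = B u (a v) := by
  have h : a (a' u) = u := by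
    have := LinearMap.congr_fun c.haa' u
    simpa using this
  conv_rhs => rw [← h]
  exact (c.ha (a' u) v).symm

variable {L : Type*} [Field L] [Algebra F L] {ρ : L →ₐ[F] Module.End F V} {σ : L}

/-- FUSC-RHO -/
theorem rho_facts (c : MinCtx B a a') (k : FieldCtx a a' ρ σ) (x : L) :
    ρ x * a = a * ρ x ∧ ρ x * a' = a' * ρ x ∧ ∀ u v, B (ρ x u) v = B u (ρ x v) := by
  have hx : x ∈ Algebra.adjoin F ({σ} : Set L) := by rw [k.hgen]; trivial
  induction hx using Algebra.adjoin_induction with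
  | mem y hy =>
    rw [Set.mem_singleton_iff] at hy
    subst hy
    rw [k.hσ]
    have e1 := c.haa'
    have e2 := c.ha'a
    refine ⟨?_, ?_, ?_⟩
    · rw [add_mul, mul_add, e1, e2]
    · rw [add_mul, mul_add, e1, e2]
    · intro u v
      rw [LinearMap.add_apply, LinearMap.add_apply, map_add, LinearMap.add_apply, map_add,
        aniso_adj c, aniso_adj' c, add_comm]
  | algebraMap r =>
    rw [AlgHom.commutes]
    refine ⟨?_, ?_, ?_⟩
    · exact (Algebra.commutes r a)
    · exact (Algebra.commutes r a')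
    · intro u v
      rw [Module.algebraMap_end_apply, Module.algebraMap_end_apply, map_smul, map_smul,
        LinearMap.smul_apply]
  | add y z _ _ hy hz =>
    rw [map_add]
    refine ⟨?_, ?_, ?_⟩
    · rw [add_mul, mul_add, hy.1, hz.1]
    · rw [add_mul, mul_add, hy.2.1, hz.2.1]
    · intro u v
      rw [LinearMap.add_apply, LinearMap.add_apply, map_add, LinearMap.add_apply, map_add,
        hy.2.2, hz.2.2]
  | mul y z _ _ hy hz =>
    rw [map_mul]
    refine ⟨?_, ?_, ?_⟩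
    · rw [mul_assoc, hz.1, ← mul_assoc, hy.1, mul_assoc]
    · rw [mul_assoc, hz.2.1, ← mul_assoc, hy.2.1, mul_assoc]
    · intro u v
      have hc : ρ y * ρ z = ρ z * ρ y := by rw [← map_mul, ← map_mul, mul_comm]
      rw [Module.End.mul_apply, hy.2.2, hz.2.2, ← Module.End.mul_apply, ← hc]

/-- FUSC-STAB -/
theorem N_stable (c : MinCtx B a a') (k : FieldCtx a a' ρ σ) (w : V) (n : L) :
    (∀ p ∈ N0 ρ w, ρ n p ∈ N0 ρ w) ∧ (∀ p ∈ N1 a a' ρ w, ρ n p ∈ N1 a a' ρ w) := by
  constructor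
  · intro p hp
    obtain ⟨x, rfl⟩ := (mem_N0 ρ w p).1 hp
    refine (mem_N0 ρ w _).2 ⟨n * x, ?_⟩
    rw [map_mul, Module.End.mul_apply]
  · intro p hp
    obtain ⟨x, rfl⟩ := (mem_N1 a a' ρ w p).1 hp
    refine (mem_N1 a a' ρ w _).2 ⟨n * x, ?_⟩
    obtain ⟨h1, h2, -⟩ := rho_facts c k n
    have hcomm : ρ n * (a - a') = (a - a') * ρ n := by rw [mul_sub, sub_mul, h1, h2]
    rw [map_mul, Module.End.mul_apply, ← Module.End.mul_apply (a - a'), ← hcomm,
      Module.End.mul_apply]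

/-- `a - a'` is skew-adjoint -/
theorem north_skew (c : MinCtx B a a') (u v : V) : B ((a - a') u) v = - B u ((a - a') v) := by
  rw [LinearMap.sub_apply, LinearMap.sub_apply, map_sub, LinearMap.sub_apply, map_sub,
    aniso_adj c, aniso_adj' c]
  ring

/-- FUSC-NORTH -/
theorem N_orth (c : MinCtx B a a') (k : FieldCtx a a' ρ σ) (w : V) :
    ∀ u ∈ N0 ρ w, ∀ v ∈ N1 a a' ρ w, B u v = 0 := by
  intro u hu v hv
  obtain ⟨x, rfl⟩ := (mem_N0 ρ w u).1 hu
  obtain ⟨x', rfl⟩ := (mem_N1 a a' ρ w v).1 hv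
  -- move `ρ x` to the right
  obtain ⟨h1, h2, h3⟩ := rho_facts c k x
  obtain ⟨h1', h2', h3'⟩ := rho_facts c k (x * x')
  have hcomm : ρ x * (a - a') = (a - a') * ρ x := by rw [mul_sub, sub_mul, h1, h2]
  have hcomm' : ρ (x * x') * (a - a') = (a - a') * ρ (x * x') := by
    rw [mul_sub, sub_mul, h1', h2']
  have e1 : B (ρ x w) ((a - a') (ρ x' w)) = B w ((a - a') (ρ (x * x') w)) := by
    rw [h3, ← Module.End.mul_apply (ρ x), hcomm, Module.End.mul_apply, ← Module.End.mul_apply (ρ x),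
      ← map_mul]
  rw [e1]
  -- `t := B w (ε t w)` equals its negative
  have e2 : B w ((a - a') (ρ (x * x') w)) = - B w ((a - a') (ρ (x * x') w)) := by
    have s1 : B w ((a - a') (ρ (x * x') w)) = B ((a - a') (ρ (x * x') w)) w := c.hs _ _
    have s2 : B ((a - a') (ρ (x * x') w)) w = - B (ρ (x * x') w) ((a - a') w) := north_skew c _ _
    have s3 : B (ρ (x * x') w) ((a - a') w) = B w (ρ (x * x') ((a - a') w)) := h3' _ _
    have s4 : ρ (x * x') ((a - a') w) = (a - a') (ρ (x * x') w) := by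
      rw [← Module.End.mul_apply, hcomm', Module.End.mul_apply]
    calc B w ((a - a') (ρ (x * x') w)) = - B (ρ (x * x') w) ((a - a') w) := s1.trans s2
      _ = - B w ((a - a') (ρ (x * x') w)) := by rw [s3, s4]
  have e3 : (2 : F) * B w ((a - a') (ρ (x * x') w)) = 0 := by
    rw [two_mul]
    nth_rewrite 1 [e2]
    exact neg_add_cancel _
  exact (mul_eq_zero.1 e3).resolve_left c.h2

end Min

end Cfsg.Agent.Lib.Helper37.Fus
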