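import Mathlib
import Cfsg.Agent.Lib.Helper37.FusDefs
import Cfsg.Agent.Lib.Helper54.FusCDefs
import Cfsg.Agent.Lib.Helper54.FusCSmall
import Cfsg.Agent.Lib.Helper73.FusCSYM
import Cfsg.Agent.Lib.Helper74.FusCDISC

/-!
# FUS-C sub-hive (helper54): FUSC-CORE `core`
-/

set_option autoImplicit false

namespace Cfsg.Agent.Lib.Helper37.Fus

open Polynomial

variable {F : Type*} [Field F] {V : Type*} [AddCommGroup V] [Module F V]

/-- FUSC-CORE -/
theorem core [FiniteDimensional F V] (h2 : (2 : F) ≠ 0) (B : LinearMap.BilinForm F V)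
    (hs : ∀ u v, B u v = B v u) (a y z : V →ₗ[F] V) (hza : z * a = a * z)
    (N₀ N₁ : Submodule F V) (hsup : N₀ ⊔ N₁ = ⊤)
    (hnd₁ : NondegOn B N₁)
    (horth : ∀ u ∈ N₀, ∀ v ∈ N₁, B u v = 0)
    (hyorth : ∀ u ∈ N₀, ∀ v ∈ N₁, B (y u) (y v) = 0)
    (h₀ : ∀ u ∈ N₀, ∃ u₀ ∈ N₀, ∃ u₁ ∈ N₁, u = y u₀ + y u₁ ∧ z u = y u₀ - y u₁)
    (h₁ : ∀ u ∈ N₁, ∃ u₀ ∈ N₀, ∃ u₁ ∈ N₁, -u = y u₀ + y u₁ ∧ z u = y u₀ - y u₁)
    (m : N₁ →ₗ[F] N₁) (hm : ∀ u v : N₁, B (y u) (y v) = B u (m v))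
    (hdet : ¬ IsSquare (LinearMap.det m)) :
    ∃ vs : List V, (∀ v ∈ vs, B v v ≠ 0) ∧ Even vs.length ∧
      ¬ IsSquare (vs.map (fun v => B v v)).prod ∧
      (vs.map (rfl B)).prod * a = a * (vs.map (rfl B)).prod := by
  classical
  -- the two forms on N₁
  set B₁ : LinearMap.BilinForm F N₁ := B.restrict N₁ with hB₁
  set B₂ : LinearMap.BilinForm F N₁ := (B.comp y y).restrict N₁ with hB₂
  have hB₁a : ∀ u v : N₁, B₁ u v = B u v := fun u v => by rfl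
  have hB₂a : ∀ u v : N₁, B₂ u v = B (y u) (y v) := fun u v => by rfl
  have hdet0 : LinearMap.det m ≠ 0 := by
    intro h0
    apply hdet
    rw [h0]
    exact ⟨0, by simp⟩
  have hmsurj : Function.Surjective m := by
    have hu : IsUnit (LinearMap.det m) := isUnit_iff_ne_zero.2 hdet0
    have hu' : IsUnit m := (LinearMap.isUnit_iff_isUnit_det m).2 hu
    exact ((Module.End.isUnit_iff m).1 hu').2
  have hs₁ : ∀ u v : N₁, B₁ u v = B₁ v u := fun u v => by rw [hB₁a, hB₁a, hs]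
  have hs₂ : ∀ u v : N₁, B₂ u v = B₂ v u := fun u v => by rw [hB₂a, hB₂a, hs]
  have hnd₁' : ∀ u : N₁, (∀ v : N₁, B₁ u v = 0) → u = 0 := by
    intro u hu
    have := hnd₁ u u.2 (fun v hv => hu ⟨v, hv⟩)
    exact Subtype.ext this
  have hnd₂' : ∀ u : N₁, (∀ v : N₁, B₂ u v = 0) → u = 0 := by
    intro u hu
    apply hnd₁'
    intro v
    obtain ⟨v', rfl⟩ := hmsurj v
    rw [hB₁a, ← hm, ← hB₂a]
    exact hu v'
  obtain ⟨c, hco, hcn⟩ := exists_orth_basis h2 B₁ hs₁ hnd₁'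
  obtain ⟨b, hbo, hbn⟩ := exists_orth_basis h2 B₂ hs₂ hnd₂'
  obtain ⟨t, ht0, ht⟩ := disc_relation B₁ B₂ m (fun u v => by rw [hB₂a, hm, hB₁a]) c b hco hcn hbo
  obtain ⟨f₂, hf₂⟩ : ∃ f₂ : Fin (Module.finrank F N₁) → V, ∀ i, f₂ i = y (b i : V) :=
    ⟨fun i => y (b i : V), fun _ => by rfl⟩
  obtain ⟨f₁, hf₁⟩ : ∃ f₁ : Fin (Module.finrank F N₁) → V, ∀ i, f₁ i = (c i : V) :=
    ⟨fun i => (c i : V), fun _ => by rfl⟩
  have hn₂ : ∀ i, B (f₂ i) (f₂ i) = B₂ (b i) (b i) := fun i => by rw [hf₂, hB₂a]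
  have hn₁ : ∀ i, B (f₁ i) (f₁ i) = B₁ (c i) (c i) := fun i => by rw [hf₁, hB₁a]
  refine ⟨List.ofFn f₂ ++ List.ofFn f₁, ?_, ?_, ?_, ?_⟩
  · intro v hv
    rcases List.mem_append.1 hv with hv | hv
    · obtain ⟨i, rfl⟩ := (List.mem_ofFn' _ _).1 hv
      rw [hn₂]
      exact hbn i
    · obtain ⟨i, rfl⟩ := (List.mem_ofFn' _ _).1 hv
      rw [hn₁]
      exact hcn i
  · rw [List.length_append, List.length_ofFn, List.length_ofFn]
    exact ⟨_, by rfl⟩
  · rw [List.map_append, List.prod_append, List.map_ofFn, List.map_ofFn, List.prod_ofFn, List.prod_ofFn]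
    have e : (∏ i, ((fun v => (B v) v) ∘ f₂) i) * (∏ i, ((fun v => (B v) v) ∘ f₁) i) =
        LinearMap.det m * t ^ 2 := by
      rw [← ht]
      congr 1
      · exact Finset.prod_congr (by rfl) (fun i _ => hn₂ i)
      · exact Finset.prod_congr (by rfl) (fun i _ => hn₁ i)
    rw [e]
    rintro ⟨r, hr⟩
    apply hdet
    refine ⟨r / t, ?_⟩
    field_simp
    rw [hr]
    ring
  · -- the two products
    set P₂ := ((List.ofFn f₂).map (rfl B)).prod with hP₂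
    set P₁ := ((List.ofFn f₁).map (rfl B)).prod with hP₁
    have hprod : ((List.ofFn f₂ ++ List.ofFn f₁).map (rfl B)).prod = P₂ * P₁ := by
      rw [List.map_append, List.prod_append]
    rw [hprod]
    obtain ⟨hP₁a, hP₁b⟩ := sym_prod_of_basis h2 B hs f₁
      (fun i j hij => by rw [hf₁, hf₁, ← hB₁a]; exact hco i j hij)
      (fun i => by rw [hn₁]; exact hcn i)
    obtain ⟨hP₂a, hP₂b⟩ := sym_prod_of_basis h2 B hs f₂
      (fun i j hij => by rw [hf₂, hf₂, ← hB₂a]; exact hbo i j hij)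
      (fun i => by rw [hn₂]; exact hbn i)
    -- spans
    have hspan₁ : ∀ x ∈ N₁, x ∈ Submodule.span F (Set.range f₁) := by
      intro x hx
      have hx' : (⟨x, hx⟩ : N₁) ∈ Submodule.span F (Set.range c) := by
        rw [c.span_eq]; trivial
      have := Submodule.mem_map_of_mem (f := N₁.subtype) hx'
      rw [Submodule.map_span, ← Set.range_comp] at this
      have e : (⇑N₁.subtype ∘ ⇑c) = f₁ := funext fun i => (hf₁ i).symm
      rw [e] at this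
      exact this
    have hspan₂ : ∀ x ∈ N₁, y x ∈ Submodule.span F (Set.range f₂) := by
      intro x hx
      have hx' : (⟨x, hx⟩ : N₁) ∈ Submodule.span F (Set.range b) := by
        rw [b.span_eq]; trivial
      have := Submodule.mem_map_of_mem (f := y.comp N₁.subtype) hx'
      rw [Submodule.map_span, ← Set.range_comp] at this
      have e : (⇑(y.comp N₁.subtype) ∘ ⇑b) = f₂ := funext fun i => (hf₂ i).symm
      rw [e] at this
      exact this
    have hP₁N₁ : ∀ x ∈ N₁, P₁ x = -x := fun x hx => hP₁a x (hspan₁ x hx)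
    have hP₁N₀ : ∀ x ∈ N₀, P₁ x = x := by
      intro x hx
      apply hP₁b
      intro i
      rw [hs, hf₁]
      exact horth x hx _ (c i).2
    have hP₂N₁ : ∀ x ∈ N₁, P₂ (y x) = -(y x) := fun x hx => hP₂a _ (hspan₂ x hx)
    have hP₂N₀ : ∀ x ∈ N₀, P₂ (y x) = y x := by
      intro x hx
      apply hP₂b
      intro i
      rw [hs, hf₂]
      exact hyorth x hx _ (b i).2
    have hz : P₂ * P₁ = z := by
      apply LinearMap.ext
      intro x
      have hx : x ∈ N₀ ⊔ N₁ := by rw [hsup]; trivial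
      obtain ⟨x₀, hx₀, x₁, hx₁, rfl⟩ := Submodule.mem_sup.1 hx
      rw [map_add, map_add]
      congr 1
      · obtain ⟨u₀, hu₀, u₁, hu₁, e1, e2⟩ := h₀ x₀ hx₀
        rw [Module.End.mul_apply, hP₁N₀ x₀ hx₀, e2]
        conv_lhs => rw [e1]
        rw [map_add, hP₂N₀ u₀ hu₀, hP₂N₁ u₁ hu₁]
        abel
      · obtain ⟨u₀, hu₀, u₁, hu₁, e1, e2⟩ := h₁ x₁ hx₁
        rw [Module.End.mul_apply, hP₁N₁ x₁ hx₁, e2]
        conv_lhs => rw [e1]
        rw [map_add, hP₂N₀ u₀ hu₀, hP₂N₁ u₁ hu₁]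
        abel
    rw [hz, hza]

end Cfsg.Agent.Lib.Helper37.Fus
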