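import Mathlib
import Cfsg.Agent.Lib.Helper37.FusDefs
import Cfsg.Agent.Lib.Helper54.FusCDefs

/-!
# FUS-C sub-hive (helper54): FUSC-LIFT `lift_block`
-/

set_option autoImplicit false

namespace Cfsg.Agent.Lib.Helper37.Fus

variable {F : Type*} [Field F] {V : Type*} [AddCommGroup V] [Module F V]

theorem lift_rfl_coe (B : LinearMap.BilinForm F V) (W : Submodule F V) (v x : W) :
    rfl B (v : V) (x : V) = ((rfl (B.restrict W) v x : W) : V) := by
  rw [rfl_apply, rfl_apply]
  rfl

theorem lift_rfl_orth (B : LinearMap.BilinForm F V) (W : Submodule F V) (v : W) (x : V)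
    (hx : ∀ n ∈ W, B n x = 0) : rfl B (v : V) x = x := by
  rw [rfl_apply, hx v v.2, mul_zero, zero_smul, sub_zero]

theorem lift_prod_coe (B : LinearMap.BilinForm F V) (W : Submodule F V) (vs : List W) (x : W) :
    ((vs.map (fun v : W => (v : V))).map (rfl B)).prod (x : V) =
      (((vs.map (rfl (B.restrict W))).prod x : W) : V) := by
  induction vs generalizing x with
  | nil => simp
  | cons v vs ih =>
    rw [List.map_cons, List.map_cons, List.prod_cons, List.map_cons, List.prod_cons,
      Module.End.mul_apply, Module.End.mul_apply, ih, lift_rfl_coe]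

theorem lift_prod_orth (B : LinearMap.BilinForm F V) (W : Submodule F V) (vs : List W) (x : V)
    (hx : ∀ n ∈ W, B n x = 0) :
    ((vs.map (fun v : W => (v : V))).map (rfl B)).prod x = x := by
  induction vs with
  | nil => simp
  | cons v vs ih =>
    rw [List.map_cons, List.map_cons, List.prod_cons, Module.End.mul_apply, ih,
      lift_rfl_orth B W v x hx]

/-- FUSC-LIFT -/
theorem lift_block [FiniteDimensional F V] (B : LinearMap.BilinForm F V) (hs : ∀ u v, B u v = B v u)
    (a : V →ₗ[F] V) (ha : ∀ u v, B (a u) (a v) = B u v) (a' : V →ₗ[F] V) (haa' : a * a' = 1)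
    (ha'a : a' * a = 1) (W : Submodule F V) (hW : ∀ u ∈ W, a u ∈ W) (hWnd : NondegOn B W)
    (vs : List W)
    (hcomm : (vs.map (rfl (B.restrict W))).prod * (a.restrict hW) =
      (a.restrict hW) * (vs.map (rfl (B.restrict W))).prod) :
    ((vs.map (fun v : W => (v : V))).map (rfl B)).prod * a =
      a * ((vs.map (fun v : W => (v : V))).map (rfl B)).prod := by
  classical
  have hrefl : B.IsRefl := fun u v h => by rw [hs]; exact h
  have hsepL : (B.restrict W).SeparatingLeft := by
    intro u hu
    apply Subtype.ext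
    exact hWnd u u.2 (fun v hv => hu ⟨v, hv⟩)
  have hsepR : (B.restrict W).SeparatingRight := by
    intro u hu
    apply Subtype.ext
    refine hWnd u u.2 (fun v hv => ?_)
    rw [hs]
    exact hu ⟨v, hv⟩
  have hcompl := LinearMap.BilinForm.isCompl_orthogonal_of_restrict_nondegenerate hrefl
    (W := W) ⟨hsepL, hsepR⟩
  -- `a' W ⊆ W`
  have hainj : Function.Injective (a.restrict hW) := by
    intro x y hxy
    have h1 : a (x : V) = a (y : V) := congrArg Subtype.val hxy
    have h2 := congrArg a' h1
    have e : ∀ v, a' (a v) = v := fun v => by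
      have := LinearMap.congr_fun ha'a v
      simpa using this
    rw [e, e] at h2
    exact Subtype.ext h2
  have hasurj : Function.Surjective (a.restrict hW) :=
    LinearMap.surjective_of_injective hainj
  have horthinv : ∀ x ∈ B.orthogonal W, a x ∈ B.orthogonal W := by
    intro x hx
    rw [LinearMap.BilinForm.mem_orthogonal_iff] at hx ⊢
    intro n hn
    obtain ⟨n', hn'⟩ := hasurj ⟨n, hn⟩
    have e : n = a (n' : V) := by
      have := congrArg Subtype.val hn'
      exact this.symm
    show B n (a x) = 0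
    rw [e, ha]
    exact hx n' n'.2
  apply LinearMap.ext
  intro x
  have hx : x ∈ W ⊔ B.orthogonal W := by rw [hcompl.sup_eq_top]; trivial
  obtain ⟨x₀, hx₀, x₁, hx₁, rfl⟩ := Submodule.mem_sup.1 hx
  rw [map_add, map_add]
  congr 1
  · rw [Module.End.mul_apply, Module.End.mul_apply]
    have e1 : a x₀ = ((a.restrict hW ⟨x₀, hx₀⟩ : W) : V) := by rfl
    rw [e1, lift_prod_coe]
    have e2 : x₀ = ((⟨x₀, hx₀⟩ : W) : V) := by rfl
    conv_rhs => rw [e2, lift_prod_coe]
    have e3 := LinearMap.congr_fun hcomm ⟨x₀, hx₀⟩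
    rw [Module.End.mul_apply, Module.End.mul_apply] at e3
    rw [e3]
    rfl
  · rw [Module.End.mul_apply, Module.End.mul_apply]
    have h1 : ∀ n ∈ W, B n x₁ = 0 := by
      intro n hn
      exact (LinearMap.BilinForm.mem_orthogonal_iff.1 hx₁) n hn
    have h2 : ∀ n ∈ W, B n (a x₁) = 0 := by
      intro n hn
      exact (LinearMap.BilinForm.mem_orthogonal_iff.1 (horthinv x₁ hx₁)) n hn
    rw [lift_prod_orth B W vs x₁ h1, lift_prod_orth B W vs (a x₁) h2]

end Cfsg.Agent.Lib.Helper37.Fus
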