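import Mathlib
import Cfsg.Agent.Lib.Helper37.FusDefs
import Cfsg.Agent.Lib.Helper54.FusCDefs
import Cfsg.Agent.Lib.Helper54.FusCSmall

/-!
# FUS-C sub-hive (helper54): FUSC-PHI `det_eq_norm`
-/

set_option autoImplicit false

namespace Cfsg.Agent.Lib.Helper37.Fus

open Polynomial

variable {F : Type*} [Field F] {V : Type*} [AddCommGroup V] [Module F V]
variable {B : LinearMap.BilinForm F V} {a a' : V →ₗ[F] V}
variable {L : Type*} [Field L] [Algebra F L] {ρ : L →ₐ[F] Module.End F V} {σ : L}

/-- `a - a'` is injective -/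
theorem phi_eps_injective (c : MinCtx B a a') : Function.Injective (a - a') := by
  rw [injective_iff_map_eq_zero]
  intro v hv
  apply c.hfix2
  have h1 : a v = a' v := by
    have := hv
    rw [LinearMap.sub_apply, sub_eq_zero] at this
    exact this
  have h2 : a (a' v) = v := by
    have := LinearMap.congr_fun c.haa' v
    simpa using this
  rw [h1, h2]

/-- an endomorphism commuting with `a` and killing `w` is zero -/
theorem phi_zero_of_cyclic (w : V)
    (hcyc : Submodule.span F (Set.range fun i : ℕ => (a ^ i) w) = ⊤)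
    (T : V →ₗ[F] V) (hT : T * a = a * T) (hw : T w = 0) : T = 0 := by
  have hpow : ∀ i : ℕ, T * a ^ i = a ^ i * T := by
    intro i
    induction i with
    | zero => simp
    | succ i ih => rw [pow_succ, ← mul_assoc, ih, mul_assoc, hT, ← mul_assoc]
  apply LinearMap.ext
  intro v
  have hv : v ∈ Submodule.span F (Set.range fun i : ℕ => (a ^ i) w) := by rw [hcyc]; trivial
  induction hv using Submodule.span_induction with
  | mem x hx =>
    obtain ⟨i, rfl⟩ := hx
    rw [← Module.End.mul_apply, hpow, Module.End.mul_apply, hw, map_zero]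
    rfl
  | zero => simp
  | add x y _ _ hx hy => rw [map_add, hx, hy]; simp
  | smul r x _ hx => rw [map_smul, hx]; simp

/-- FUSC-PHI -/
theorem det_eq_norm [FiniteDimensional F V] [Module.Finite F L] (c : MinCtx B a a')
    (k : FieldCtx a a' ρ σ) (w : V)
    (hcyc : Submodule.span F (Set.range fun i : ℕ => (a ^ i) w) = ⊤)
    (n : L) (m : N1 a a' ρ w →ₗ[F] N1 a a' ρ w) (hm : ∀ u : N1 a a' ρ w, (m u : V) = ρ n (u : V)) :
    LinearMap.det m = Algebra.norm F n := by
  classical
  haveI : Nontrivial V := by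
    obtain ⟨v, hv⟩ := c.hne
    exact ⟨⟨v, 0, hv⟩⟩
  -- the map φ
  let φ₀ : L →ₗ[F] V := (a - a').comp (evL ρ w)
  have hφ₀ : ∀ x, φ₀ x = (a - a') (ρ x w) := fun x => by rfl
  let φ : L →ₗ[F] N1 a a' ρ w :=
    φ₀.codRestrict (N1 a a' ρ w) (fun x => (mem_N1 a a' ρ w _).2 ⟨x, by rfl⟩)
  have hφ : ∀ x, ((φ x : N1 a a' ρ w) : V) = (a - a') (ρ x w) := fun x => by rfl
  have hρinj : Function.Injective ρ := (ρ : L →+* Module.End F V).injective
  have hinj : Function.Injective φ := by
    rw [injective_iff_map_eq_zero]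
    intro x hx
    have hx' : (a - a') (ρ x w) = 0 := by
      rw [← hφ, hx]
      rfl
    obtain ⟨h1, h2, -⟩ := rho_facts c k x
    have hT : ((a - a') * ρ x) * a = a * ((a - a') * ρ x) := by
      have e1 := c.haa'
      have e2 := c.ha'a
      have e3 : (a - a') * a = a * (a - a') := by rw [sub_mul, mul_sub, e1, e2]
      rw [mul_assoc, h1, ← mul_assoc, e3, mul_assoc]
    have hT0 := phi_zero_of_cyclic w hcyc ((a - a') * ρ x) hT (by rw [Module.End.mul_apply, hx'])
    have hρx : ρ x = 0 := by
      apply LinearMap.ext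
      intro v
      apply phi_eps_injective c
      have := LinearMap.congr_fun hT0 v
      rw [Module.End.mul_apply] at this
      rw [this]
      simp
    apply hρinj
    rw [hρx, map_zero]
  have hsurj : Function.Surjective φ := by
    rintro ⟨p, hp⟩
    obtain ⟨x, hx⟩ := (mem_N1 a a' ρ w p).1 hp
    exact ⟨x, Subtype.ext (by rw [hφ, hx])⟩
  let e : L ≃ₗ[F] N1 a a' ρ w := LinearEquiv.ofBijective φ ⟨hinj, hsurj⟩
  have he : ∀ x, e x = φ x := fun x => by rfl
  -- intertwining
  have hint : m = (e : L →ₗ[F] N1 a a' ρ w) ∘ₗ (Algebra.lmul F L n) ∘ₗ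
      (e.symm : N1 a a' ρ w →ₗ[F] L) := by
    apply LinearMap.ext
    intro p
    obtain ⟨x, rfl⟩ := e.surjective p
    apply Subtype.ext
    rw [hm, LinearMap.comp_apply, LinearMap.comp_apply, LinearEquiv.coe_coe, LinearEquiv.coe_coe,
      LinearEquiv.symm_apply_apply, he, he, hφ, hφ]
    have hl : (Algebra.lmul F L n) x = n * x := by rfl
    rw [hl, map_mul, Module.End.mul_apply]
    obtain ⟨h1, h2, -⟩ := rho_facts c k n
    have hcomm : ρ n * (a - a') = (a - a') * ρ n := by rw [mul_sub, sub_mul, h1, h2]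
    rw [← Module.End.mul_apply (ρ n), hcomm, Module.End.mul_apply]
  rw [hint, LinearMap.det_conj, Algebra.norm_apply]

end Cfsg.Agent.Lib.Helper37.Fus
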