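import Mathlib
import Cfsg.Agent.Lib.Helper37.FusDefs
import Cfsg.Agent.Lib.Helper54.FusCDefs
import Cfsg.Agent.Lib.Helper54.FusCSmall
import Cfsg.Agent.Lib.Helper54.FusCPHI
import Cfsg.Agent.Lib.Helper54.FusCLIFT
import Cfsg.Agent.Lib.Helper54.FusCCORE
import Cfsg.Agent.Lib.Helper68.FusCEXN
import Cfsg.Agent.Lib.Helper68.FusCNSUP
import Cfsg.Agent.Lib.Helper69.FusCDICH
import Cfsg.Agent.Lib.Helper69.FusCIRR
import Cfsg.Agent.Lib.Helper69.FusCCYC
import Cfsg.Agent.Lib.Helper74.FusCDEC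
import Cfsg.Agent.Lib.Helper73.FusCNOFIX

/-!
# FUS-C (helper54 sub-hive): `exists_refl_prod_commute` of the Fus hive (S2720 / S2721)
-/

set_option autoImplicit false

namespace Cfsg.Agent.Lib.Helper37.Fus

open Polynomial

variable {F : Type*} [Field F] {V : Type*} [AddCommGroup V] [Module F V]

/-! ## Assemblies (helper54) -/

section Asm

/-- the minimal case -/
theorem min_case [Fintype F] [FiniteDimensional F V] (B : LinearMap.BilinForm F V) (a a' : V →ₗ[F] V)
    (c : MinCtx B a a') :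
    ∃ vs : List V, (∀ v ∈ vs, B v v ≠ 0) ∧ Even vs.length ∧
      ¬ IsSquare (vs.map (fun v => B v v)).prod ∧
      (vs.map (rfl B)).prod * a = a * (vs.map (rfl B)).prod := by
  classical
  obtain ⟨w, hw⟩ := exists_aniso c
  have hcyc := cyclic_of_aniso c w hw
  have hirr := minpoly_irreducible c
  haveI : Fact (Irreducible (minpoly F (a + a'))) := ⟨hirr⟩
  have hker : ∀ g ∈ Ideal.span {minpoly F (a + a')}, (aeval (a + a')) g = 0 := by
    intro g hg
    obtain ⟨q, rfl⟩ := Ideal.mem_span_singleton.1 hg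
    rw [map_mul, minpoly.aeval, zero_mul]
  let ρ : AdjoinRoot (minpoly F (a + a')) →ₐ[F] Module.End F V :=
    Ideal.Quotient.liftₐ (Ideal.span {minpoly F (a + a')}) (aeval (a + a')) hker
  have hρmk : ∀ g : F[X], ρ (AdjoinRoot.mk _ g) = aeval (a + a') g := fun g => by rfl
  have hρroot : ρ (AdjoinRoot.root _) = a + a' := by
    have := hρmk X
    rwa [aeval_X] at this
  have k : FieldCtx a a' ρ (AdjoinRoot.root (minpoly F (a + a'))) :=
    ⟨hρroot, AdjoinRoot.adjoinRoot_eq_top⟩
  haveI : Module.Finite F (AdjoinRoot (minpoly F (a + a'))) :=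
    (AdjoinRoot.powerBasis hirr.ne_zero).finite
  haveI : Finite (AdjoinRoot (minpoly F (a + a'))) := Module.finite_of_finite F
  haveI : Fintype (AdjoinRoot (minpoly F (a + a'))) := Fintype.ofFinite _
  -- `a - a'` is injective
  have hεinj : Function.Injective (a - a') := by
    rw [injective_iff_map_eq_zero]
    intro v hv
    apply c.hfix2
    have h1 : a v = a' v := by
      have := hv
      rw [LinearMap.sub_apply, sub_eq_zero] at this
      exact this
    have h2 : a (a' v) = v := by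
      have := LinearMap.congr_fun c.haa' v
      simpa using this
    rw [h1, h2]
  have hσ4 : (AdjoinRoot.root (minpoly F (a + a'))) ^ 2 - 4 ≠ 0 := by
    intro h0
    have h1 : ρ ((AdjoinRoot.root (minpoly F (a + a'))) ^ 2 - 4) = (a - a') * (a - a') := by
      rw [map_sub, map_pow, hρroot]
      have h4 : ρ 4 = 4 := map_ofNat ρ 4
      rw [h4]
      have e1 := c.haa'
      have e2 := c.ha'a
      have x1 : (a + a') ^ 2 = a * a + a * a' + a' * a + a' * a' := by noncomm_ring
      have x2 : (a - a') * (a - a') = a * a - a * a' - a' * a + a' * a' := by noncomm_ring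
      rw [x1, x2, e1, e2]
      have x3 : (4 : Module.End F V) = 1 + 1 + 1 + 1 := by norm_num
      rw [x3]
      abel
    rw [h0, map_zero] at h1
    obtain ⟨v, hv⟩ := c.hne
    apply hv
    apply hεinj
    apply hεinj
    have := LinearMap.congr_fun h1 v
    simpa using this.symm
  obtain ⟨n, u, v, hnsq, hn⟩ :=
    exists_norm_nonsquare (F := F) c.h2 (AdjoinRoot.root (minpoly F (a + a'))) hσ4
  have hn0 : n ≠ 0 := by
    rintro rfl
    apply hnsq
    rw [Algebra.norm_zero]
    exact ⟨0, by simp⟩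
  obtain ⟨hza, hB, h0, h1⟩ := decomp c k w n u v hn hn0
  have hstab := N_stable c k w n
  have horth := N_orth c k w
  have hsup := N_sup c k w hcyc
  have hnd1 : NondegOn B (N1 a a' ρ w) := by
    intro p hp h
    apply c.hnd
    intro q
    have hq : q ∈ N0 ρ w ⊔ N1 a a' ρ w := by rw [hsup]; trivial
    obtain ⟨q0, hq0, q1, hq1, rfl⟩ := Submodule.mem_sup.1 hq
    rw [map_add, h q1 hq1, add_zero, c.hs]
    exact horth q0 hq0 p hp
  let m : N1 a a' ρ w →ₗ[F] N1 a a' ρ w := (ρ n).restrict hstab.2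
  have hdet := det_eq_norm c k w hcyc n m (fun p => by rfl)
  refine core c.h2 B c.hs a (ρ u + ρ v * a) ((ρ u + ρ v * a) * (ρ u + ρ v * a) * ρ n⁻¹) hza
    (N0 ρ w) (N1 a a' ρ w) hsup hnd1 horth ?_ h0 h1 m ?_ ?_
  · intro p hp q hq
    rw [hB]
    exact horth p hp _ (hstab.2 q hq)
  · intro p q
    rw [hB]
    rfl
  · rw [hdet]
    exact hnsq

/-- FUS-C -/
theorem exists_refl_prod_commute [Fintype F] [FiniteDimensional F V] (h2 : (2 : F) ≠ 0)
    (B : LinearMap.BilinForm F V)
    (hs : ∀ u v, B u v = B v u) (hnd : ∀ u, (∀ v, B u v = 0) → u = 0)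
    (a : V →ₗ[F] V) (ha : ∀ u v, B (a u) (a v) = B u v) (n : ℕ) (hodd : Odd n)
    (hnF : (n : F) ≠ 0) (han : a ^ n = 1) (ha1 : a ≠ 1) :
    ∃ vs : List V, (∀ v ∈ vs, B v v ≠ 0) ∧ Even vs.length ∧
      ¬ IsSquare (vs.map (fun v => B v v)).prod ∧
      (vs.map (rfl B)).prod * a = a * (vs.map (rfl B)).prod := by
  obtain ⟨W, hW, hWnd, hne, hmin⟩ := exists_min_block B hnd a ha1
  have c := minCtx_of_block h2 B hs a ha n hodd hnF han W hW hWnd hne hmin
  obtain ⟨vs, h1, h2', h3, h4⟩ := min_case (B.restrict W) (a.restrict hW) _ c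
  have hn1 : 1 ≤ n := by
    rcases hodd with ⟨k, rfl⟩
    omega
  have haa' : a * a ^ (n - 1) = 1 := by
    rw [← pow_succ', Nat.sub_add_cancel hn1, han]
  have ha'a : a ^ (n - 1) * a = 1 := by
    rw [← pow_succ, Nat.sub_add_cancel hn1, han]
  refine ⟨vs.map (fun v : W => (v : V)), ?_, ?_, ?_, ?_⟩
  · intro v hv
    obtain ⟨v', hv', rfl⟩ := List.mem_map.1 hv
    exact h1 v' hv'
  · rw [List.length_map]
    exact h2'
  · rw [List.map_map]
    exact h3
  · exact lift_block B hs a ha (a ^ (n - 1)) haa' ha'a W hW hWnd vs h4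

end Asm

end Cfsg.Agent.Lib.Helper37.Fus
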