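/-
The global step: a positive characteristic functor `W` with `Z(Q) ≤ W(Q)` for which the local
hypothesis holds for the elements of `C ⊆ Z(S)`: if the automorphisms of `W(S)` fix `C`
elementwise, then every map of the saturated system `F` fixes `C` elementwise.
-/
import Cfsg.Agent.Lib.Helper54.FusLocal

set_option autoImplicit false

universe u

namespace Cfsg.Agent.Lib.Helper54.FusGlobal

open Cfsg Cfsg.FusionSystem Cfsg.Agent.Lib.Helper87 Cfsg.Agent.Lib.Helper54.FusWP
  Cfsg.Agent.Lib.Helper54.FusFix Cfsg.Agent.Lib.Helper54.FusLocal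

variable {Ω : Type u} [Group Ω] {p : ℕ} {S : Subgroup Ω}

theorem global_fix [Finite S] [Fact p.Prime] (hS : IsPGroup p S)
    (W : ∀ (Q : Type u) [Group Q], Subgroup Q)
    (hW2 : ∀ (Q R : Type u) [Group Q] [Group R] [Finite Q], IsPGroup p Q → ∀ φ : Q ≃* R,
      (W Q).map φ.toMonoidHom = W R)
    (hWZ : ∀ (Q : Type u) [Group Q] [Finite Q], IsPGroup p Q → Subgroup.center Q ≤ W Q)
    (F : FusionSystem S) (hF : F.IsSaturated p) (C : Set Ω)
    (hCZ : ∀ c ∈ C, c ∈ S ⊓ Subgroup.centralizer (S : Set Ω))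
    (hLoc : LocalHyp p W S C)
    (hTop : ∀ β ∈ F.Hom (inducedFunctor W S), β.range = inducedFunctor W S →
      ∀ c ∈ C, ∀ hc : c ∈ inducedFunctor W S, β ⟨c, hc⟩ = c) :
    ∀ c ∈ C, FixedBy F c := by
  have hTop' : ∀ R : Subgroup Ω, R = S → ∀ β ∈ F.Hom (inducedFunctor W R),
      β.range = inducedFunctor W R → ∀ c ∈ C, ∀ hc : c ∈ inducedFunctor W R, β ⟨c, hc⟩ = c := by
    rintro R rfl
    exact hTop
  have claim : ∀ n : ℕ, ∀ U : Subgroup Ω, IsWP W F U →
      Nat.card S - Nat.card (normalizerIn S U) = n → ∀ ψ ∈ F.Hom U, ψ.range = U →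
      ∀ c ∈ C, ∀ hc : c ∈ U, ψ ⟨c, hc⟩ = c := by
    intro n
    induction n using Nat.strong_induction_on with
    | _ n ih =>
    intro U hWP hn
    obtain ⟨hUfn, hVWP⟩ := (isWP_iff F U).mp hWP
    have hUS : U ≤ S := hUfn.1
    apply local_fix hS W hWZ F hF C hCZ hLoc hUfn
    by_cases hRS : normalizerIn S U = S
    · exact hTop' _ hRS
    · have hRS' : normalizerIn S U ≤ S := normalizerIn_le S U
      have hNRNV : normalizerIn S (normalizerIn S U) ≤
          normalizerIn S (inducedFunctor W (normalizerIn S U)) :=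
        normalizerIn_le_normalizerIn_induced hS hW2 hRS'
      have hc1 : Nat.card (normalizerIn S U) < Nat.card (normalizerIn S (normalizerIn S U)) :=
        card_lt_card_normalizerIn hS hRS' hRS
      haveI : Finite (normalizerIn S (inducedFunctor W (normalizerIn S U))) :=
        finite_of_le (normalizerIn_le S _)
      have hc2 : Nat.card (normalizerIn S (normalizerIn S U)) ≤
          Nat.card (normalizerIn S (inducedFunctor W (normalizerIn S U))) :=
        Subgroup.card_le_of_le hNRNV
      have hc3 : Nat.card (normalizerIn S (inducedFunctor W (normalizerIn S U))) ≤ Nat.card S :=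
        Subgroup.card_le_of_le (normalizerIn_le S _)
      exact ih (Nat.card S - Nat.card (normalizerIn S (inducedFunctor W (normalizerIn S U))))
        (by omega) _ hVWP rfl
  apply fix_propagation hS F {U | IsWP W F U}
  · intro P hP
    obtain ⟨U, hc, hWP⟩ := exists_wp_conj hS hW2 F hF hP
    have hUfn : F.IsFullyNormalized U := ((isWP_iff F U).mp hWP).1
    exact ⟨U, hWP, hc, (fc_fa_of_fullyNormalized hS F hF hUfn).2,
      receptive_of_fullyNormalized hS F hF hUfn⟩
  · intro U hU ψ hψ hr x hx hxU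
    exact claim _ U hU rfl ψ hψ hr x hx hxU

end Cfsg.Agent.Lib.Helper54.FusGlobal
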