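/-
Control of the centre by the normalizer system of `W(S)`: assembly of the global step with the
description of central subgroups by fixed elements.
-/
import Cfsg.Agent.Lib.Helper54.FusGlobal
import Cfsg.Agent.S5084
import Cfsg.Agent.S5144

set_option autoImplicit false

universe u

namespace Cfsg.Agent.Lib.Helper54.FusCenter

open Cfsg Cfsg.FusionSystem Cfsg.Agent.Lib.Helper87 Cfsg.Agent.Lib.Helper54.FusWP
  Cfsg.Agent.Lib.Helper54.FusFix Cfsg.Agent.Lib.Helper54.FusLocal Cfsg.Agent.Lib.Helper54.FusGlobal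

variable {Ω : Type u} [Group Ω] {p : ℕ} {S : Subgroup Ω}

/-- Maps of a system fix the elements of a central subgroup. -/
theorem central_fixed (F : FusionSystem S) {Q : Subgroup Ω} (hQ : F.IsCentral Q) {P : Subgroup Ω}
    {φ : P →* Ω} (hφ : φ ∈ F.Hom P) {x : Ω} (hxQ : x ∈ Q) (hx : x ∈ P) : φ ⟨x, hx⟩ = x := by
  obtain ⟨ψ, -, hψe, hψQ⟩ := hQ.2 P φ hφ
  have h1 := hψe ⟨x, hx⟩
  have h2 := hψQ ⟨x, hxQ⟩
  have e : (Subgroup.inclusion (le_sup_left : P ≤ P ⊔ Q) ⟨x, hx⟩) =
      Subgroup.inclusion (le_sup_right : Q ≤ P ⊔ Q) ⟨x, hxQ⟩ := Subtype.ext rfl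
  rw [← h1, e, h2]

/-- A subgroup all of whose elements are fixed by every map is central (saturated case). -/
theorem isCentral_of_fixedBy [Finite S] [Fact p.Prime] (hS : IsPGroup p S) (F : FusionSystem S)
    (hF : F.IsSaturated p) {Q : Subgroup Ω} (hQS : Q ≤ S) (h : ∀ x ∈ Q, FixedBy F x) :
    F.IsCentral Q := by
  rw [Cfsg.Agent.S5084.result p hS F hF Q]
  refine ⟨hQS, fun x hx y hxy => ?_⟩
  obtain ⟨φ, hφ, rfl⟩ := hxy
  exact h x hx _ φ hφ _

theorem normalizerIn_induced_top [Finite S] (hS : IsPGroup p S)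
    {W : ∀ (Q : Type u) [Group Q], Subgroup Q}
    (hW2 : ∀ (Q R : Type u) [Group Q] [Group R] [Finite Q], IsPGroup p Q → ∀ φ : Q ≃* R,
      (W Q).map φ.toMonoidHom = W R) :
    normalizerIn S (inducedFunctor W S) = S := by
  apply le_antisymm (normalizerIn_le S _)
  have := normalizerIn_le_normalizerIn_induced (W := W) hS hW2 (le_refl S)
  exact le_trans (le_normalizerIn le_rfl) this

/-- The centre of `F` lies in the centre of the normalizer system of `W(S)`. -/
theorem center_le_center [Finite S] [Fact p.Prime] (hS : IsPGroup p S)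
    (W : ∀ (Q : Type u) [Group Q], Subgroup Q)
    (hW2 : ∀ (Q R : Type u) [Group Q] [Group R] [Finite Q], IsPGroup p Q → ∀ φ : Q ≃* R,
      (W Q).map φ.toMonoidHom = W R)
    (F : FusionSystem S) (hF : F.IsSaturated p)
    (N : FusionSystem (normalizerIn S (inducedFunctor W S)))
    (hN : F.IsNormalizerSystem (inducedFunctor W S) N) : F.center ≤ N.center := by
  have hTS : normalizerIn S (inducedFunctor W S) = S := normalizerIn_induced_top hS hW2
  have hTle : normalizerIn S (inducedFunctor W S) ≤ S := normalizerIn_le S _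
  haveI : Finite (normalizerIn S (inducedFunctor W S)) := finite_of_le hTle
  have hTp : IsPGroup p (normalizerIn S (inducedFunctor W S)) := hS.to_le hTle
  have hWS : inducedFunctor W S ≤ S := induced_le W S
  have hfn : F.IsFullyNormalized (inducedFunctor W S) :=
    fullyNormalized_of_normalizerIn_eq F hWS hTS
  have hNsat : N.IsSaturated p := Cfsg.Agent.S5098.result p hS F hF _ hfn N hN
  have hFc : F.IsCentral F.center := Cfsg.Agent.S5144.result F
  have hcen : N.IsCentral F.center := by
    apply isCentral_of_fixedBy hTp N hNsat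
    · rw [hTS]; exact hFc.1
    · intro x hx P φ hφ hxP
      have hφF : φ ∈ F.Hom P := by
        rw [hN P] at hφ
        exact hφ.1
      exact central_fixed F hFc hφF hx hxP
  exact le_sSup hcen

/-- A subgroup `C` of the centre of the normalizer system of `W(S)` for whose elements the local
hypothesis holds lies in the centre of `F`. -/
theorem le_center_of_localHyp [Finite S] [Fact p.Prime] (hS : IsPGroup p S)
    (W : ∀ (Q : Type u) [Group Q], Subgroup Q)
    (hW2 : ∀ (Q R : Type u) [Group Q] [Group R] [Finite Q], IsPGroup p Q → ∀ φ : Q ≃* R,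
      (W Q).map φ.toMonoidHom = W R)
    (hWZ : ∀ (Q : Type u) [Group Q] [Finite Q], IsPGroup p Q → Subgroup.center Q ≤ W Q)
    (F : FusionSystem S) (hF : F.IsSaturated p)
    (N : FusionSystem (normalizerIn S (inducedFunctor W S)))
    (hN : F.IsNormalizerSystem (inducedFunctor W S) N)
    (C : Subgroup Ω) (hCN : C ≤ N.center) (hLoc : LocalHyp p W S (C : Set Ω)) :
    C ≤ F.center := by
  have hTS : normalizerIn S (inducedFunctor W S) = S := normalizerIn_induced_top hS hW2
  have hTle : normalizerIn S (inducedFunctor W S) ≤ S := normalizerIn_le S _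
  haveI : Finite (normalizerIn S (inducedFunctor W S)) := finite_of_le hTle
  have hWS : inducedFunctor W S ≤ S := induced_le W S
  haveI : Finite (inducedFunctor W S) := finite_of_le hWS
  have hNc : N.IsCentral N.center := Cfsg.Agent.S5144.result N
  have hCS : C ≤ S := hCN.trans (hNc.1.trans hTle)
  have hCZ : ∀ c ∈ (C : Set Ω), c ∈ S ⊓ Subgroup.centralizer (S : Set Ω) := by
    intro c hc
    refine ⟨hCS hc, ?_⟩
    refine Subgroup.mem_centralizer_iff.mpr ?_
    intro s hs
    have hsT : s ∈ normalizerIn S (inducedFunctor W S) := by rw [hTS]; exact hs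
    have hφ : conjHom C s ∈ N.Hom C := N.conj_mem (hCN.trans hNc.1) hsT
    have h := central_fixed N hNc hφ (hCN hc) hc
    have h' : s * c * s⁻¹ = c := h
    calc s * c = s * c * s⁻¹ * s := by group
      _ = c * s := by rw [h']
  have hTop : ∀ β ∈ F.Hom (inducedFunctor W S), β.range = inducedFunctor W S →
      ∀ c ∈ (C : Set Ω), ∀ hc : c ∈ inducedFunctor W S, β ⟨c, hc⟩ = c := by
    intro β hβ hr c hcC hc
    have hβN : β ∈ N.Hom (inducedFunctor W S) := mem_normalizerSystem_of_range_eq F hWS hN hβ hr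
    exact central_fixed N hNc hβN (hCN hcC) hc
  have hfix := global_fix hS W hW2 hWZ F hF (C : Set Ω) hCZ hLoc hTop
  exact le_sSup (isCentral_of_fixedBy hS F hF hCS hfix)

end Cfsg.Agent.Lib.Helper54.FusCenter
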