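/-
Generation form of Alperin's fusion theorem for an arbitrary family of subgroups containing a fully
automized receptive conjugate of every subgroup: a fusion system `E` over the same group containing
the automorphisms (in `F`) of the members of the family contains all of `F`.
-/
import Cfsg.Agent.Lib.Helper54.FusFix

set_option autoImplicit false

namespace Cfsg.Agent.Lib.Helper54.FusGen

open Cfsg Cfsg.FusionSystem Cfsg.Agent.Lib.Helper87 Cfsg.Agent.Lib.Helper54.FusFix

variable {Ω : Type*} [Group Ω] {S : Subgroup Ω}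

/-- **Alperin's fusion theorem, generation form.**  Let `𝒰` contain a fully automized receptive
`F`-conjugate of every subgroup of `S`, and let `E` be a fusion system over `S` containing every
`F`-automorphism of every member of `𝒰`.  Then `E` contains every map of `F`. -/
theorem mem_propagation [Finite S] {p : ℕ} [Fact p.Prime] (hS : IsPGroup p S) (F E : FusionSystem S)
    (𝒰 : Set (Subgroup Ω))
    (h𝒰 : ∀ P : Subgroup Ω, P ≤ S → ∃ U ∈ 𝒰, F.IsConj P U ∧ F.IsFullyAutomized p U ∧ F.IsReceptive U)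
    (hE : ∀ U ∈ 𝒰, ∀ ψ : U →* Ω, ψ ∈ F.Hom U → ψ.range = U → ψ ∈ E.Hom U) :
    ∀ (P : Subgroup Ω) (φ : P →* Ω), φ ∈ F.Hom P → φ ∈ E.Hom P := by
  have key : ∀ n : ℕ, ∀ (P : Subgroup Ω), Nat.card S - Nat.card P = n → ∀ (φ : P →* Ω),
      φ ∈ F.Hom P → φ ∈ E.Hom P := by
    intro n
    induction n using Nat.strong_induction_on with
    | _ n ih =>
    intro P hn φ hφ
    have hP : P ≤ S := hom_le F hφ
    haveI hfinP : Finite P := finite_of_le hP
    obtain ⟨U, hU𝒰, hc, hfa, hrec⟩ := h𝒰 P hP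
    by_cases hPS : P = S
    · subst hPS
      have hUS : U = P := eq_top_of_isConj_top F hc
      subst hUS
      have hr : φ.range = U := range_eq_of_forall_mem F hφ (fun u => hom_mem_S F hφ u)
      exact hE U hU𝒰 φ hφ hr
    · have hcP' : F.IsConj P φ.range := ⟨φ, hφ, rfl⟩
      have hP'S : φ.range ≤ S := range_le F hφ
      have hcard' : Nat.card φ.range = Nat.card P := (card_eq_of_isConj F hcP').symm
      have hP'ne : φ.range ≠ S := by
        intro h
        apply hPS
        apply Subgroup.eq_of_le_of_card_ge hP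
        rw [← hcard', h]
      have hc' : F.IsConj φ.range U := isConj_trans F (isConj_symm F hcP') hc
      obtain ⟨χ, hχ, hχN, hχP, hχU⟩ := exists_normalizer_map hS F hfa hrec hc
      obtain ⟨χ', hχ', hχ'N, hχ'P, hχ'U⟩ := exists_normalizer_map hS F hfa hrec hc'
      have hlt : Nat.card P < Nat.card (normalizerIn S P) := card_lt_card_normalizerIn hS hP hPS
      have hlt' : Nat.card P < Nat.card (normalizerIn S φ.range) := by
        rw [← hcard']; exact card_lt_card_normalizerIn hS hP'S hP'ne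
      have hNS : Nat.card (normalizerIn S P) ≤ Nat.card S :=
        Subgroup.card_le_of_le (normalizerIn_le S P)
      have hNS' : Nat.card (normalizerIn S φ.range) ≤ Nat.card S :=
        Subgroup.card_le_of_le (normalizerIn_le S φ.range)
      have hPN : P ≤ normalizerIn S P := le_normalizerIn hP
      have hP'N : φ.range ≤ normalizerIn S φ.range := le_normalizerIn hP'S
      -- the two normalizer maps lie in `E`
      have hχE : χ ∈ E.Hom (normalizerIn S P) :=
        ih (Nat.card S - Nat.card (normalizerIn S P)) (by omega) _ rfl χ hχ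
      have hχ'E : χ' ∈ E.Hom (normalizerIn S φ.range) :=
        ih (Nat.card S - Nat.card (normalizerIn S φ.range)) (by omega) _ rfl χ' hχ'
      -- their restrictions
      have hχPmem : χ.comp (Subgroup.inclusion hPN) ∈ F.Hom P := restrict_mem F hχ hPN
      have hχPmemE : χ.comp (Subgroup.inclusion hPN) ∈ E.Hom P := restrict_mem E hχE hPN
      have hχPr : (χ.comp (Subgroup.inclusion hPN)).range = U := by
        apply le_antisymm
        · rintro _ ⟨y, rfl⟩
          exact hχP ⟨y, hPN y.2⟩ y.2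
        · intro q hq
          obtain ⟨y, hyP, hy⟩ := hχU q hq
          exact ⟨⟨y, hyP⟩, hy⟩
      have hχ'Pmem : χ'.comp (Subgroup.inclusion hP'N) ∈ F.Hom φ.range := restrict_mem F hχ' hP'N
      have hχ'PmemE : χ'.comp (Subgroup.inclusion hP'N) ∈ E.Hom φ.range :=
        restrict_mem E hχ'E hP'N
      have hχ'Pr : (χ'.comp (Subgroup.inclusion hP'N)).range = U := by
        apply le_antisymm
        · rintro _ ⟨y, rfl⟩
          exact hχ'P ⟨y, hP'N y.2⟩ y.2
        · intro q hq
          obtain ⟨y, hyP, hy⟩ := hχ'U q hq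
          exact ⟨⟨y, hyP⟩, hy⟩
      -- the automorphism of `U`
      obtain ⟨ψ₁, hψ₁, hψ₁inv, hψ₁r⟩ := inv_exists F hχPmem hχPr
      have hψ₁P : ∀ u : U, ψ₁ u ∈ P := fun u => hψ₁r ▸ ⟨u, rfl⟩
      have hα₁ := F.comp_mem hψ₁ hφ hψ₁P
      have hα₁r : ∀ u : U, (φ.comp (ψ₁.codRestrict P hψ₁P)) u ∈ φ.range := fun u => ⟨_, rfl⟩
      have hα := F.comp_mem hα₁ hχ'Pmem hα₁r
      have hαU : ∀ u : U, ((χ'.comp (Subgroup.inclusion hP'N)).comp
          ((φ.comp (ψ₁.codRestrict P hψ₁P)).codRestrict φ.range hα₁r)) u ∈ U := by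
        intro u
        exact hχ'P _ (hα₁r u)
      have hαr := range_eq_of_forall_mem F hα hαU
      have hαE := hE U hU𝒰 _ hα hαr
      -- the inverse of the restriction of `χ'` in `E`
      obtain ⟨ψ₂, hψ₂, hψ₂inv, hψ₂r⟩ := inv_exists E hχ'PmemE hχ'Pr
      -- compose in `E`
      have hU₁ : ∀ x : P, (χ.comp (Subgroup.inclusion hPN)) x ∈ U := fun x => hχP _ x.2
      have hc1 := E.comp_mem hχPmemE hαE hU₁
      have hU₂ : ∀ x : P, (((χ'.comp (Subgroup.inclusion hP'N)).comp
          ((φ.comp (ψ₁.codRestrict P hψ₁P)).codRestrict φ.range hα₁r)).comp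
          ((χ.comp (Subgroup.inclusion hPN)).codRestrict U hU₁)) x ∈ U := fun x => hαU _
      have hc2 := E.comp_mem hc1 hψ₂ hU₂
      -- identify with `φ`
      have e : ψ₂.comp ((((χ'.comp (Subgroup.inclusion hP'N)).comp
          ((φ.comp (ψ₁.codRestrict P hψ₁P)).codRestrict φ.range hα₁r)).comp
          ((χ.comp (Subgroup.inclusion hPN)).codRestrict U hU₁)).codRestrict U hU₂) = φ := by
        ext x
        have e1 : ψ₁ ((χ.comp (Subgroup.inclusion hPN)).codRestrict U hU₁ x) = x :=
          hψ₁inv x (hU₁ x)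
        have e2 : (ψ₁.codRestrict P hψ₁P) ((χ.comp (Subgroup.inclusion hPN)).codRestrict U hU₁ x)
            = x := Subtype.ext e1
        have hmem : (χ'.comp (Subgroup.inclusion hP'N)) ⟨φ x, ⟨x, rfl⟩⟩ ∈ U :=
          hχ'P _ ⟨x, rfl⟩
        have e3 := hψ₂inv ⟨φ x, ⟨x, rfl⟩⟩ hmem
        show ψ₂ ⟨(χ'.comp (Subgroup.inclusion hP'N)) ⟨φ ((ψ₁.codRestrict P hψ₁P)
          ((χ.comp (Subgroup.inclusion hPN)).codRestrict U hU₁ x)), _⟩, _⟩ = φ x
        have e4 : (⟨(χ'.comp (Subgroup.inclusion hP'N)) ⟨φ ((ψ₁.codRestrict P hψ₁P)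
            ((χ.comp (Subgroup.inclusion hPN)).codRestrict U hU₁ x)), ⟨_, rfl⟩⟩, hU₂ x⟩ : U) =
            ⟨(χ'.comp (Subgroup.inclusion hP'N)) ⟨φ x, ⟨x, rfl⟩⟩, hmem⟩ := by
          apply Subtype.ext
          show (χ'.comp (Subgroup.inclusion hP'N)) ⟨φ ((ψ₁.codRestrict P hψ₁P)
            ((χ.comp (Subgroup.inclusion hPN)).codRestrict U hU₁ x)), _⟩ =
            (χ'.comp (Subgroup.inclusion hP'N)) ⟨φ x, _⟩
          congr 1
          apply Subtype.ext
          show φ ((ψ₁.codRestrict P hψ₁P)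
            ((χ.comp (Subgroup.inclusion hPN)).codRestrict U hU₁ x)) = φ x
          rw [e2]
        rw [e4]
        exact e3
      rw [e] at hc2
      exact hc2
  intro P φ hφ
  exact key _ P rfl φ hφ

end Cfsg.Agent.Lib.Helper54.FusGen
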