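/-
Control of transfer in finite groups gives control of transfer in constrained fusion systems.
-/
import Cfsg.Agent.Lib.Helper54.FusFoc
import Cfsg.Agent.Lib.Helper54.FusWP
import Cfsg.Agent.Lib.Helper87.ModelCore
import Mathlib.GroupTheory.Focal

set_option autoImplicit false

universe u

namespace Cfsg.Agent.Lib.Helper54.FusGrpCtl

open Cfsg Cfsg.FusionSystem Cfsg.Agent.Lib.Helper87 Cfsg.Agent.Lib.Helper54.FusWP
  Cfsg.Agent.Lib.Helper54.FusFix Cfsg.Agent.Lib.Helper54.FusFoc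
open Cfsg.Agent.Lib.Helper88 (liftConj liftConj_mem ι_liftConj ι_eq)
open scoped commutatorElement

/-- `W` controls transfer in every finite group (of the universe). -/
def GrpCtl (p : ℕ) (W : ∀ (Q : Type u) [Group Q], Subgroup Q) : Prop :=
  ∀ (L : Type u) [Group L] [Finite L] (P : Sylow p L),
    (P : Subgroup L) ⊓ commutator L ≤
      ⁅Subgroup.normalizer ((inducedFunctor W (P : Subgroup L) : Subgroup L) : Set L),
        Subgroup.normalizer ((inducedFunctor W (P : Subgroup L) : Subgroup L) : Set L)⁆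

/-- The focal subgroup theorem in a subgroup `N` containing the Sylow subgroup `P`. -/
theorem inf_commutator_le_closure {L : Type u} [Group L] [Finite L] {p : ℕ} [Fact p.Prime]
    (P : Sylow p L) (N : Subgroup L) (hPN : (P : Subgroup L) ≤ N) :
    (P : Subgroup L) ⊓ ⁅N, N⁆ ≤
      Subgroup.closure {h : L | h ∈ (P : Subgroup L) ∧ ∃ a ∈ (P : Subgroup L), ∃ u ∈ N, h = ⁅a, u⁆} := by
  rintro y ⟨hyP, hyN⟩
  rw [← Subgroup.map_subtype_commutator] at hyN
  obtain ⟨y', hy', rfl⟩ := hyN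
  have h1 : y' ∈ _root_.commutator ↥N ⊓ ((P.subtype hPN : Sylow p ↥N) : Subgroup ↥N) :=
    ⟨hy', Subgroup.mem_subgroupOf.mpr hyP⟩
  rw [Subgroup.commutator_inf_eq_focalSubgroup] at h1
  have hle : ((P.subtype hPN : Sylow p ↥N) : Subgroup ↥N).focalSubgroup ≤
      (Subgroup.closure {h : L | h ∈ (P : Subgroup L) ∧ ∃ a ∈ (P : Subgroup L), ∃ u ∈ N,
        h = ⁅a, u⁆}).comap N.subtype := by
    rw [Subgroup.focalSubgroup_def, Subgroup.closure_le]
    rintro g ⟨hg, x, hx, u, rfl⟩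
    apply Subgroup.subset_closure
    refine ⟨Subgroup.mem_subgroupOf.mp hg, (x : L), Subgroup.mem_subgroupOf.mp hx, (u : L), u.2, ?_⟩
    rfl
  exact hle h1

variable {Ω : Type u} [Group Ω] {p : ℕ}

/-- Control of transfer in a constrained system, through a model. -/
theorem constrained_control {T : Subgroup Ω} [Finite T] [Fact p.Prime] (hT : IsPGroup p T)
    (W : ∀ (Q : Type u) [Group Q], Subgroup Q)
    (hW2 : ∀ (Q R : Type u) [Group Q] [Group R] [Finite Q], IsPGroup p Q → ∀ φ : Q ≃* R,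
      (W Q).map φ.toMonoidHom = W R)
    (hG : GrpCtl p W)
    (E : FusionSystem T) {L : Type u} [Group L] {ι : T →* L} (hM : E.IsModel p L ι) :
    E.focalSubgroup ≤ focN E (inducedFunctor W T) := by
  obtain ⟨hfin, ⟨hinj, hiff⟩, ⟨P, hP⟩, hcent⟩ := hM
  haveI := hfin
  have hVT : inducedFunctor W T ≤ T := induced_le W T
  have hWP : inducedFunctor W (P : Subgroup L) = (W ↥T).map ι := by
    have h := induced_range' hW2 hT ι hinj
    rw [← hP] at h
    exact h
  have hmemW : ∀ w : inducedFunctor W T, ι ⟨w, hVT w.2⟩ ∈ (W ↥T).map ι := by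
    intro w
    obtain ⟨q, hq, hqw⟩ := (mem_induced W).mp w.2
    refine ⟨q, hq, ?_⟩
    congr 1
    exact Subtype.ext hqw
  have hPN : (P : Subgroup L) ≤
      Subgroup.normalizer ((inducedFunctor W (P : Subgroup L) : Subgroup L) : Set L) :=
    le_trans Subgroup.le_normalizer (normalizer_le_normalizer_induced hW2 P.isPGroup')
  -- Step 1: images of focal elements are commutators
  have h1 : ∀ x ∈ E.focalSubgroup, ∃ hx : x ∈ T, ι ⟨x, hx⟩ ∈ _root_.commutator L := by
    have hle : E.focalSubgroup ≤ ((_root_.commutator L).comap ι).map T.subtype := by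
      unfold focalSubgroup
      rw [Subgroup.closure_le]
      rintro y ⟨Q, φ, x, hφ, rfl⟩
      have hQT : Q ≤ T := hom_le E hφ
      have hφT : ∀ x : Q, φ x ∈ T := fun x => hom_mem_S E hφ x
      obtain ⟨g, hg⟩ := (hiff Q hQT φ hφT).mp hφ
      refine ⟨⟨x, hQT x.2⟩⁻¹ * ⟨φ x, hφT x⟩, ?_, rfl⟩
      show ι (⟨x, hQT x.2⟩⁻¹ * ⟨φ x, hφT x⟩) ∈ _root_.commutator L
      rw [map_mul, map_inv, hg x]
      have e : (ι ⟨x, hQT x.2⟩)⁻¹ * (g * ι ⟨x, hQT x.2⟩ * g⁻¹) = ⁅(ι ⟨x, hQT x.2⟩)⁻¹, g⁆ := by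
        rw [commutatorElement_def]; group
      rw [e, commutator_def]
      exact Subgroup.commutator_mem_commutator (Subgroup.mem_top _) (Subgroup.mem_top _)
    intro x hx
    obtain ⟨t, ht, rfl⟩ := hle hx
    exact ⟨t.2, ht⟩
  -- Step 4: generators pull back to the focal subgroup of the normalizer system
  have h4 : Subgroup.closure {h : L | h ∈ (P : Subgroup L) ∧ ∃ a ∈ (P : Subgroup L),
      ∃ u ∈ Subgroup.normalizer ((inducedFunctor W (P : Subgroup L) : Subgroup L) : Set L),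
        h = ⁅a, u⁆} ≤ ((focN E (inducedFunctor W T)).subgroupOf T).map ι := by
    rw [Subgroup.closure_le]
    rintro h ⟨hhP, a, haP, u, hu, rfl⟩
    rw [hWP] at hu
    have haR : a ∈ ι.range := by rw [← hP]; exact haP
    obtain ⟨a₀, rfl⟩ := haR
    -- the element `b₀ = a₀⁻¹`
    have hb : u * ι a₀⁻¹ * u⁻¹ ∈ ι.range := by
      rw [← hP]
      have e : u * ι a₀⁻¹ * u⁻¹ = (ι a₀)⁻¹ * ⁅ι a₀, u⁆ := by
        rw [commutatorElement_def, map_inv]; group
      rw [e]
      exact Subgroup.mul_mem _ (Subgroup.inv_mem _ haP) hhP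
    have hconjW : ∀ w : inducedFunctor W T, u * ι ⟨w, hVT w.2⟩ * u⁻¹ ∈ (W ↥T).map ι := fun w =>
      (Subgroup.mem_normalizer_iff.mp hu _).mp (hmemW w)
    have hQT : Subgroup.zpowers ((a₀⁻¹ : T) : Ω) ⊔ inducedFunctor W T ≤ T :=
      sup_le (by rw [Subgroup.zpowers_le]; exact (a₀⁻¹).2) hVT
    -- conjugation by `u` maps the image of `Q` into the image of `T`
    have hg : ∀ q : ↥(Subgroup.zpowers ((a₀⁻¹ : T) : Ω) ⊔ inducedFunctor W T),
        u * ι ⟨q, hQT q.2⟩ * u⁻¹ ∈ ι.range := by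
      have hK : Subgroup.zpowers ((a₀⁻¹ : T) : Ω) ⊔ inducedFunctor W T ≤
          ((ι.range.comap (MulAut.conj u).toMonoidHom).comap ι).map T.subtype := by
        apply sup_le
        · rw [Subgroup.zpowers_le]
          refine ⟨a₀⁻¹, ?_, rfl⟩
          show u * ι a₀⁻¹ * u⁻¹ ∈ ι.range
          exact hb
        · intro w hw
          refine ⟨⟨w, hVT hw⟩, ?_, rfl⟩
          show u * ι ⟨w, hVT hw⟩ * u⁻¹ ∈ ι.range
          exact Subgroup.map_le_range _ _ (hconjW ⟨w, hw⟩)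
      intro q
      obtain ⟨t, ht, htq⟩ := hK q.2
      have : t = ⟨q, hQT q.2⟩ := Subtype.ext htq
      rw [← this]
      exact ht
    have hψT := liftConj_mem ι hinj hQT u hg
    have hψ : liftConj ι hinj hQT u hg ∈
        E.Hom (Subgroup.zpowers ((a₀⁻¹ : T) : Ω) ⊔ inducedFunctor W T) :=
      (hiff _ hQT _ hψT).mpr ⟨u, fun w => ι_liftConj ι hinj hQT u hg w _⟩
    -- it maps `W(T)` onto `W(T)`
    have hψW : ∀ (w : Ω) (hw : w ∈ inducedFunctor W T),
        liftConj ι hinj hQT u hg ⟨w, (le_sup_right : inducedFunctor W T ≤ _) hw⟩ ∈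
          inducedFunctor W T := by
      intro w hw
      have h3 := ι_liftConj ι hinj hQT u hg ⟨w, (le_sup_right : inducedFunctor W T ≤ _) hw⟩
        (hψT _)
      have h4 := hconjW ⟨w, hw⟩
      rw [← h3] at h4
      obtain ⟨q, hq, hqe⟩ := h4
      have hq' := hinj hqe
      exact (mem_induced W).mpr ⟨q, hq, by rw [hq']⟩
    have hψWsurj : ∀ w ∈ inducedFunctor W T, ∃ (w' : Ω) (hw' : w' ∈ inducedFunctor W T),
        liftConj ι hinj hQT u hg ⟨w', (le_sup_right : inducedFunctor W T ≤ _) hw'⟩ = w := by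
      haveI : Finite (inducedFunctor W T) := finite_of_le hVT
      let f : inducedFunctor W T → inducedFunctor W T := fun w =>
        ⟨liftConj ι hinj hQT u hg ⟨w, (le_sup_right : inducedFunctor W T ≤ _) w.2⟩, hψW w w.2⟩
      have hf : Function.Injective f := by
        intro a b hab
        have h5 : liftConj ι hinj hQT u hg ⟨a, (le_sup_right : inducedFunctor W T ≤ _) a.2⟩ =
            liftConj ι hinj hQT u hg ⟨b, (le_sup_right : inducedFunctor W T ≤ _) b.2⟩ :=
          congrArg (fun z : inducedFunctor W T => (z : Ω)) hab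
        have h6 := E.injective_of_mem hψ h5
        exact Subtype.ext (congrArg
          (fun z : ↥(Subgroup.zpowers ((a₀⁻¹ : T) : Ω) ⊔ inducedFunctor W T) => (z : Ω)) h6)
      have hfs : Function.Surjective f := Finite.injective_iff_surjective.mp hf
      intro w hw
      obtain ⟨w', hw'⟩ := hfs ⟨w, hw⟩
      exact ⟨w', w'.2, congrArg (fun z : inducedFunctor W T => (z : Ω)) hw'⟩
    -- the restriction to the cyclic subgroup is a map of the normalizer system
    have hTN : T ≤ normalizerIn T (inducedFunctor W T) := by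
      have h5 := normalizer_le_normalizer_induced (W := W) hW2 hT
      exact le_inf le_rfl (le_trans Subgroup.le_normalizer h5)
    have hφ : (liftConj ι hinj hQT u hg).comp (Subgroup.inclusion le_sup_left) ∈
        E.normalizerHom (inducedFunctor W T) (Subgroup.zpowers ((a₀⁻¹ : T) : Ω)) := by
      refine ⟨restrict_mem E hψ le_sup_left, (le_sup_left.trans hQT).trans hTN,
        fun x => hTN (hψT _), liftConj ι hinj hQT u hg, hψ, fun x => rfl, ?_⟩
      rw [map_subgroupOf_eq_iff]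
      exact ⟨fun y hy => hψW y hy, fun q hq => by
        obtain ⟨w', hw', hq'⟩ := hψWsurj q hq
        exact ⟨⟨w', (le_sup_right : inducedFunctor W T ≤ _) hw'⟩, hw', hq'⟩⟩
    have hgen := mem_focN E hφ ⟨((a₀⁻¹ : T) : Ω), Subgroup.mem_zpowers _⟩
    have hgenT : (((⟨((a₀⁻¹ : T) : Ω), Subgroup.mem_zpowers _⟩ :
        Subgroup.zpowers ((a₀⁻¹ : T) : Ω)) : Ω))⁻¹ *
        ((liftConj ι hinj hQT u hg).comp (Subgroup.inclusion le_sup_left))
          ⟨((a₀⁻¹ : T) : Ω), Subgroup.mem_zpowers _⟩ ∈ T :=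
      focal_le_S E (focN_le_focal E _ hgen)
    refine ⟨⟨_, hgenT⟩, Subgroup.mem_subgroupOf.mpr hgen, ?_⟩
    -- compute the image
    have h7 := ι_liftConj ι hinj hQT u hg
      ⟨((a₀⁻¹ : T) : Ω), (le_sup_left : Subgroup.zpowers ((a₀⁻¹ : T) : Ω) ≤ _)
        (Subgroup.mem_zpowers _)⟩ (hψT _)
    have e8 : (⟨_, hgenT⟩ : T) = (a₀⁻¹)⁻¹ * ⟨liftConj ι hinj hQT u hg
        ⟨((a₀⁻¹ : T) : Ω), (le_sup_left : Subgroup.zpowers ((a₀⁻¹ : T) : Ω) ≤ _)
          (Subgroup.mem_zpowers _)⟩, hψT _⟩ := Subtype.ext rfl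
    rw [e8, map_mul, h7, map_inv]
    have e9 : (⟨((a₀⁻¹ : T) : Ω), hQT ((le_sup_left : Subgroup.zpowers ((a₀⁻¹ : T) : Ω) ≤ _)
        (Subgroup.mem_zpowers _))⟩ : T) = a₀⁻¹ := Subtype.ext rfl
    rw [e9, map_inv, commutatorElement_def]
    group
  -- assemble
  intro x hx
  obtain ⟨hxT, hxc⟩ := h1 x hx
  have hxP : ι ⟨x, hxT⟩ ∈ (P : Subgroup L) := by rw [hP]; exact ⟨_, rfl⟩
  have h2 := hG L P ⟨hxP, hxc⟩
  have h3 := inf_commutator_le_closure P _ hPN ⟨hxP, h2⟩
  obtain ⟨t, ht, hte⟩ := h4 h3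
  have : t = ⟨x, hxT⟩ := hinj hte
  rw [this] at ht
  exact Subgroup.mem_subgroupOf.mp ht

end Cfsg.Agent.Lib.Helper54.FusGrpCtl
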