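/-
Factor systems and focal subgroups: the image of the focal subgroup, lifting the focal subgroup of a
normalizer system of the factor system.
-/
import Cfsg.Agent.Lib.Helper54.FusFoc
import Cfsg.Agent.Lib.Helper88.FactorSystem
import Cfsg.Agent.S5132
import Cfsg.Agent.S5133
import Cfsg.Agent.S5134

set_option autoImplicit false

namespace Cfsg.Agent.Lib.Helper54.FusQuot

open Cfsg Cfsg.FusionSystem Cfsg.Agent.Lib.Helper87 Cfsg.Agent.Lib.Helper54.FusFix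
  Cfsg.Agent.Lib.Helper54.FusFoc
open Cfsg.Agent.Lib.Helper88 (mem_preimageAlong preimageAlong_le preimageAlong_mem)
open scoped commutatorElement

variable {Ω Ω' : Type*} [Group Ω] [Group Ω'] {S : Subgroup Ω} {S' : Subgroup Ω'}

/-- The image of the focal subgroup under a morphism lies in the focal subgroup. -/
theorem focal_map (F : FusionSystem S) (E : FusionSystem S') (θ : S →* Ω')
    (hmor : F.IsMorphism E θ) :
    ∀ x ∈ F.focalSubgroup, ∀ hx : x ∈ S, θ ⟨x, hx⟩ ∈ E.focalSubgroup := by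
  have hle : F.focalSubgroup ≤ (E.focalSubgroup.comap θ).map S.subtype := by
    unfold focalSubgroup
    rw [Subgroup.closure_le]
    rintro y ⟨P, φ, x, hφ, rfl⟩
    obtain ⟨φ', hφ', hP, hφS, hP', hind⟩ := hmor.2 P φ hφ
    refine ⟨⟨x, hP x.2⟩⁻¹ * ⟨φ x, hφS x⟩, ?_, rfl⟩
    show θ (⟨x, hP x.2⟩⁻¹ * ⟨φ x, hφS x⟩) ∈ E.focalSubgroup
    rw [map_mul, map_inv, ← hind x]
    exact mem_focal E hφ' ⟨θ ⟨x, hP x.2⟩, hP' x⟩
  intro x hx hxS
  obtain ⟨s, hs, hsx⟩ := hle hx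
  have : s = ⟨x, hxS⟩ := Subtype.ext hsx
  rw [← this]
  exact hs

/-- Elements of the focal subgroup of the normalizer system of `X̄` in the factor system lift to the
focal subgroup of the normalizer system of the full preimage `X`, for `X` normalized by `S`. -/
theorem focN_lift [Finite S] (F : FusionSystem S) (E : FusionSystem S') (θ : S →* Ω')
    (hsurj : F.IsSurjectiveMorphism E θ) (Xb : Subgroup Ω')
    (hXN : S ≤ Subgroup.normalizer ((preimageAlong θ Xb : Subgroup Ω) : Set Ω)) :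
    focN E Xb ≤ ((focN F (preimageAlong θ Xb)).subgroupOf S).map θ := by
  have hXS : preimageAlong θ Xb ≤ S := preimageAlong_le θ Xb
  haveI : Finite (preimageAlong θ Xb) := finite_of_le hXS
  have hNS : normalizerIn S (preimageAlong θ Xb) = S := le_antisymm inf_le_left (le_inf le_rfl hXN)
  refine (Subgroup.closure_le _).mpr ?_
  rintro y ⟨P', φ', y, ⟨hφ', hP'N, hval, ψ', hψ', hext, hmap⟩, rfl⟩
  have hP'S' : P' ≤ S' := hom_le E hφ'
  have hsupS' : P' ⊔ Xb ≤ S' := hom_le E hψ'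
  obtain ⟨ψ, hψ, hPt, hψS, hPt', hind⟩ := hsurj.2.2 (P' ⊔ Xb) hsupS' ψ' hψ'
  obtain ⟨h1, h2⟩ := (map_subgroupOf_eq_iff ψ').mp hmap
  -- `X ≤ P̃`
  have hXP : preimageAlong θ Xb ≤ preimageAlong θ (P' ⊔ Xb) := by
    intro x hx
    obtain ⟨hxS, hxX⟩ := mem_preimageAlong.mp hx
    exact mem_preimageAlong.mpr ⟨hxS, (le_sup_right : Xb ≤ P' ⊔ Xb) hxX⟩
  -- `ψ` maps `X` into `X`
  have hψX : ∀ x : ↥(preimageAlong θ (P' ⊔ Xb)), (x : Ω) ∈ preimageAlong θ Xb →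
      ψ x ∈ preimageAlong θ Xb := by
    intro x hx
    obtain ⟨hxS, hxX⟩ := mem_preimageAlong.mp hx
    refine mem_preimageAlong.mpr ⟨hψS x, ?_⟩
    rw [← hind x]
    have e : (⟨θ ⟨x, hPt x.2⟩, hPt' x⟩ : ↥(P' ⊔ Xb)) = ⟨θ ⟨x, hxS⟩, (le_sup_right : Xb ≤ _) hxX⟩ :=
      Subtype.ext rfl
    rw [e]
    exact h1 _ hxX
  have hψXsurj : ∀ q ∈ preimageAlong θ Xb, ∃ x : ↥(preimageAlong θ (P' ⊔ Xb)),
      (x : Ω) ∈ preimageAlong θ Xb ∧ ψ x = q := by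
    let f : preimageAlong θ Xb → preimageAlong θ Xb := fun x => ⟨ψ ⟨x, hXP x.2⟩, hψX _ x.2⟩
    have hf : Function.Injective f := by
      intro a b hab
      have h5 : ψ ⟨a, hXP a.2⟩ = ψ ⟨b, hXP b.2⟩ :=
        congrArg (fun z : preimageAlong θ Xb => (z : Ω)) hab
      have h6 := F.injective_of_mem hψ h5
      exact Subtype.ext (congrArg (fun z : ↥(preimageAlong θ (P' ⊔ Xb)) => (z : Ω)) h6)
    have hfs : Function.Surjective f := Finite.injective_iff_surjective.mp hf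
    intro q hq
    obtain ⟨x, hx⟩ := hfs ⟨q, hq⟩
    exact ⟨⟨x, hXP x.2⟩, x.2, congrArg (fun z : preimageAlong θ Xb => (z : Ω)) hx⟩
  -- `ψ` is a map of the normalizer system of `X`
  have e : preimageAlong θ (P' ⊔ Xb) = preimageAlong θ (P' ⊔ Xb) ⊔ preimageAlong θ Xb :=
    (sup_eq_left.mpr hXP).symm
  have hψN : ψ ∈ F.normalizerHom (preimageAlong θ Xb) (preimageAlong θ (P' ⊔ Xb)) := by
    refine ⟨hψ, by rw [hNS]; exact hPt, fun x => by rw [hNS]; exact hψS x,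
      ψ.comp (Subgroup.inclusion e.ge), cast_mem F e hψ, fun x => rfl, ?_⟩
    rw [map_subgroupOf_eq_iff]
    refine ⟨fun z hz => hψX _ hz, fun q hq => ?_⟩
    obtain ⟨x, hx, hxq⟩ := hψXsurj q hq
    exact ⟨⟨x, e.le x.2⟩, hx, hxq⟩
  -- lift `y`
  have hyS' : (y : Ω') ∈ θ.range := by rw [hsurj.2.1]; exact hP'S' y.2
  obtain ⟨s, hs⟩ := hyS'
  have hsP : (s : Ω) ∈ preimageAlong θ (P' ⊔ Xb) :=
    mem_preimageAlong.mpr ⟨s.2, by rw [hs]; exact (le_sup_left : P' ≤ P' ⊔ Xb) y.2⟩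
  have hgen := mem_focN F hψN ⟨s, hsP⟩
  refine ⟨s⁻¹ * ⟨ψ ⟨s, hsP⟩, hψS _⟩, Subgroup.mem_subgroupOf.mpr
    (show ((s⁻¹ * ⟨ψ ⟨s, hsP⟩, hψS _⟩ : S) : Ω) ∈ focN F (preimageAlong θ Xb) from hgen), ?_⟩
  have e1 : θ ⟨ψ ⟨s, hsP⟩, hψS _⟩ = ψ' ⟨θ ⟨(s : Ω), hPt hsP⟩, hPt' ⟨s, hsP⟩⟩ :=
    (hind ⟨s, hsP⟩).symm
  have e2 : (⟨θ ⟨(s : Ω), hPt hsP⟩, hPt' ⟨s, hsP⟩⟩ : ↥(P' ⊔ Xb)) =
      Subgroup.inclusion le_sup_left y := Subtype.ext hs
  rw [map_mul, map_inv, e1, e2, hext y, hs]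

/-- An element of `S` whose image lies in the image of `M ≤ S` lies in `M ⊔ U`, `U` the kernel. -/
theorem mem_sup_of_map_mem (θ : S →* Ω') (U : Subgroup Ω)
    (hker : ∀ s : S, θ s = 1 ↔ (s : Ω) ∈ U) (M : Subgroup Ω) {x : Ω} (hx : x ∈ S)
    (h : θ ⟨x, hx⟩ ∈ (M.subgroupOf S).map θ) : x ∈ M ⊔ U := by
  obtain ⟨m, hm, hmx⟩ := h
  have hk : θ (m⁻¹ * ⟨x, hx⟩) = 1 := by rw [map_mul, map_inv, hmx, inv_mul_cancel]
  have hu : ((m⁻¹ * ⟨x, hx⟩ : S) : Ω) ∈ U := (hker _).mp hk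
  have e : x = (m : Ω) * ((m⁻¹ * ⟨x, hx⟩ : S) : Ω) := by
    show x = (m : Ω) * ((m : Ω)⁻¹ * x)
    group
  rw [e]
  exact Subgroup.mul_mem _ ((le_sup_left : M ≤ M ⊔ U) (Subgroup.mem_subgroupOf.mp hm))
    ((le_sup_right : U ≤ M ⊔ U) hu)

/-- The derived subgroup of the image lies in the image of the derived subgroup. -/
theorem commutator_range_le (θ : S →* Ω') :
    ⁅θ.range, θ.range⁆ ≤ ((⁅S, S⁆ : Subgroup Ω).subgroupOf S).map θ := by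
  rw [Subgroup.commutator_le]
  rintro _ ⟨s, rfl⟩ _ ⟨t, rfl⟩
  refine ⟨⁅s, t⁆, Subgroup.mem_subgroupOf.mpr ?_, map_commutatorElement θ s t⟩
  show ((⁅s, t⁆ : S) : Ω) ∈ ⁅S, S⁆
  have e : ((⁅s, t⁆ : S) : Ω) = ⁅(s : Ω), (t : Ω)⁆ := by
    rw [commutatorElement_def, commutatorElement_def]
    rfl
  rw [e]
  exact Subgroup.commutator_mem_commutator s.2 t.2

end Cfsg.Agent.Lib.Helper54.FusQuot
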