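/-
A normal subgroup `U` of a saturated fusion system meets the focal subgroup inside
`[S,S] [U, Aut_F(U)]`.
-/
import Cfsg.Agent.Lib.Helper54.FusQuot
import Cfsg.Agent.Lib.Helper54.FusCenter
import Cfsg.Agent.Lib.Helper87.HypAct
import Cfsg.Agent.Lib.Helper87.ConstrainedNormal
import Cfsg.Agent.S5329

set_option autoImplicit false

universe u

namespace Cfsg.Agent.Lib.Helper54.FusNormalFoc

open Cfsg Cfsg.FusionSystem Cfsg.Agent.Lib.Helper87 Cfsg.Agent.Lib.Helper54.FusFix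
  Cfsg.Agent.Lib.Helper54.FusFoc Cfsg.Agent.Lib.Helper54.FusQuot Cfsg.Agent.Lib.Helper54.FusCenter
open Cfsg.Agent.Lib.Helper88 (mem_preimageAlong preimageAlong_le preimageAlong_mem)
open scoped commutatorElement

variable {Ω : Type u} [Group Ω] {S : Subgroup Ω} {p : ℕ}

/-- `[U, Aut_F(U)]`. -/
def autComm (F : FusionSystem S) (U : Subgroup Ω) : Subgroup Ω :=
  Subgroup.closure {y : Ω | ∃ (α : MulAut U) (u : U), α ∈ F.autGroup U ∧
    y = (u : Ω)⁻¹ * ((α u : U) : Ω)}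

theorem autComm_le (F : FusionSystem S) (U : Subgroup Ω) : autComm F U ≤ U := by
  unfold autComm
  rw [Subgroup.closure_le]
  rintro y ⟨α, u, -, rfl⟩
  exact U.mul_mem (U.inv_mem u.2) (α u).2

theorem mem_autComm (F : FusionSystem S) {U : Subgroup Ω} {α : MulAut U} (hα : α ∈ F.autGroup U)
    (u : U) : (u : Ω)⁻¹ * ((α u : U) : Ω) ∈ autComm F U :=
  Subgroup.subset_closure ⟨α, u, hα, rfl⟩

theorem autComm_apply_mem (F : FusionSystem S) {U : Subgroup Ω} {α : MulAut U}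
    (hα : α ∈ F.autGroup U) (v : U) (hv : (v : Ω) ∈ autComm F U) :
    ((α v : U) : Ω) ∈ autComm F U := by
  have key : ∀ y ∈ autComm F U, ∀ hy : y ∈ U, ((α ⟨y, hy⟩ : U) : Ω) ∈ autComm F U := by
    intro y hy
    unfold autComm at hy
    induction hy using Subgroup.closure_induction with
    | mem y hy =>
      obtain ⟨β, u, hβ, rfl⟩ := hy
      intro hyU
      have e : (⟨(u : Ω)⁻¹ * ((β u : U) : Ω), hyU⟩ : U) = u⁻¹ * β u := Subtype.ext rfl
      rw [e, map_mul, map_inv]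
      have hγ : α * β * α⁻¹ ∈ F.autGroup U :=
        (F.autGroup U).mul_mem ((F.autGroup U).mul_mem hα hβ) ((F.autGroup U).inv_mem hα)
      have h := mem_autComm F hγ (α u)
      have e2 : (α * β * α⁻¹) (α u) = α (β u) := by
        simp [MulAut.mul_apply]
      rw [e2] at h
      exact h
    | one =>
      intro h
      have : (⟨1, h⟩ : U) = 1 := rfl
      rw [this, map_one]
      exact Subgroup.one_mem _
    | mul a b ha hb iha ihb =>
      intro h
      have haU : a ∈ U := autComm_le F U ha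
      have hbU : b ∈ U := autComm_le F U hb
      have : (⟨a * b, h⟩ : U) = ⟨a, haU⟩ * ⟨b, hbU⟩ := rfl
      rw [this, map_mul]
      exact Subgroup.mul_mem _ (iha haU) (ihb hbU)
    | inv a ha iha =>
      intro h
      have haU : a ∈ U := autComm_le F U ha
      have : (⟨a⁻¹, h⟩ : U) = ⟨a, haU⟩⁻¹ := rfl
      rw [this, map_inv]
      exact Subgroup.inv_mem _ (iha haU)
  exact key v hv v.2

/-- The automorphism of a normal subgroup induced by a map of the system. -/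
theorem exists_aut_of_normal [Finite S] (F : FusionSystem S) {U : Subgroup Ω} (hU : F.IsNormal U)
    {P : Subgroup Ω} {φ : P →* Ω} (hφ : φ ∈ F.Hom P) :
    ∃ γ ∈ F.autGroup U, ∀ (x : Ω) (hxP : x ∈ P) (hxU : x ∈ U),
      ((γ ⟨x, hxU⟩ : U) : Ω) = φ ⟨x, hxP⟩ := by
  obtain ⟨ψ, hψ, hψe, hψU⟩ := hU.2 P φ hφ
  obtain ⟨h1, h2⟩ := (map_subgroupOf_eq_iff ψ).mp hψU
  haveI : Finite U := finite_of_le hU.1
  have hψU' : ψ.comp (Subgroup.inclusion (le_sup_right : U ≤ P ⊔ U)) ∈ F.Hom U :=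
    restrict_mem F hψ le_sup_right
  obtain ⟨γ, hγ, hγe⟩ := exists_aut_of_hom F hψU' (fun z => h1 _ z.2)
  refine ⟨γ, hγ, fun x hxP hxU => ?_⟩
  rw [hγe ⟨x, hxU⟩, ← hψe ⟨x, hxP⟩]
  rfl

theorem autComm_stronglyClosed [Finite S] (F : FusionSystem S) {U : Subgroup Ω}
    (hU : F.IsNormal U) : F.StronglyClosed (autComm F U) := by
  refine ⟨(autComm_le F U).trans hU.1, fun R hR φ hφ x => ?_⟩
  obtain ⟨γ, hγ, hγe⟩ := exists_aut_of_normal F hU hφ
  have hxU : (x : Ω) ∈ U := autComm_le F U (hR x.2)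
  rw [← hγe x x.2 hxU]
  exact autComm_apply_mem F hγ ⟨x, hxU⟩ (hR x.2)

/-- A normal subgroup meets the focal subgroup inside `[S,S] [U, Aut_F(U)]`. -/
theorem normal_inf_focal_le [Finite S] [Fact p.Prime] (hS : IsPGroup p S) (F : FusionSystem S)
    (hF : F.IsSaturated p) {U : Subgroup Ω} (hU : F.IsNormal U) :
    U ⊓ F.focalSubgroup ≤ ⁅S, S⁆ ⊔ autComm F U := by
  have hsc := autComm_stronglyClosed F hU
  have hU₁S : autComm F U ≤ S := hsc.1
  have hnorm : S ≤ Subgroup.normalizer ((autComm F U : Subgroup Ω) : Set Ω) :=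
    stronglyClosed_le_normalizer F hsc
  haveI : ((autComm F U).subgroupOf S).Normal :=
    (Subgroup.normal_subgroupOf_iff_le_normalizer hU₁S).mpr hnorm
  obtain ⟨E, hE⟩ := Cfsg.Agent.S5132.result p hS F (autComm F U) hsc
  have hsurj := Cfsg.Agent.S5134.result p hS F hF (autComm F U) hsc _ E hE
  have hEsat := Cfsg.Agent.S5133.result p hS F hF E _ hsurj
  obtain ⟨-, hker, hrange, -⟩ := hE
  haveI : Finite (↥S ⧸ (autComm F U).subgroupOf S) := inferInstance
  haveI : Finite (⊤ : Subgroup (↥S ⧸ (autComm F U).subgroupOf S)) := inferInstance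
  have hS' : IsPGroup p (⊤ : Subgroup (↥S ⧸ (autComm F U).subgroupOf S)) :=
    (hS.to_quotient _).to_subgroup ⊤
  -- the image of `U` is central
  have hfix : ∀ y ∈ ((U.subgroupOf S).map (QuotientGroup.mk' ((autComm F U).subgroupOf S))),
      FixedBy E y := by
    rintro _ ⟨u, hu, rfl⟩ P' φ' hφ' hy
    have huU : (u : Ω) ∈ U := Subgroup.mem_subgroupOf.mp hu
    obtain ⟨φ, hφ, hPt, hφS, hPt', hind⟩ := hsurj.2.2 P' (hom_le E hφ') φ' hφ'
    have huP : (u : Ω) ∈ preimageAlong (QuotientGroup.mk' ((autComm F U).subgroupOf S)) P' :=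
      mem_preimageAlong.mpr ⟨u.2, hy⟩
    have h3 := hind ⟨u, huP⟩
    obtain ⟨γ, hγ, hγe⟩ := exists_aut_of_normal F hU hφ
    have h4 := mem_autComm F hγ ⟨u, huU⟩
    rw [hγe (u : Ω) huP huU] at h4
    have h5 : QuotientGroup.mk' ((autComm F U).subgroupOf S) (u⁻¹ * ⟨φ ⟨u, huP⟩, hφS _⟩) = 1 :=
      (hker _).mpr h4
    rw [map_mul, map_inv, inv_mul_eq_one] at h5
    have e : (⟨QuotientGroup.mk' ((autComm F U).subgroupOf S) ⟨(u : Ω), hPt huP⟩,
        hPt' ⟨u, huP⟩⟩ : P') = ⟨QuotientGroup.mk' ((autComm F U).subgroupOf S) u, hy⟩ :=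
      Subtype.ext rfl
    rw [e] at h3
    rw [h3, ← h5]
  have hcentral := isCentral_of_fixedBy hS' E hEsat le_top hfix
  have hUc : (U.subgroupOf S).map (QuotientGroup.mk' ((autComm F U).subgroupOf S)) ≤ E.center :=
    le_sSup hcentral
  have h5329 := Cfsg.Agent.S5329.result p hS' E hEsat
  rintro x ⟨hxU, hxf⟩
  have hxS : x ∈ S := hU.1 hxU
  have h1 := focal_map F E _ hsurj.1 x hxf hxS
  have h2 : QuotientGroup.mk' ((autComm F U).subgroupOf S) ⟨x, hxS⟩ ∈ E.center :=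
    hUc ⟨⟨x, hxS⟩, Subgroup.mem_subgroupOf.mpr hxU, rfl⟩
  have h3 : QuotientGroup.mk' ((autComm F U).subgroupOf S) ⟨x, hxS⟩ ∈
      E.focalSubgroup ⊓ E.center := ⟨h1, h2⟩
  rw [h5329] at h3
  have h4 := h3.1
  rw [← hrange] at h4
  exact mem_sup_of_map_mem _ (autComm F U) hker _ hxS (commutator_range_le _ h4)

end Cfsg.Agent.Lib.Helper54.FusNormalFoc
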