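/-
Control of transfer in saturated fusion systems from control of transfer in finite groups.
-/
import Cfsg.Agent.Lib.Helper54.FusNormalFoc
import Cfsg.Agent.Lib.Helper54.FusGrpCtl
import Cfsg.Agent.Lib.Helper54.FusLocal
import Cfsg.Agent.Lib.Helper85.Sylow

set_option autoImplicit false

universe u

namespace Cfsg.Agent.Lib.Helper54.FusTransfer

open Cfsg Cfsg.FusionSystem Cfsg.Agent.Lib.Helper87 Cfsg.Agent.Lib.Helper54.FusFix
  Cfsg.Agent.Lib.Helper54.FusFoc Cfsg.Agent.Lib.Helper54.FusQuot Cfsg.Agent.Lib.Helper54.FusCenter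
  Cfsg.Agent.Lib.Helper54.FusNormalFoc Cfsg.Agent.Lib.Helper54.FusGrpCtl
  Cfsg.Agent.Lib.Helper54.FusWP Cfsg.Agent.Lib.Helper54.FusLocal
open Cfsg.Agent.Lib.Helper88 (mem_preimageAlong preimageAlong_le preimageAlong_mem)
open scoped commutatorElement

variable {Ω : Type u} [Group Ω] {S : Subgroup Ω} {p : ℕ}

/-- Maps of the normalizer system of `V` in a normalizer system of `F` are maps of the normalizer
system of `V` in `F`. -/
theorem focN_normalizerSystem_le (F : FusionSystem S) {Q : Subgroup Ω} (hQ : Q ≤ S)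
    (V : Subgroup Ω) : focN (normalizerSystem F Q hQ) V ≤ focN F V := by
  refine (Subgroup.closure_le _).mpr ?_
  rintro y ⟨P, φ, x, ⟨hφ, hPN, hval, ψ, hψ, hext, hmap⟩, rfl⟩
  have hle : normalizerIn (normalizerIn S Q) V ≤ normalizerIn S V := inf_le_inf_right _ inf_le_left
  have hφF : φ ∈ F.Hom P := hφ.1
  have hψF : ψ ∈ F.Hom (P ⊔ V) := hψ.1
  exact mem_focN F ⟨hφF, hPN.trans hle, fun x => hle (hval x), ψ, hψF, hext, hmap⟩ x

/-- `[U, Aut_F(U)]` lies in the focal subgroup of `N_F(W(S))` when `U` is normal in `F`. -/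
theorem autComm_le_focN [Finite S] [Fact p.Prime] (hS : IsPGroup p S)
    (W : ∀ (Q : Type u) [Group Q], Subgroup Q)
    (hW2 : ∀ (Q R : Type u) [Group Q] [Group R] [Finite Q], IsPGroup p Q → ∀ φ : Q ≃* R,
      (W Q).map φ.toMonoidHom = W R)
    (hG : GrpCtl p W) (F : FusionSystem S) (hF : F.IsSaturated p) {U : Subgroup Ω}
    (hU : F.IsNormal U) : autComm F U ≤ focN F (inducedFunctor W S) := by
  have hUS : U ≤ S := hU.1
  have hUsc : F.StronglyClosed U := stronglyClosed_of_isNormal F hU
  have hR₀sc : F.StronglyClosed (U ⊔ centralizerIn S U) :=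
    Cfsg.Agent.S5255.result p hS F hF U hUsc
  have hR₀R : U ⊔ centralizerIn S U ≤ S := hR₀sc.1
  have hcen : centralizerIn S (U ⊔ centralizerIn S U) ≤ U ⊔ centralizerIn S U := by
    intro x hx
    refine (le_sup_right : centralizerIn S U ≤ U ⊔ centralizerIn S U) ⟨hx.1, ?_⟩
    intro u hu
    exact hx.2 u ((le_sup_left : U ≤ U ⊔ centralizerIn S U) hu)
  have hR₀c : F.IsCentric (U ⊔ centralizerIn S U) := isCentric_of_stronglyClosed F hR₀sc hcen
  have hR₀fn : F.IsFullyNormalized (U ⊔ centralizerIn S U) :=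
    fullyNormalized_of_stronglyClosed F hR₀sc
  have hRN : S ≤ Subgroup.normalizer ((U ⊔ centralizerIn S U : Subgroup Ω) : Set Ω) :=
    stronglyClosed_le_normalizer F hR₀sc
  have hTR : normalizerIn S (U ⊔ centralizerIn S U) = S :=
    le_antisymm inf_le_left (le_inf le_rfl hRN)
  have hTle : normalizerIn S (U ⊔ centralizerIn S U) ≤ S := inf_le_left
  haveI : Finite (normalizerIn S (U ⊔ centralizerIn S U)) := finite_of_le hTle
  haveI : Finite (U ⊔ centralizerIn S U : Subgroup Ω) := finite_of_le hR₀R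
  have hTp : IsPGroup p (normalizerIn S (U ⊔ centralizerIn S U)) := hS.to_le hTle
  have hE := isNormalizerSystem_normalizerSystem F (U ⊔ centralizerIn S U) hR₀R
  have hEsat := Cfsg.Agent.S5098.result p hS F hF _ hR₀fn _ hE
  have hR₀n := normalizerSystem_isNormal F hR₀R hE
  have hR₀Ec := normalizerSystem_isCentric F hR₀c hE
  obtain ⟨L, hGrp, ι, hM⟩ := Cfsg.Agent.S5090.result p hTp
    (normalizerSystem F (U ⊔ centralizerIn S U) hR₀R) ⟨hEsat, _, hR₀n, hR₀Ec⟩
  have hctl := constrained_control hTp W hW2 hG _ hM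
  have e : inducedFunctor W (normalizerIn S (U ⊔ centralizerIn S U)) = inducedFunctor W S :=
    congrArg _ hTR
  rw [e] at hctl
  have hmain : (normalizerSystem F (U ⊔ centralizerIn S U) hR₀R).focalSubgroup ≤
      focN F (inducedFunctor W S) := hctl.trans (focN_normalizerSystem_le F hR₀R _)
  -- generators
  have hUfn : F.IsFullyNormalized U :=
    fullyNormalized_of_le_normalizer F hUS (stronglyClosed_le_normalizer F hUsc)
  have hrec : F.IsReceptive U := receptive_of_fullyNormalized hS F hF hUfn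
  refine (Subgroup.closure_le _).mpr ?_
  rintro y ⟨α, u, hα, rfl⟩
  have hαF : U.subtype.comp α.toMonoidHom ∈ F.Hom U := (mem_autGroup_iff F hUS α).mp hα
  have hαr : (U.subtype.comp α.toMonoidHom).range = U := by
    apply le_antisymm
    · rintro _ ⟨z, rfl⟩
      exact (α z).2
    · intro q hq
      exact ⟨α.symm ⟨q, hq⟩, by simp⟩
  have hMle : U ⊔ centralizerIn S U ≤ extender S U (U.subtype.comp α.toMonoidHom) :=
    sup_le (self_le_extender F hαF) (centralizerIn_le_extender' U _)
  obtain ⟨ψ, hψ, hψe⟩ := extend_to_sub F hαF hαr hrec hMle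
  have hr : ψ.range = U ⊔ centralizerIn S U := (weaklyClosed_of_stronglyClosed F hR₀sc).2 ψ hψ
  have hψE := mem_normalizerSystem_of_range_eq F hR₀R hE hψ hr
  have hgen := mem_focal _ hψE ⟨u, (le_sup_left : U ≤ U ⊔ centralizerIn S U) u.2⟩
  have h6 := hψe (u : Ω) u.2 ((le_sup_left : U ≤ U ⊔ centralizerIn S U) u.2)
  rw [h6] at hgen
  exact hmain hgen


/-- Case `U = S`: if `S` is normal in `F`, every map of `F` is a map of the normalizer system
of `W(S)`. -/
theorem focal_le_focN_of_top_normal [Finite S] [Fact p.Prime] (hS : IsPGroup p S)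
    (W : ∀ (Q : Type u) [Group Q], Subgroup Q)
    (hW2 : ∀ (Q R : Type u) [Group Q] [Group R] [Finite Q], IsPGroup p Q → ∀ φ : Q ≃* R,
      (W Q).map φ.toMonoidHom = W R)
    (F : FusionSystem S) (hU : F.IsNormal S) :
    F.focalSubgroup ≤ focN F (inducedFunctor W S) := by
  have hTS : normalizerIn S (inducedFunctor W S) = S := normalizerIn_induced_top hS hW2
  have hWS : inducedFunctor W S ≤ S := induced_le W S
  refine (Subgroup.closure_le _).mpr ?_
  rintro y ⟨P, φ, x, hφ, rfl⟩
  obtain ⟨ψ, hψ, hψe, hψU⟩ := hU.2 P φ hφ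
  have hPS : P ≤ S := hom_le F hφ
  have himg : img ψ S = S := hψU
  have h1 := induced_img hS hW2 F hψ (le_sup_right : S ≤ P ⊔ S)
  rw [himg] at h1
  have hle : P ⊔ inducedFunctor W S ≤ P ⊔ S := sup_le_sup_left hWS P
  refine mem_focN F ⟨hφ, by rw [hTS]; exact hPS, fun x => by rw [hTS]; exact hom_mem_S F hφ x,
    ψ.comp (Subgroup.inclusion hle), restrict_mem F hψ hle, fun x => hψe x, ?_⟩ x
  rw [map_subgroupOf_eq_iff]
  refine ⟨fun y hy => ?_, fun q hq => ?_⟩
  · have : (ψ.comp (Subgroup.inclusion hle)) y ∈ img ψ (inducedFunctor W S) :=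
      mem_img.mpr ⟨Subgroup.inclusion hle y, hy, rfl⟩
    exact h1.ge this
  · have hq' : q ∈ img ψ (inducedFunctor W S) := h1.le hq
    obtain ⟨z, hz, hzq⟩ := mem_img.mp hq'
    exact ⟨⟨z, (le_sup_right : inducedFunctor W S ≤ P ⊔ inducedFunctor W S) hz⟩, hz, hzq⟩


/-- The quotient step: for `U` normal in `F`, `1 ≠ U ≠ S`, if the theorem holds over smaller
`p`-groups, there is `X > U` normalized by `S` with `foc(F) ≤ foc(N_F(X)) U`. -/
theorem quotient_step [Finite S] [Fact p.Prime] (hS : IsPGroup p S)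
    (W : ∀ (Q : Type u) [Group Q], Subgroup Q)
    (hW1 : ∀ (Q : Type u) [Group Q] [Finite Q], IsPGroup p Q → Nontrivial Q → W Q ≠ ⊥)
    (hW2 : ∀ (Q R : Type u) [Group Q] [Group R] [Finite Q], IsPGroup p Q → ∀ φ : Q ≃* R,
      (W Q).map φ.toMonoidHom = W R)
    (F : FusionSystem S) (hF : F.IsSaturated p) {U : Subgroup Ω} (hU : F.IsNormal U)
    (hU1 : U ≠ ⊥) (hUS : U ≠ S)
    (ih : ∀ (Ω' : Type u) [Group Ω'] (S' : Subgroup Ω') [Finite S'], IsPGroup p S' →
      Nat.card S' < Nat.card S → ∀ E : FusionSystem S', E.IsSaturated p →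
      E.focalSubgroup ≤ focN E (inducedFunctor W S')) :
    ∃ X : Subgroup Ω, X ≤ S ∧ U ≤ X ∧ Nat.card U < Nat.card X ∧
      S ≤ Subgroup.normalizer (X : Set Ω) ∧ F.focalSubgroup ≤ focN F X ⊔ U := by
  have hUle : U ≤ S := hU.1
  have hsc : F.StronglyClosed U := stronglyClosed_of_isNormal F hU
  have hnorm : S ≤ Subgroup.normalizer (U : Set Ω) := stronglyClosed_le_normalizer F hsc
  haveI : (U.subgroupOf S).Normal := (Subgroup.normal_subgroupOf_iff_le_normalizer hUle).mpr hnorm
  obtain ⟨E, hE⟩ := Cfsg.Agent.S5132.result p hS F U hsc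
  have hsurj := Cfsg.Agent.S5134.result p hS F hF U hsc _ E hE
  have hEsat := Cfsg.Agent.S5133.result p hS F hF E _ hsurj
  obtain ⟨-, hker, hrange, -⟩ := hE
  haveI : Finite (↥S ⧸ U.subgroupOf S) := inferInstance
  haveI : Finite (⊤ : Subgroup (↥S ⧸ U.subgroupOf S)) := inferInstance
  have hS' : IsPGroup p (⊤ : Subgroup (↥S ⧸ U.subgroupOf S)) :=
    (hS.to_quotient _).to_subgroup ⊤
  haveI : Finite U := finite_of_le hUle
  -- cardinalities
  have hcardU : Nat.card (U.subgroupOf S) = Nat.card U :=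
    Nat.card_congr (Subgroup.subgroupOfEquivOfLe hUle).toEquiv
  have hcardS : Nat.card S = Nat.card (↥S ⧸ U.subgroupOf S) * Nat.card U := by
    rw [← hcardU]; exact Subgroup.card_eq_card_quotient_mul_card_subgroup _
  have hU2 : 1 < Nat.card U := U.one_lt_card_iff_ne_bot.mpr hU1
  have hq0 : 0 < Nat.card (↥S ⧸ U.subgroupOf S) := Nat.card_pos
  have hlt : Nat.card (⊤ : Subgroup (↥S ⧸ U.subgroupOf S)) < Nat.card S := by
    rw [Subgroup.card_top, hcardS]
    nlinarith
  have ihE := ih _ ⊤ hS' hlt E hEsat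
  -- the quotient is nontrivial
  have hq1 : 1 < Nat.card (↥S ⧸ U.subgroupOf S) := by
    by_contra hcon
    have h1 : Nat.card (↥S ⧸ U.subgroupOf S) = 1 := by omega
    rw [h1, one_mul] at hcardS
    exact hUS (Subgroup.eq_of_le_of_card_ge hUle hcardS.le)
  haveI : Nontrivial (⊤ : Subgroup (↥S ⧸ U.subgroupOf S)) := by
    apply (Finite.one_lt_card_iff_nontrivial).mp
    rw [Subgroup.card_top]; exact hq1
  have hXb1 : inducedFunctor W (⊤ : Subgroup (↥S ⧸ U.subgroupOf S)) ≠ ⊥ := by
    have h1 := hW1 _ hS' inferInstance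
    unfold inducedFunctor
    rw [Ne, Subgroup.map_eq_bot_iff_of_injective _ (Subgroup.subtype_injective _)]
    exact h1
  have hXbN : ∀ (g y : ↥S ⧸ U.subgroupOf S), y ∈ inducedFunctor W (⊤ : Subgroup _) →
      g * y * g⁻¹ ∈ inducedFunctor W (⊤ : Subgroup (↥S ⧸ U.subgroupOf S)) := by
    intro g y hy
    have h1 := normalizer_le_normalizer_induced (W := W) hW2 hS'
    have hg : g ∈ Subgroup.normalizer
        ((inducedFunctor W (⊤ : Subgroup (↥S ⧸ U.subgroupOf S)) : Subgroup _) : Set _) :=
      h1 (Subgroup.mem_normalizer_iff.mpr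
        (fun h => ⟨fun _ => Subgroup.mem_top _, fun _ => Subgroup.mem_top _⟩))
    exact (Subgroup.mem_normalizer_iff.mp hg y).mp hy
  refine ⟨preimageAlong (QuotientGroup.mk' (U.subgroupOf S)) (inducedFunctor W ⊤),
    preimageAlong_le _ _, ?_, ?_, ?_, ?_⟩
  · intro u hu
    refine mem_preimageAlong.mpr ⟨hUle hu, ?_⟩
    rw [(hker ⟨u, hUle hu⟩).mpr hu]
    exact Subgroup.one_mem _
  · -- strict inclusion
    obtain ⟨⟨y, hy⟩, hy1⟩ := (Subgroup.ne_bot_iff_exists_ne_one).mp hXb1
    obtain ⟨s, rfl⟩ := QuotientGroup.mk'_surjective (U.subgroupOf S) y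
    have hsX : (s : Ω) ∈ preimageAlong (QuotientGroup.mk' (U.subgroupOf S)) (inducedFunctor W ⊤) :=
      mem_preimageAlong.mpr ⟨s.2, hy⟩
    have hsU : (s : Ω) ∉ U := by
      intro h
      apply hy1
      apply Subtype.ext
      exact (hker s).mpr h
    have hUX : U ≤ preimageAlong (QuotientGroup.mk' (U.subgroupOf S)) (inducedFunctor W ⊤) := by
      intro u hu
      refine mem_preimageAlong.mpr ⟨hUle hu, ?_⟩
      rw [(hker ⟨u, hUle hu⟩).mpr hu]
      exact Subgroup.one_mem _
    by_contra hcon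
    have hXfin : Finite (preimageAlong (QuotientGroup.mk' (U.subgroupOf S)) (inducedFunctor W ⊤)) :=
      finite_of_le (preimageAlong_le _ _)
    have := Subgroup.eq_of_le_of_card_ge hUX (not_lt.mp hcon)
    exact hsU (this ▸ hsX)
  · -- `S` normalizes `X`
    have key : ∀ s ∈ S, ∀ x ∈ preimageAlong (QuotientGroup.mk' (U.subgroupOf S))
        (inducedFunctor W ⊤), s * x * s⁻¹ ∈
        preimageAlong (QuotientGroup.mk' (U.subgroupOf S)) (inducedFunctor W ⊤) := by
      intro s hs x hx
      obtain ⟨hxS, hxX⟩ := mem_preimageAlong.mp hx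
      refine mem_preimageAlong.mpr ⟨S.mul_mem (S.mul_mem hs hxS) (S.inv_mem hs), ?_⟩
      have e : (⟨s * x * s⁻¹, S.mul_mem (S.mul_mem hs hxS) (S.inv_mem hs)⟩ : S) =
          ⟨s, hs⟩ * ⟨x, hxS⟩ * ⟨s, hs⟩⁻¹ := Subtype.ext rfl
      rw [e, map_mul, map_mul, map_inv]
      exact hXbN _ _ hxX
    intro s hs
    refine Subgroup.mem_normalizer_iff.mpr ?_
    intro x
    constructor
    · exact key s hs x
    · intro h
      have := key s⁻¹ (S.inv_mem hs) _ h
      have e : s⁻¹ * (s * x * s⁻¹) * s⁻¹⁻¹ = x := by group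
      rwa [e] at this
  · -- the focal subgroup
    intro x hx
    have hxS : x ∈ S := focal_le_S F hx
    have h1 := focal_map F E _ hsurj.1 x hx hxS
    have h2 := ihE h1
    have hXN : S ≤ Subgroup.normalizer ((preimageAlong (QuotientGroup.mk' (U.subgroupOf S))
        (inducedFunctor W ⊤) : Subgroup Ω) : Set Ω) := by
      have key : ∀ s ∈ S, ∀ x ∈ preimageAlong (QuotientGroup.mk' (U.subgroupOf S))
          (inducedFunctor W ⊤), s * x * s⁻¹ ∈
          preimageAlong (QuotientGroup.mk' (U.subgroupOf S)) (inducedFunctor W ⊤) := by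
        intro s hs x hx
        obtain ⟨hxS, hxX⟩ := mem_preimageAlong.mp hx
        refine mem_preimageAlong.mpr ⟨S.mul_mem (S.mul_mem hs hxS) (S.inv_mem hs), ?_⟩
        have e : (⟨s * x * s⁻¹, S.mul_mem (S.mul_mem hs hxS) (S.inv_mem hs)⟩ : S) =
            ⟨s, hs⟩ * ⟨x, hxS⟩ * ⟨s, hs⟩⁻¹ := Subtype.ext rfl
        rw [e, map_mul, map_mul, map_inv]
        exact hXbN _ _ hxX
      intro s hs
      refine Subgroup.mem_normalizer_iff.mpr ?_
      intro x
      constructor
      · exact key s hs x
      · intro h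
        have := key s⁻¹ (S.inv_mem hs) _ h
        have e : s⁻¹ * (s * x * s⁻¹) * s⁻¹⁻¹ = x := by group
        rwa [e] at this
    have h3 := focN_lift F E _ hsurj _ hXN h2
    exact mem_sup_of_map_mem _ U hker _ hxS h3


/-- Claim B: the theorem for systems with a nontrivial normal subgroup, given the theorem over
smaller `p`-groups. -/
theorem normal_case [Fact p.Prime]
    (W : ∀ (Q : Type u) [Group Q], Subgroup Q)
    (hW1 : ∀ (Q : Type u) [Group Q] [Finite Q], IsPGroup p Q → Nontrivial Q → W Q ≠ ⊥)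
    (hW2 : ∀ (Q R : Type u) [Group Q] [Group R] [Finite Q], IsPGroup p Q → ∀ φ : Q ≃* R,
      (W Q).map φ.toMonoidHom = W R)
    (hG : GrpCtl p W) (n : ℕ)
    (ih : ∀ (Ω' : Type u) [Group Ω'] (S' : Subgroup Ω') [Finite S'], IsPGroup p S' →
      Nat.card S' < n → ∀ E : FusionSystem S', E.IsSaturated p →
      E.focalSubgroup ≤ focN E (inducedFunctor W S')) :
    ∀ (k : ℕ) (Ω : Type u) [Group Ω] (S : Subgroup Ω) [Finite S], IsPGroup p S → Nat.card S = n →
      ∀ F : FusionSystem S, F.IsSaturated p → ∀ U : Subgroup Ω, F.IsNormal U → U ≠ ⊥ →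
      Nat.card S - Nat.card U = k → F.focalSubgroup ≤ focN F (inducedFunctor W S) := by
  intro k
  induction k using Nat.strong_induction_on with
  | _ k ihk =>
  intro Ω _ S _ hS hn F hF U hU hU1 hk
  by_cases hUS : U = S
  · subst hUS
    exact focal_le_focN_of_top_normal hS W hW2 F hU
  · obtain ⟨X, hXS, hUX, hcard, hXN, hfoc⟩ := quotient_step hS W hW1 hW2 F hF hU hU1 hUS
      (fun Ω' _ S' _ hS' hlt E hE => ih Ω' S' hS' (hn ▸ hlt) E hE)
    have hTS : normalizerIn S X = S := le_antisymm inf_le_left (le_inf le_rfl hXN)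
    have hXfn : F.IsFullyNormalized X := fullyNormalized_of_le_normalizer F hXS hXN
    have hF₂ := isNormalizerSystem_normalizerSystem F X hXS
    have hF₂sat := Cfsg.Agent.S5098.result p hS F hF X hXfn _ hF₂
    have hXn := normalizerSystem_isNormal F hXS hF₂
    have hX1 : X ≠ ⊥ := by
      intro h
      apply hU1
      rw [eq_bot_iff, ← h]
      exact hUX
    have hT2le : normalizerIn S X ≤ S := inf_le_left
    haveI : Finite (normalizerIn S X) := finite_of_le hT2le
    haveI : Finite X := finite_of_le hXS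
    have hT2p : IsPGroup p (normalizerIn S X) := hS.to_le hT2le
    have hcardT : Nat.card (normalizerIn S X) = n := by rw [hTS]; exact hn
    have hXle : Nat.card X ≤ Nat.card S := Subgroup.card_le_of_le hXS
    have hlt : Nat.card (normalizerIn S X) - Nat.card X < k := by
      rw [hcardT, ← hn]
      omega
    have hB := ihk _ hlt Ω (normalizerIn S X) hT2p hcardT (normalizerSystem F X hXS) hF₂sat X hXn
      hX1 rfl
    rw [focal_eq_focN F X _ hF₂] at hB
    have e : inducedFunctor W (normalizerIn S X) = inducedFunctor W S := congrArg _ hTS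
    rw [e] at hB
    have hB' : focN F X ≤ focN F (inducedFunctor W S) :=
      hB.trans (focN_normalizerSystem_le F hXS _)
    -- assemble
    have hWS : inducedFunctor W S ≤ S := induced_le W S
    have hWN : S ≤ Subgroup.normalizer ((inducedFunctor W S : Subgroup Ω) : Set Ω) := by
      have h := normalizerIn_induced_top (W := W) hS hW2
      intro s hs
      have : s ∈ normalizerIn S (inducedFunctor W S) := by rw [h]; exact hs
      exact this.2
    have hsc : F.StronglyClosed U := stronglyClosed_of_isNormal F hU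
    have hnormU : S ≤ Subgroup.normalizer (U : Set Ω) := stronglyClosed_le_normalizer F hsc
    have hDS : focN F (inducedFunctor W S) ≤ S := (focN_le_focal F _).trans (focal_le_S F)
    intro x hx
    have h1 : x ∈ focN F (inducedFunctor W S) ⊔ U :=
      (sup_le_sup_right hB' U) (hfoc hx)
    obtain ⟨d, hd, u, hu, rfl⟩ :=
      Cfsg.Agent.Lib.Helper85.mem_sup_of_le_normalizer (hDS.trans hnormU) h1
    have hu2 : u ∈ U ⊓ F.focalSubgroup := by
      refine ⟨hu, ?_⟩
      have : u = d⁻¹ * (d * u) := by group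
      rw [this]
      exact Subgroup.mul_mem _ (Subgroup.inv_mem _ (focN_le_focal F _ hd)) hx
    have h3 := normal_inf_focal_le hS F hF hU hu2
    have h4 : ⁅S, S⁆ ⊔ autComm F U ≤ focN F (inducedFunctor W S) :=
      sup_le (commutator_le_focN F hWS hWN) (autComm_le_focN hS W hW2 hG F hF hU)
    exact Subgroup.mul_mem _ hd (h4 h3)

/-- **Control of transfer**: if `W` controls transfer in every finite group, it controls transfer in
every saturated fusion system. -/
theorem transfer_main [Fact p.Prime]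
    (W : ∀ (Q : Type u) [Group Q], Subgroup Q)
    (hW1 : ∀ (Q : Type u) [Group Q] [Finite Q], IsPGroup p Q → Nontrivial Q → W Q ≠ ⊥)
    (hW2 : ∀ (Q R : Type u) [Group Q] [Group R] [Finite Q], IsPGroup p Q → ∀ φ : Q ≃* R,
      (W Q).map φ.toMonoidHom = W R)
    (hG : GrpCtl p W) :
    ∀ (n : ℕ) (Ω : Type u) [Group Ω] (S : Subgroup Ω) [Finite S], IsPGroup p S → Nat.card S = n →
      ∀ F : FusionSystem S, F.IsSaturated p →
      F.focalSubgroup ≤ focN F (inducedFunctor W S) := by
  intro n
  induction n using Nat.strong_induction_on with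
  | _ n ih =>
  intro Ω _ S _ hS hn F hF
  have ih' : ∀ (Ω' : Type u) [Group Ω'] (S' : Subgroup Ω') [Finite S'], IsPGroup p S' →
      Nat.card S' < n → ∀ E : FusionSystem S', E.IsSaturated p →
      E.focalSubgroup ≤ focN E (inducedFunctor W S') :=
    fun Ω' _ S' _ hS' hlt E hE => ih _ hlt Ω' S' hS' rfl E hE
  have claimB := normal_case W hW1 hW2 hG n ih'
  -- Claim A
  have claimA : ∀ m : ℕ, ∀ U : Subgroup Ω, IsWP W F U → U ≠ ⊥ →
      Nat.card S - Nat.card (normalizerIn S U) = m →
      focN F U ≤ focN F (inducedFunctor W S) := by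
    intro m
    induction m using Nat.strong_induction_on with
    | _ m ihm =>
    intro U hWP hU1 hm
    obtain ⟨hUfn, hVWP⟩ := (isWP_iff F U).mp hWP
    have hUS : U ≤ S := hUfn.1
    have hF₁ := isNormalizerSystem_normalizerSystem F U hUS
    have hF₁sat := Cfsg.Agent.S5098.result p hS F hF U hUfn _ hF₁
    have hUn := normalizerSystem_isNormal F hUS hF₁
    have hRS' : normalizerIn S U ≤ S := normalizerIn_le S U
    haveI : Finite (normalizerIn S U) := finite_of_le hRS'
    have hRp : IsPGroup p (normalizerIn S U) := hS.to_le hRS'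
    rw [← focal_eq_focN F U _ hF₁]
    by_cases hRS : normalizerIn S U = S
    · have hcard : Nat.card (normalizerIn S U) = n := by rw [hRS]; exact hn
      have hB := claimB _ Ω (normalizerIn S U) hRp hcard (normalizerSystem F U hUS) hF₁sat U hUn
        hU1 rfl
      have e : inducedFunctor W (normalizerIn S U) = inducedFunctor W S := congrArg _ hRS
      rw [e] at hB
      exact hB.trans (focN_normalizerSystem_le F hUS _)
    · have hc1 : Nat.card (normalizerIn S U) < Nat.card (normalizerIn S (normalizerIn S U)) :=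
        card_lt_card_normalizerIn hS hRS' hRS
      have hltn : Nat.card (normalizerIn S U) < n := by
        rw [← hn]
        by_contra hcon
        exact hRS (Subgroup.eq_of_le_of_card_ge hRS' (not_lt.mp hcon))
      have hT := ih' Ω (normalizerIn S U) hRp hltn (normalizerSystem F U hUS) hF₁sat
      have h2 := hT.trans (focN_normalizerSystem_le F hUS _)
      refine h2.trans ?_
      -- `V = W(N_S(U))` is well placed, nontrivial, and closer to the top
      have hV1 : inducedFunctor W (normalizerIn S U) ≠ ⊥ := by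
        haveI : Nontrivial (normalizerIn S U) := by
          rw [Subgroup.nontrivial_iff_ne_bot]
          intro h
          apply hU1
          rw [eq_bot_iff, ← h]
          exact le_normalizerIn hUS
        have h1 := hW1 _ hRp inferInstance
        unfold inducedFunctor
        rw [Ne, Subgroup.map_eq_bot_iff_of_injective _ (Subgroup.subtype_injective _)]
        exact h1
      have hNRNV : normalizerIn S (normalizerIn S U) ≤
          normalizerIn S (inducedFunctor W (normalizerIn S U)) :=
        normalizerIn_le_normalizerIn_induced hS hW2 hRS'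
      haveI : Finite (normalizerIn S (inducedFunctor W (normalizerIn S U))) :=
        finite_of_le (normalizerIn_le S _)
      have hc2 : Nat.card (normalizerIn S (normalizerIn S U)) ≤
          Nat.card (normalizerIn S (inducedFunctor W (normalizerIn S U))) :=
        Subgroup.card_le_of_le hNRNV
      have hc3 : Nat.card (normalizerIn S (inducedFunctor W (normalizerIn S U))) ≤ Nat.card S :=
        Subgroup.card_le_of_le (normalizerIn_le S _)
      exact ihm (Nat.card S - Nat.card (normalizerIn S (inducedFunctor W (normalizerIn S U))))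
        (by omega) _ hVWP hV1 rfl
  -- the main step
  apply focal_propagation hS F {U | IsWP W F U}
  · intro P hP
    obtain ⟨U, hc, hWP⟩ := exists_wp_conj hS hW2 F hF hP
    have hUfn : F.IsFullyNormalized U := ((isWP_iff F U).mp hWP).1
    exact ⟨U, hWP, hc, (fc_fa_of_fullyNormalized hS F hF hUfn).2,
      receptive_of_fullyNormalized hS F hF hUfn⟩
  · intro U hU ψ hψ hr x
    by_cases hU1 : U = ⊥
    · have hx1 : x = 1 := by
        apply Subtype.ext
        have h1 : (x : Ω) ∈ (⊥ : Subgroup Ω) := hU1.le x.2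
        exact Subgroup.mem_bot.mp h1
      rw [hx1, map_one]
      simp
    · have hUS : U ≤ S := hom_le F hψ
      haveI : Finite U := finite_of_le hUS
      have hE := isNormalizerSystem_normalizerSystem F U hUS
      have hψN : ψ ∈ F.normalizerHom U U := mem_normalizerSystem_of_range_eq F hUS hE hψ hr
      exact claimA _ U hU hU1 rfl (mem_focN F hψN x)

end Cfsg.Agent.Lib.Helper54.FusTransfer
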