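/-
The local hypothesis from control of weak closure of elements in finite groups.
-/
import Cfsg.Agent.Lib.Helper54.FusCenter
import Cfsg.Agent.Lib.Helper84.PCore

set_option autoImplicit false

universe u

namespace Cfsg.Agent.Lib.Helper54.FusWC

open Cfsg Cfsg.FusionSystem Cfsg.Agent.Lib.Helper87 Cfsg.Agent.Lib.Helper54.FusWP
  Cfsg.Agent.Lib.Helper54.FusLocal

variable {Ω : Type u} [Group Ω] {p : ℕ}

/-- If, in every finite group `G` in which `T` embeds as a Sylow `p`-subgroup `P`, the images of the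
elements of `C` commuting with `N_G(W(P))` are weakly closed in `P`, the local hypothesis holds. -/
theorem localHyp_of_weaklyClosed [Fact p.Prime] (W : ∀ (Q : Type u) [Group Q], Subgroup Q)
    (hW2 : ∀ (Q R : Type u) [Group Q] [Group R] [Finite Q], IsPGroup p Q → ∀ φ : Q ≃* R,
      (W Q).map φ.toMonoidHom = W R)
    (S : Subgroup Ω) [Finite S] (C : Set Ω)
    (h : ∀ (T : Subgroup Ω), T ≤ S → S ⊓ Subgroup.centralizer (S : Set Ω) ≤ T →
      ∀ (G : Type u) [Group G] [Finite G] (ι : T →* G), Function.Injective ι →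
      ∀ P : Sylow p G, (P : Subgroup G) = ι.range → ∀ c ∈ C, ∀ hc : c ∈ T,
      (∀ n ∈ Subgroup.normalizer ((inducedFunctor W (P : Subgroup G) : Subgroup G) : Set G),
        n * ι ⟨c, hc⟩ = ι ⟨c, hc⟩ * n) →
      ∀ g : G, g * ι ⟨c, hc⟩ * g⁻¹ ∈ (P : Subgroup G) → g * ι ⟨c, hc⟩ * g⁻¹ = ι ⟨c, hc⟩) :
    LocalHyp p W S C := by
  intro T hTS hZT G _ _ ι hinj hSyl c hcC hc h1 h2
  obtain ⟨P, hP⟩ := hSyl
  haveI : Finite T := finite_of_le hTS
  have hTp : IsPGroup p T := by
    have : IsPGroup p ι.range := hP ▸ P.isPGroup'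
    exact this.of_injective (MonoidHom.ofInjective hinj).toMonoidHom
      (MonoidHom.ofInjective hinj).injective
  have e : inducedFunctor W (P : Subgroup G) = (W ↥T).map ι := by
    have h := induced_range' hW2 hTp ι hinj
    rw [← hP] at h
    exact h
  have h3 := h T hTS hZT G ι hinj P hP c hcC hc (by rw [e]; exact h2)
  refine Subgroup.mem_center_iff.mpr ?_
  intro g
  have h4 : g * ι ⟨c, hc⟩ * g⁻¹ ∈ (P : Subgroup G) :=
    Cfsg.Agent.Lib.Helper84.pCore_le_sylow P
      ((Cfsg.Agent.Lib.Helper84.pCore_normal p G).conj_mem _ h1 g)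
  have h5 := h3 g h4
  calc g * ι ⟨c, hc⟩ = g * ι ⟨c, hc⟩ * g⁻¹ * g := by group
    _ = ι ⟨c, hc⟩ * g := by rw [h5]

end Cfsg.Agent.Lib.Helper54.FusWC
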