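import Mathlib

/-! # Fw hive (S3211, helper43): leaf FW-SL2 (helper54)

The centraliser in `SL₂(F)` (`F` a finite field of odd order) of an element `x` with `x² = -1` is abelian: `x` is not
a scalar matrix, so the off-diagonal data `(m₀₁, m₁₀, m₀₀ - m₁₁)` of every matrix commuting with `x` is proportional to
that of `x`, and two such matrices commute. -/

set_option autoImplicit false

namespace Cfsg.Agent.Lib.Helper43.Fw

theorem fwsl2_two_ne_zero {F : Type*} [Field F] [Fintype F] (hodd : Odd (Fintype.card F)) : (2 : F) ≠ 0 := by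
  intro h2
  have hchar : ringChar F = 2 := by
    have hdvd : ringChar F ∣ 2 := by
      have : ((2 : ℕ) : F) = 0 := by exact_mod_cast h2
      exact (ringChar.spec F 2).1 this
    have hprime : (ringChar F).Prime := CharP.char_is_prime F (ringChar F)
    exact (Nat.prime_dvd_prime_iff_eq hprime Nat.prime_two).1 hdvd
  have heven : Even (Fintype.card F) := by
    have h := (FiniteField.even_card_iff_char_two (F := F)).1 hchar
    exact Nat.even_iff.2 h
  exact (Nat.not_even_iff_odd.2 hodd) heven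

/-- the field-level core: entries `p q r s` of `x`, `a₁ a₂ a₃ a₄` of `a`, `b₁ b₂ b₃ b₄` of `b` -/
theorem fwsl2_core {F : Type*} [Field F] (h2 : (2 : F) ≠ 0) (p q r s a₁ a₂ a₃ a₄ b₁ b₂ b₃ b₄ : F)
    (hdet : p * s - q * r = 1) (h00 : p * p + q * r = -1)
    (ha1 : a₂ * r = q * a₃) (ha2 : a₁ * q + a₂ * s = p * a₂ + q * a₄) (ha3 : a₃ * p + a₄ * r = r * a₁ + s * a₃)
    (hb1 : b₂ * r = q * b₃) (hb2 : b₁ * q + b₂ * s = p * b₂ + q * b₄) (hb3 : b₃ * p + b₄ * r = r * b₁ + s * b₃) :
    a₂ * b₃ = b₂ * a₃ ∧ a₁ * b₂ + a₂ * b₄ = b₁ * a₂ + b₂ * a₄ ∧ a₃ * b₁ + a₄ * b₃ = b₃ * a₁ + b₄ * a₃ := by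
  by_cases hq : q = 0
  · by_cases hr : r = 0
    · subst hq hr
      have hps : p - s ≠ 0 := by
        intro h
        have hps' : p = s := sub_eq_zero.1 h
        subst hps'
        apply h2
        linear_combination h00 - hdet
      have e1 : a₂ * (p - s) = 0 := by linear_combination -ha2
      have e2 : a₃ * (p - s) = 0 := by linear_combination ha3
      have e3 : b₂ * (p - s) = 0 := by linear_combination -hb2
      have e4 : b₃ * (p - s) = 0 := by linear_combination hb3
      have a2z : a₂ = 0 := (mul_eq_zero.1 e1).resolve_right hps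
      have a3z : a₃ = 0 := (mul_eq_zero.1 e2).resolve_right hps
      have b2z : b₂ = 0 := (mul_eq_zero.1 e3).resolve_right hps
      have b3z : b₃ = 0 := (mul_eq_zero.1 e4).resolve_right hps
      subst a2z a3z b2z b3z
      refine ⟨by ring, by ring, by ring⟩
    · -- `r ≠ 0`
      have k1 : a₂ * b₃ = b₂ * a₃ := by
        apply mul_left_cancel₀ hr
        linear_combination b₃ * ha1 - a₃ * hb1
      refine ⟨k1, mul_left_cancel₀ hr ?_, mul_left_cancel₀ hr ?_⟩
      · linear_combination (-b₂) * ha3 + a₂ * hb3 - (p - s) * k1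
      · linear_combination b₃ * ha3 - a₃ * hb3
  · -- `q ≠ 0`
    have k1 : a₂ * b₃ = b₂ * a₃ := by
      apply mul_left_cancel₀ hq
      linear_combination (-a₂) * hb1 + b₂ * ha1
    refine ⟨k1, mul_left_cancel₀ hq ?_, mul_left_cancel₀ hq ?_⟩
    · linear_combination b₂ * ha2 - a₂ * hb2
    · linear_combination a₃ * hb2 - b₃ * ha2 - (p - s) * k1

/-- FW-SL2 -/
theorem sl2_cent_comm {F : Type*} [Field F] [Fintype F] (hF : Odd (Fintype.card F))
    (x a b : Matrix.SpecialLinearGroup (Fin 2) F) (hx : x * x = -1) (ha : a * x = x * a) (hb : b * x = x * b) :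
    a * b = b * a := by
  have h2 : (2 : F) ≠ 0 := fwsl2_two_ne_zero hF
  have hdet : x.1 0 0 * x.1 1 1 - x.1 0 1 * x.1 1 0 = 1 := by
    have := x.2
    rw [Matrix.det_fin_two] at this
    exact this
  have h00 : x.1 0 0 * x.1 0 0 + x.1 0 1 * x.1 1 0 = -1 := by
    have := congrArg (fun m : Matrix.SpecialLinearGroup (Fin 2) F => m.1 0 0) hx
    simpa [Matrix.mul_apply, Fin.sum_univ_two] using this
  have ha1 : a.1 0 1 * x.1 1 0 = x.1 0 1 * a.1 1 0 := by
    have := congrArg (fun m : Matrix.SpecialLinearGroup (Fin 2) F => m.1 0 0) ha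
    simp only [Matrix.SpecialLinearGroup.coe_mul, Matrix.mul_apply, Fin.sum_univ_two] at this
    linear_combination this
  have ha2 : a.1 0 0 * x.1 0 1 + a.1 0 1 * x.1 1 1 = x.1 0 0 * a.1 0 1 + x.1 0 1 * a.1 1 1 := by
    have := congrArg (fun m : Matrix.SpecialLinearGroup (Fin 2) F => m.1 0 1) ha
    simp only [Matrix.SpecialLinearGroup.coe_mul, Matrix.mul_apply, Fin.sum_univ_two] at this
    linear_combination this
  have ha3 : a.1 1 0 * x.1 0 0 + a.1 1 1 * x.1 1 0 = x.1 1 0 * a.1 0 0 + x.1 1 1 * a.1 1 0 := by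
    have := congrArg (fun m : Matrix.SpecialLinearGroup (Fin 2) F => m.1 1 0) ha
    simp only [Matrix.SpecialLinearGroup.coe_mul, Matrix.mul_apply, Fin.sum_univ_two] at this
    linear_combination this
  have hb1 : b.1 0 1 * x.1 1 0 = x.1 0 1 * b.1 1 0 := by
    have := congrArg (fun m : Matrix.SpecialLinearGroup (Fin 2) F => m.1 0 0) hb
    simp only [Matrix.SpecialLinearGroup.coe_mul, Matrix.mul_apply, Fin.sum_univ_two] at this
    linear_combination this
  have hb2 : b.1 0 0 * x.1 0 1 + b.1 0 1 * x.1 1 1 = x.1 0 0 * b.1 0 1 + x.1 0 1 * b.1 1 1 := by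
    have := congrArg (fun m : Matrix.SpecialLinearGroup (Fin 2) F => m.1 0 1) hb
    simp only [Matrix.SpecialLinearGroup.coe_mul, Matrix.mul_apply, Fin.sum_univ_two] at this
    linear_combination this
  have hb3 : b.1 1 0 * x.1 0 0 + b.1 1 1 * x.1 1 0 = x.1 1 0 * b.1 0 0 + x.1 1 1 * b.1 1 0 := by
    have := congrArg (fun m : Matrix.SpecialLinearGroup (Fin 2) F => m.1 1 0) hb
    simp only [Matrix.SpecialLinearGroup.coe_mul, Matrix.mul_apply, Fin.sum_univ_two] at this
    linear_combination this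
  obtain ⟨k1, k2, k3⟩ := fwsl2_core h2 _ _ _ _ _ _ _ _ _ _ _ _ hdet h00 ha1 ha2 ha3 hb1 hb2 hb3
  apply Matrix.SpecialLinearGroup.ext
  intro i j
  simp only [Matrix.SpecialLinearGroup.coe_mul, Matrix.mul_apply, Fin.sum_univ_two]
  fin_cases i <;> fin_cases j
  · show a.1 0 0 * b.1 0 0 + a.1 0 1 * b.1 1 0 = b.1 0 0 * a.1 0 0 + b.1 0 1 * a.1 1 0
    linear_combination k1
  · show a.1 0 0 * b.1 0 1 + a.1 0 1 * b.1 1 1 = b.1 0 0 * a.1 0 1 + b.1 0 1 * a.1 1 1
    linear_combination k2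
  · show a.1 1 0 * b.1 0 0 + a.1 1 1 * b.1 1 0 = b.1 1 0 * a.1 0 0 + b.1 1 1 * a.1 1 0
    linear_combination k3
  · show a.1 1 0 * b.1 0 1 + a.1 1 1 * b.1 1 1 = b.1 1 0 * a.1 0 1 + b.1 1 1 * a.1 1 1
    linear_combination -k1

end Cfsg.Agent.Lib.Helper43.Fw
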