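import Mathlib
import Cfsg.Prelude.Def_HallClasses
import Cfsg.Agent.S0071
import Cfsg.Agent.Lib.Helper96.Wielandt

set_option autoImplicit false
set_option linter.style.haveILetI false

/-! P. Hall's theorem D5: a Hall `π`-subgroup which is (nilpotent `σ`-group) × (`τ`-group), in a
group whose maximal `τ`-subgroups are conjugate, contains a conjugate of every `π`-subgroup. -/

namespace Cfsg.Agent.Lib.Helper54

open Subgroup

variable {G : Type*} [Group G]

theorem mem_map_conj_iff (g y : G) (H : Subgroup G) :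
    y ∈ H.map (MulAut.conj g).toMonoidHom ↔ g⁻¹ * y * g ∈ H := by
  constructor
  · rintro ⟨h, hh, rfl⟩
    have : g⁻¹ * ((MulAut.conj g).toMonoidHom h) * g = h := by
      simp [MulAut.conj_apply, mul_assoc]
    rw [this]; exact hh
  · intro h
    refine ⟨g⁻¹ * y * g, h, ?_⟩
    simp [MulAut.conj_apply, mul_assoc]

/-- an element of a normalizer whose order is prime to the index of the centralizer in the
normalizer lies in the centralizer. -/
theorem mem_centralizer_of_coprime_relIndex [Finite G] (Q : Subgroup G) (x : G)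
    (hx : x ∈ normalizer (Q : Set G))
    (hcop : (orderOf x).Coprime ((centralizer (Q : Set G)).relIndex (normalizer (Q : Set G)))) :
    x ∈ centralizer (Q : Set G) := by
  obtain ⟨N, hN⟩ : ∃ N, N = normalizer (Q : Set G) := ⟨_, rfl⟩
  obtain ⟨C, hC⟩ : ∃ C : Subgroup (normalizer (Q : Set G)),
    C = (centralizer (Q : Set G)).subgroupOf (normalizer (Q : Set G)) := ⟨_, rfl⟩
  haveI : C.Normal := by rw [hC]; infer_instance
  let x' : normalizer (Q : Set G) := ⟨x, hx⟩
  have h1 : orderOf (QuotientGroup.mk' C x') ∣ orderOf x := by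
    have := orderOf_map_dvd (QuotientGroup.mk' C) x'
    have h2 : orderOf x' = orderOf x := by
      rw [← Subgroup.orderOf_coe]
    rwa [h2] at this
  have h2 : orderOf (QuotientGroup.mk' C x') ∣ C.index := by
    rw [Subgroup.index_eq_card]
    exact orderOf_dvd_natCard _
  have h3 : C.index = (centralizer (Q : Set G)).relIndex (normalizer (Q : Set G)) := by
    rw [hC]; rfl
  rw [h3] at h2
  have h4 : orderOf (QuotientGroup.mk' C x') = 1 := Nat.eq_one_of_dvd_coprimes hcop h1 h2
  rw [orderOf_eq_one_iff, QuotientGroup.mk'_apply, QuotientGroup.eq_one_iff, hC,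
    Subgroup.mem_subgroupOf] at h4
  exact h4

/-- For `r ∈ π`, a Hall `π`-subgroup `H` contains a subgroup `R` which is an `r`-group whose index
in `G` is prime to `r`. -/
theorem exists_sylow_le_of_isPiHall [Finite G] (π : Set ℕ) (H : Subgroup G) (hH : IsPiHall π H)
    (r : ℕ) [Fact r.Prime] (hr : r ∈ π) :
    ∃ R : Subgroup G, R ≤ H ∧ IsPGroup r R ∧ ¬ r ∣ R.index := by
  obtain ⟨R⟩ : Nonempty (Sylow r H) := inferInstance
  refine ⟨(R : Subgroup H).map H.subtype, Subgroup.map_subtype_le _, ?_, ?_⟩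
  · exact R.isPGroup'.map H.subtype
  · rw [Subgroup.index_map_subtype]
    intro h
    rcases (Nat.Prime.dvd_mul (Fact.out : r.Prime)).mp h with h | h
    · exact R.not_dvd_index h
    · exact hH.2 r Fact.out hr h

/-- Under the hypotheses: `H` a Hall `π`-subgroup of `G`, `S ≤ H` a Sylow `p`-subgroup of `G`
centralized by all `p'`-elements of `H`, every `π`-subgroup `K` of `G` has a normal
`p`-complement (Frobenius). -/
theorem hasNormalComplement_of_hall_central [Finite G] {p : ℕ} [Fact p.Prime] (π : Set ℕ)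
    (H : Subgroup G) (hH : IsPiHall π H) (S : Sylow p G)
    (hcent : ∀ x ∈ H, (orderOf x).Coprime p → x ∈ centralizer ((S : Subgroup G) : Set G))
    (K : Subgroup G) (hK : IsPiSubgroup π K) (PK : Sylow p K) :
    ∃ N : Subgroup K, N.Normal ∧ N.IsComplement' (PK : Subgroup K) := by
  refine (Cfsg.Agent.S0071.result PK).mpr ?_
  intro Q hQ x hx hxp
  -- the image of Q in G
  obtain ⟨Q', hQ'⟩ : ∃ Q' : Subgroup G, Q' = Q.map K.subtype := ⟨_, rfl⟩
  have hQ'p : IsPGroup p Q' := by
    rw [hQ']
    exact (PK.isPGroup'.to_le hQ).map K.subtype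
  -- conjugate Q' into S
  obtain ⟨g, -, hg⟩ := Cfsg.Agent.Lib.Helper96.exists_conj_le_of_not_dvd_relIndex
    (⊤ : Subgroup G) Q' (S : Subgroup G) hQ'p S.isPGroup' le_top
    (by rw [Subgroup.relIndex_top_right]; exact S.not_dvd_index)
  have hxN : (x : G) ∈ normalizer (Q' : Set G) := by
    rw [Subgroup.mem_normalizer_iff]
    intro y
    rw [hQ']
    rw [Subgroup.mem_normalizer_iff] at hx
    constructor
    · rintro ⟨q, hq, rfl⟩
      exact ⟨x * q * x⁻¹, (hx q).mp hq, by simp⟩
    · rintro ⟨q, hq, hqe⟩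
      have hyK : y ∈ K := by
        have h1 : (x : G) * y * (x : G)⁻¹ ∈ K := by rw [← hqe]; exact q.2
        have h2 : y = (x : G)⁻¹ * ((x : G) * y * (x : G)⁻¹) * (x : G) := by group
        rw [h2]
        exact K.mul_mem (K.mul_mem (K.inv_mem x.2) h1) x.2
      refine ⟨⟨y, hyK⟩, ?_, rfl⟩
      refine (hx ⟨y, hyK⟩).mpr ?_
      have : x * ⟨y, hyK⟩ * x⁻¹ = q := by
        apply Subtype.ext
        simpa using hqe.symm
      rw [this]; exact hq
  have hox : orderOf (x : G) = orderOf x := Subgroup.orderOf_coe x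
  have hcop : (orderOf (x : G)).Coprime
      ((centralizer (Q' : Set G)).relIndex (normalizer (Q' : Set G))) := by
    apply Nat.Coprime.symm
    apply Nat.coprime_of_dvd
    intro r hr hr1 hr2
    haveI : Fact r.Prime := ⟨hr⟩
    have hrK : r ∣ Nat.card K := by
      rw [hox] at hr2
      exact hr2.trans (orderOf_dvd_natCard x)
    have hrπ : r ∈ π := hK r hr hrK
    have hrp : r ≠ p := by
      rintro rfl
      rw [hox] at hr2
      have := Nat.dvd_gcd hr2 (dvd_refl r)
      rw [hxp.gcd_eq_one] at this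
      exact hr.one_lt.ne' (Nat.dvd_one.mp this)
    obtain ⟨R, hRH, hRr, hRi⟩ := exists_sylow_le_of_isPiHall π H hH r hrπ
    -- the conjugate g⁻¹ R g centralizes Q'
    have hRC : R.map (MulAut.conj g⁻¹).toMonoidHom ≤ centralizer (Q' : Set G) := by
      intro y hy
      rw [mem_map_conj_iff, inv_inv] at hy
      have hy1 : g * y * g⁻¹ ∈ centralizer ((S : Subgroup G) : Set G) := by
        apply hcent _ (hRH hy)
        obtain ⟨k, hk⟩ := hRr ⟨_, hy⟩
        have hk' : (g * y * g⁻¹) ^ r ^ k = 1 := by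
          have := congrArg Subtype.val hk
          simpa using this
        have hdvd : orderOf (g * y * g⁻¹) ∣ r ^ k := orderOf_dvd_of_pow_eq_one hk'
        refine Nat.Coprime.coprime_dvd_left hdvd ?_
        apply Nat.Coprime.pow_left
        exact (Nat.coprime_primes hr Fact.out).mpr hrp
      rw [Subgroup.mem_centralizer_iff]
      intro q hq
      have hq1 : g * q * g⁻¹ ∈ (S : Subgroup G) := hg q hq
      have := (Subgroup.mem_centralizer_iff.mp hy1) _ hq1
      -- this : g q g⁻¹ * (g y g⁻¹) = g y g⁻¹ * (g q g⁻¹)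
      have h3 : g * (q * y) * g⁻¹ = g * (y * q) * g⁻¹ := by
        calc g * (q * y) * g⁻¹ = g * q * g⁻¹ * (g * y * g⁻¹) := by group
          _ = g * y * g⁻¹ * (g * q * g⁻¹) := this
          _ = g * (y * q) * g⁻¹ := by group
      exact mul_left_cancel (mul_right_cancel h3)
    have hi1 : (R.map (MulAut.conj g⁻¹).toMonoidHom).index = R.index :=
      Subgroup.index_map_equiv R (MulAut.conj g⁻¹)
    have hi2 : (centralizer (Q' : Set G)).index ∣ R.index := by
      rw [← hi1]
      exact Subgroup.index_dvd_of_le hRC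
    have hi3 : (centralizer (Q' : Set G)).relIndex (normalizer (Q' : Set G)) ∣
        (centralizer (Q' : Set G)).index :=
      Subgroup.relIndex_dvd_index_of_le (Subgroup.centralizer_le_normalizer _)
    exact hRi (hr1.trans (hi3.trans hi2))
  have hxC := mem_centralizer_of_coprime_relIndex Q' (x : G) hxN hcop
  rw [Subgroup.mem_centralizer_iff]
  intro q hq
  have hq' : (q : G) ∈ Q' := by rw [hQ']; exact ⟨q, hq, rfl⟩
  have := (Subgroup.mem_centralizer_iff.mp hxC) _ hq'
  apply Subtype.ext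
  simpa using this

/-- The inductive step: if the normal `p`-complement of `K` lies in a conjugate of `H`, then so
does `K`. -/
theorem exists_conj_le_step [Finite G] {p : ℕ} [Fact p.Prime] (H : Subgroup G) (S : Sylow p G)
    (hSH : (S : Subgroup G) ≤ H)
    (hcent : ∀ x ∈ H, (orderOf x).Coprime p → x ∈ centralizer ((S : Subgroup G) : Set G))
    (K : Subgroup G) (PK : Sylow p K) (N : Subgroup K) (hN : N.Normal)
    (hNc : N.IsComplement' (PK : Subgroup K))
    (g : G) (hg : N.map K.subtype ≤ H.map (MulAut.conj g).toMonoidHom) :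
    ∃ g', K ≤ H.map (MulAut.conj g').toMonoidHom := by
  obtain ⟨Q, hQ⟩ : ∃ Q : Subgroup G, Q = N.map K.subtype := ⟨_, rfl⟩
  rw [← hQ] at hg
  -- `N` has order prime to `p`
  have hNcard : (Nat.card N).Coprime p := by
    have h1 : (PK : Subgroup K).index = Nat.card N := hNc.index_eq_card
    rw [← h1]
    exact ((Nat.Prime.coprime_iff_not_dvd Fact.out).mpr PK.not_dvd_index).symm
  have hQord : ∀ y ∈ Q, (orderOf y).Coprime p := by
    intro y hy
    rw [hQ] at hy
    obtain ⟨n, hn, rfl⟩ := hy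
    have h1 : orderOf (K.subtype n) = orderOf n := Subgroup.orderOf_coe n
    rw [h1]
    have h2 : orderOf n = orderOf (⟨n, hn⟩ : N) := (Subgroup.orderOf_mk n hn).symm
    rw [h2]
    exact Nat.Coprime.coprime_dvd_left (orderOf_dvd_natCard _) hNcard
  -- the conjugate of S
  obtain ⟨S', hS'⟩ : ∃ S' : Subgroup G, S' = (S : Subgroup G).map (MulAut.conj g).toMonoidHom :=
    ⟨_, rfl⟩
  have hS'p : IsPGroup p S' := by rw [hS']; exact S.isPGroup'.map _
  have hS'H : S' ≤ H.map (MulAut.conj g).toMonoidHom := by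
    rw [hS']; exact Subgroup.map_mono hSH
  have hS'i : ¬ p ∣ S'.index := by
    have : S'.index = (S : Subgroup G).index := by
      rw [hS']; exact Subgroup.index_map_equiv (S : Subgroup G) (MulAut.conj g)
    rw [this]; exact S.not_dvd_index
  have hS'C : S' ≤ centralizer (Q : Set G) := by
    intro s hs
    rw [hS', mem_map_conj_iff] at hs
    rw [Subgroup.mem_centralizer_iff]
    intro y hy
    have hy1 : g⁻¹ * y * g ∈ H := (mem_map_conj_iff g y H).mp (hg hy)
    have hy2 : (orderOf (g⁻¹ * y * g)).Coprime p := by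
      have : orderOf (g⁻¹ * y * g) = orderOf y := by
        have := orderOf_injective (MulAut.conj g⁻¹).toMonoidHom (MulAut.conj g⁻¹).injective y
        simpa [MulAut.conj_apply] using this
      rw [this]; exact hQord y hy
    have := (Subgroup.mem_centralizer_iff.mp (hcent _ hy1 hy2)) _ hs
    -- this : g⁻¹ s g * (g⁻¹ y g) = g⁻¹ y g * (g⁻¹ s g)
    have h3 : g⁻¹ * (y * s) * g = g⁻¹ * (s * y) * g := by
      calc g⁻¹ * (y * s) * g = g⁻¹ * y * g * (g⁻¹ * s * g) := by group
        _ = g⁻¹ * s * g * (g⁻¹ * y * g) := this.symm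
        _ = g⁻¹ * (s * y) * g := by group
    exact mul_left_cancel (mul_right_cancel h3)
  obtain ⟨M, hM⟩ : ∃ M, M = normalizer (Q : Set G) := ⟨_, rfl⟩
  have hS'M : S' ≤ M := by rw [hM]; exact hS'C.trans (Subgroup.centralizer_le_normalizer _)
  have hKM : K ≤ M := by
    intro k hk
    rw [hM, Subgroup.mem_normalizer_iff]
    intro y
    rw [hQ]
    constructor
    · rintro ⟨n, hn, rfl⟩
      exact ⟨⟨k, hk⟩ * n * ⟨k, hk⟩⁻¹, hN.conj_mem n hn _, by simp⟩
    · rintro ⟨n, hn, hne⟩
      have hyK : y ∈ K := by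
        have h1 : k * y * k⁻¹ ∈ K := by rw [← hne]; exact n.2
        have h2 : y = k⁻¹ * (k * y * k⁻¹) * k := by group
        rw [h2]
        exact K.mul_mem (K.mul_mem (K.inv_mem hk) h1) hk
      refine ⟨⟨y, hyK⟩, ?_, rfl⟩
      have h3 : (⟨y, hyK⟩ : K) = ⟨k, hk⟩⁻¹ * n * ⟨k, hk⟩⁻¹⁻¹ := by
        apply Subtype.ext
        have : (n : G) = k * y * k⁻¹ := hne
        simp [this, mul_assoc]
      rw [h3]
      exact hN.conj_mem n hn _
  obtain ⟨P', hP'⟩ : ∃ P' : Subgroup G, P' = (PK : Subgroup K).map K.subtype := ⟨_, rfl⟩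
  have hP'p : IsPGroup p P' := by rw [hP']; exact PK.isPGroup'.map _
  have hP'M : P' ≤ M := by
    rw [hP']; exact (Subgroup.map_subtype_le _).trans hKM
  obtain ⟨n, hnM, hn⟩ := Cfsg.Agent.Lib.Helper96.exists_conj_le_of_not_dvd_relIndex M P' S'
    hP'p hS'p hP'M (fun h => hS'i (h.trans (Subgroup.relIndex_dvd_index_of_le hS'M)))
  refine ⟨n⁻¹ * g, ?_⟩
  intro k hk
  rw [mem_map_conj_iff]
  -- factor k = q * a
  obtain ⟨⟨⟨q, hq⟩, ⟨a, ha⟩⟩, hqa, -⟩ := (Subgroup.isComplement'_def.mp hNc).existsUnique ⟨k, hk⟩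
  have hk' : k = (q : G) * (a : G) := by
    have := congrArg Subtype.val hqa
    simpa using this.symm
  have hqQ : (q : G) ∈ Q := by rw [hQ]; exact ⟨q, hq, rfl⟩
  have haP : (a : G) ∈ P' := by rw [hP']; exact ⟨a, ha, rfl⟩
  have h1 : n * (q : G) * n⁻¹ ∈ H.map (MulAut.conj g).toMonoidHom := by
    apply hg
    rw [hM, Subgroup.mem_normalizer_iff] at hnM
    exact (hnM _).mp hqQ
  have h2 : n * (a : G) * n⁻¹ ∈ H.map (MulAut.conj g).toMonoidHom := hS'H (hn _ haP)
  rw [mem_map_conj_iff] at h1 h2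
  have h3 : (n⁻¹ * g)⁻¹ * k * (n⁻¹ * g) =
      (g⁻¹ * (n * (q : G) * n⁻¹) * g) * (g⁻¹ * (n * (a : G) * n⁻¹) * g) := by
    rw [hk']; group
  rw [h3]
  exact H.mul_mem h1 h2

/-- Main induction: every `π`-subgroup lies in a conjugate of `H`. -/
theorem exists_conj_le_of_hall_aux [Finite G] (π τ : Set ℕ) (H : Subgroup G) (hH : IsPiHall π H)
    (hτ : ∀ K : Subgroup G, (∀ p : ℕ, p.Prime → p ∣ Nat.card K → p ∈ τ) →
      ∃ g, K ≤ H.map (MulAut.conj g).toMonoidHom)
    (hσ : ∀ p : ℕ, p.Prime → p ∈ π → p ∉ τ → ∃ S : Sylow p G, (S : Subgroup G) ≤ H ∧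
      ∀ x ∈ H, (orderOf x).Coprime p → x ∈ centralizer ((S : Subgroup G) : Set G)) :
    ∀ (n : ℕ) (K : Subgroup G), Nat.card K = n → IsPiSubgroup π K →
      ∃ g, K ≤ H.map (MulAut.conj g).toMonoidHom := by
  intro n
  induction n using Nat.strong_induction_on with
  | _ n ih =>
    intro K hKn hK
    by_cases hKτ : ∀ p : ℕ, p.Prime → p ∣ Nat.card K → p ∈ τ
    · exact hτ K hKτ
    · push Not at hKτ
      obtain ⟨p, hp, hpK, hpτ⟩ := hKτ
      haveI : Fact p.Prime := ⟨hp⟩
      obtain ⟨S, hSH, hcent⟩ := hσ p hp (hK p hp hpK) hpτ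
      obtain ⟨PK⟩ : Nonempty (Sylow p K) := inferInstance
      obtain ⟨N, hN, hNc⟩ := hasNormalComplement_of_hall_central π H hH S hcent K hK PK
      -- `N` is smaller than `K`
      have hcard : Nat.card N * Nat.card (PK : Subgroup K) = Nat.card K := hNc.card_mul_card
      have hPK1 : 1 < Nat.card (PK : Subgroup K) := by
        have hdvd : p ∣ Nat.card (PK : Subgroup K) := by
          rw [Sylow.card_eq_multiplicity]
          apply dvd_pow_self
          intro h0
          have := (Nat.Prime.factorization_pos_of_dvd hp Nat.card_pos.ne' hpK)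
          omega
        exact lt_of_lt_of_le hp.one_lt (Nat.le_of_dvd Nat.card_pos hdvd)
      have hNlt : Nat.card (N.map K.subtype) < n := by
        rw [Subgroup.card_map_of_injective K.subtype_injective, ← hKn, ← hcard]
        have : 0 < Nat.card N := Nat.card_pos
        nlinarith
      have hNπ : IsPiSubgroup π (N.map K.subtype) := by
        intro r hr hrN
        apply hK r hr
        exact hrN.trans (Subgroup.card_dvd_of_le (Subgroup.map_subtype_le _))
      obtain ⟨g, hg⟩ := ih _ hNlt (N.map K.subtype) rfl hNπ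
      exact exists_conj_le_step H S hSH hcent K PK N hN hNc g hg

end Cfsg.Agent.Lib.Helper54
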