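import Mathlib
import Cfsg.Prelude.Def_Local
import Cfsg.Prelude.Def_Transfer
import Cfsg.Agent.Lib.Helper54.PConstr1
import Cfsg.Agent.Lib.Helper55.SolvCore
import Cfsg.Agent.Lib.Helper55.Cores
import Cfsg.Agent.Lib.Helper22.Signalizer
import Cfsg.Agent.Lib.Helper24.Coprime
import Cfsg.Agent.S1952

set_option autoImplicit false
set_option linter.style.haveILetI false

/-! A `q'`-subgroup `U` of a solvable `p'`-group `K` acted on by a noncyclic elementary abelian
`p`-group `A`, such that `[U, C_K(B)]` is a `q'`-group for every hyperplane `B` of `A`, lies in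
`O_{q'}(K)`. -/

namespace Cfsg.Agent.Lib.Helper54

open Cfsg Subgroup
open scoped commutatorElement

theorem pPrimePCore_characteristic' {G : Type*} [Group G] [Finite G] (p : ℕ) [Fact p.Prime] :
    (pPrimePCore p G).Characteristic := by
  rw [Subgroup.characteristic_iff_comap_eq]
  intro φ
  refine comap_pPrimePCore p φ.toMonoidHom φ.surjective ?_
  have : φ.toMonoidHom.ker = ⊥ := (MonoidHom.ker_eq_bot_iff _).mpr φ.injective
  rw [this, Subgroup.card_bot]
  exact Nat.coprime_one_left p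

/-- an element whose order is prime to `q` and whose `q^k`-th power lies in a subgroup lies in
that subgroup -/
theorem mem_of_pow_prime_pow_mem {G : Type*} [Group G] (q : ℕ) (N : Subgroup G) (w : G)
    (hw : (orderOf w).Coprime q) (k : ℕ) (hk : w ^ q ^ k ∈ N) : w ∈ N := by
  have hcop : (q ^ k).Coprime (orderOf w) := (Nat.Coprime.pow_right k hw).symm
  obtain ⟨m, hm⟩ := exists_pow_eq_self_of_coprime hcop
  rw [← hm]
  exact N.pow_mem hk m

/-- the main theorem -/
theorem le_pPrimeCore_of_hyperplane_commutators {H : Type*} [Group H] [Finite H] (p : ℕ)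
    [Fact p.Prime] (A K : Subgroup H) (hA : Cfsg.IsElementaryAbelian p A)
    (hA2 : p ^ 2 ≤ Nat.card ↥A) (hK : ¬ p ∣ Nat.card ↥K) (hKs : Group.IsSolvable ↥K)
    (hAK : A ≤ Subgroup.normalizer (K : Set H)) (q : ℕ) [Fact q.Prime]
    (U : Subgroup H) (hU : U ≤ K) (hUq : ¬ q ∣ Nat.card ↥U)
    (hcomm : ∀ B : Subgroup H, B ≤ A → B.relIndex A = p →
      ¬ q ∣ Nat.card ↥⁅U, K ⊓ Subgroup.centralizer (B : Set H)⁆) :
    U ≤ (Cfsg.pPrimeCore q ↥K).map K.subtype := by
  classical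
  have hp : p.Prime := Fact.out
  have hq : q.Prime := Fact.out
  haveI hN'n : (pPrimeCore q ↥K).Normal := pPrimeCore_normal q ↥K
  haveI hQ'n : (pPrimePCore q ↥K).Normal := pPrimePCore_normal' q
  haveI hQ'c : (pPrimePCore q ↥K).Characteristic := pPrimePCore_characteristic' q
  obtain ⟨N', hN'⟩ : ∃ N' : Subgroup ↥K, N' = pPrimeCore q ↥K := ⟨_, rfl⟩
  obtain ⟨Q, hQ⟩ : ∃ Q : Subgroup H, Q = (pPrimePCore q ↥K).map K.subtype := ⟨_, rfl⟩
  have hQK : Q ≤ K := by rw [hQ]; exact Subgroup.map_subtype_le _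
  have hAQ : A ≤ normalizer (Q : Set H) := by
    rw [hQ]
    exact hAK.trans (Helper24.normalizer_le_normalizer_map_of_characteristic K _)
  have hQp : ¬ p ∣ Nat.card ↥Q := fun h => hK (h.trans (Subgroup.card_dvd_of_le hQK))
  -- the subgroup D of elements of K commuting with U modulo O_{q'}(K)
  obtain ⟨D', hD'⟩ : ∃ D' : Subgroup ↥K, D' = (centralizer
      (((U.subgroupOf K).map (QuotientGroup.mk' (pPrimeCore q ↥K)) :
        Subgroup (↥K ⧸ pPrimeCore q ↥K)) : Set (↥K ⧸ pPrimeCore q ↥K))).comap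
      (QuotientGroup.mk' (pPrimeCore q ↥K)) := ⟨_, rfl⟩
  have hD'mem : ∀ x : ↥K, (∀ u : ↥K, (u : H) ∈ U → u⁻¹ * x⁻¹ * u * x ∈ pPrimeCore q ↥K) →
      x ∈ D' := by
    intro x hx
    rw [hD', Subgroup.mem_comap, Subgroup.mem_centralizer_iff]
    rintro _ ⟨u, hu, rfl⟩
    rw [SetLike.mem_coe, Subgroup.mem_subgroupOf] at hu
    have := hx u hu
    rw [QuotientGroup.mk'_apply, QuotientGroup.mk'_apply, ← QuotientGroup.mk_mul,
      ← QuotientGroup.mk_mul, QuotientGroup.eq]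
    have h2 : (u * x)⁻¹ * (x * u) = (u⁻¹ * x⁻¹ * u * x)⁻¹ := by group
    rw [h2]
    exact (pPrimeCore q ↥K).inv_mem this
  have hD'comm : ∀ x ∈ D', ∀ u : ↥K, (u : H) ∈ U →
      (QuotientGroup.mk' (pPrimeCore q ↥K) u) * (QuotientGroup.mk' (pPrimeCore q ↥K) x) =
      (QuotientGroup.mk' (pPrimeCore q ↥K) x) * (QuotientGroup.mk' (pPrimeCore q ↥K) u) := by
    intro x hx u hu
    rw [hD', Subgroup.mem_comap, Subgroup.mem_centralizer_iff] at hx
    exact hx _ ⟨u, Subgroup.mem_subgroupOf.mpr hu, rfl⟩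
  obtain ⟨D, hD⟩ : ∃ D : Subgroup H, D = D'.map K.subtype := ⟨_, rfl⟩
  -- Step 1: Q ≤ D
  have hQD : Q ≤ D := by
    by_contra hnot
    obtain ⟨B, hBA, hBcard, hB⟩ :=
      Helper22.exists_hyperplane_centralizer_not_le p A hA Q D hQp hAQ hnot
    -- find a hyperplane B₁ ≤ B
    have hex : ∃ B₁ : Subgroup H, B₁ ≤ B ∧ B₁ ≤ A ∧ B₁.relIndex A = p := by
      by_cases hBeq : B = A
      · -- A is nontrivial
        have hA1 : ∃ z ∈ A, z ≠ 1 := by
          by_contra hcon
          push Not at hcon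
          have : A = ⊥ := (Subgroup.eq_bot_iff_forall A).mpr hcon
          rw [this, Subgroup.card_bot] at hA2
          have : 1 < p ^ 2 := Nat.one_lt_pow (by norm_num) hp.one_lt
          omega
        obtain ⟨z, hzA, hz1⟩ := hA1
        obtain ⟨B₁, hB₁A, -, hB₁i⟩ := Cfsg.Agent.S1952.exists_hyperplane A hA z hzA hz1
        refine ⟨B₁, hBeq ▸ hB₁A, hB₁A, ?_⟩
        have h1 := Subgroup.relIndex_mul_index hB₁A
        rw [hB₁i] at h1
        exact Nat.eq_of_mul_eq_mul_right (Nat.pos_of_ne_zero Subgroup.index_ne_zero_of_finite) h1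
      · refine ⟨B, le_refl _, hBA, ?_⟩
        have h1 : Nat.card ↥B * B.relIndex A = Nat.card ↥A := Helper55.card_mul_relIndex_eq hBA
        have hBpos : 0 < Nat.card ↥B := Nat.card_pos
        -- relIndex ≤ p
        have h2 : B.relIndex A ≤ p := by
          by_contra hlt
          push Not at hlt
          have : Nat.card ↥B * p < Nat.card ↥B * B.relIndex A := Nat.mul_lt_mul_of_pos_left hlt hBpos
          omega
        -- relIndex ≠ 1
        have h3 : B.relIndex A ≠ 1 := by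
          intro h1'
          apply hBeq
          exact le_antisymm hBA (Subgroup.relIndex_eq_one.mp h1')
        -- relIndex divides a power of p
        have hAp : IsPGroup p A := by
          intro a
          refine ⟨1, ?_⟩
          apply Subtype.ext
          simpa using hA.2 a a.2
        obtain ⟨n, hn⟩ := hAp.exists_card_eq
        have h4 : B.relIndex A ∣ p ^ n := by
          rw [← hn, ← h1]; exact dvd_mul_left _ _
        obtain ⟨j, -, hj⟩ := (Nat.dvd_prime_pow hp).mp h4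
        rcases j with _ | j
        · rw [pow_zero] at hj; exact absurd hj h3
        · have : p ∣ B.relIndex A := by rw [hj]; exact dvd_pow_self p (Nat.succ_ne_zero j)
          have := Nat.le_of_dvd (by rw [hj]; exact pow_pos hp.pos _) this
          omega
    obtain ⟨B₁, hB₁B, hB₁A, hB₁i⟩ := hex
    apply hB
    intro x hx
    obtain ⟨hxQ, hxB⟩ := Subgroup.mem_inf.mp hx
    have hxB₁ : x ∈ centralizer (B₁ : Set H) :=
      Subgroup.centralizer_le (by exact_mod_cast hB₁B) hxB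
    have hqW := hcomm B₁ hB₁A hB₁i
    rw [hQ] at hxQ
    obtain ⟨x', hx'Q, rfl⟩ := hxQ
    rw [hD]
    refine ⟨x', hD'mem x' ?_, rfl⟩
    intro u hu
    -- w = u⁻¹ x⁻¹ u x
    have hwQ : u⁻¹ * x'⁻¹ * u * x' ∈ pPrimePCore q ↥K := by
      have h1 : u⁻¹ * x'⁻¹ * u ∈ pPrimePCore q ↥K := by
        have := hQ'n.conj_mem x'⁻¹ ((pPrimePCore q ↥K).inv_mem hx'Q) u⁻¹
        simpa using this
      exact (pPrimePCore q ↥K).mul_mem h1 hx'Q
    obtain ⟨k, hk⟩ := exists_pow_mem_pPrimeCore q hwQ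
    refine mem_of_pow_prime_pow_mem q _ _ ?_ k hk
    -- the order of w
    have hwW : ((u⁻¹ * x'⁻¹ * u * x' : ↥K) : H) ∈ ⁅U, K ⊓ centralizer (B₁ : Set H)⁆ := by
      have h1 : ⁅(u : H)⁻¹, (x' : H)⁻¹⁆ ∈ ⁅U, K ⊓ centralizer (B₁ : Set H)⁆ :=
        Subgroup.commutator_mem_commutator (U.inv_mem hu)
          (Subgroup.inv_mem _ (Subgroup.mem_inf.mpr ⟨x'.2, hxB₁⟩))
      have h2 : ((u⁻¹ * x'⁻¹ * u * x' : ↥K) : H) = ⁅(u : H)⁻¹, (x' : H)⁻¹⁆ := by
        rw [commutatorElement_def]; simp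
      rw [h2]; exact h1
    have ho : orderOf (u⁻¹ * x'⁻¹ * u * x' : ↥K) ∣
        Nat.card ↥⁅U, K ⊓ centralizer (B₁ : Set H)⁆ := by
      rw [← Subgroup.orderOf_coe]
      have := orderOf_dvd_natCard (⟨_, hwW⟩ : ↥⁅U, K ⊓ centralizer (B₁ : Set H)⁆)
      rwa [Subgroup.orderOf_mk] at this
    exact Nat.Coprime.coprime_dvd_left ho ((Nat.Prime.coprime_iff_not_dvd hq).mpr hqW).symm
  -- Step 2: U maps into C(O_q(K/N')) ≤ O_q(K/N')
  haveI : Group.IsSolvable (↥K ⧸ pPrimeCore q ↥K) := inferInstance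
  have hHH := Helper55.centralizer_pCore_le (G := ↥K ⧸ pPrimeCore q ↥K) q
    (Helper55.pPrimeCore_quotient_eq_bot q)
  intro u hu
  have huK : u ∈ K := hU hu
  refine ⟨⟨u, huK⟩, ?_, rfl⟩
  have hmem : QuotientGroup.mk' (pPrimeCore q ↥K) ⟨u, huK⟩ ∈
      centralizer (pCore q (↥K ⧸ pPrimeCore q ↥K) : Set (↥K ⧸ pPrimeCore q ↥K)) := by
    rw [Subgroup.mem_centralizer_iff]
    intro y hy
    obtain ⟨y', rfl⟩ := QuotientGroup.mk'_surjective (pPrimeCore q ↥K) y
    have hy'Q : y' ∈ pPrimePCore q ↥K := by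
      unfold pPrimePCore
      rw [Subgroup.mem_comap]
      exact hy
    have hy'D : (y' : H) ∈ D := hQD (by rw [hQ]; exact ⟨y', hy'Q, rfl⟩)
    rw [hD] at hy'D
    obtain ⟨y'', hy''D, hy''⟩ := hy'D
    have : y'' = y' := Subtype.ext hy''
    rw [this] at hy''D
    exact (hD'comm y' hy''D ⟨u, huK⟩ hu).symm
  have h1 := hHH hmem
  -- the image of u is a q-element and a q'-element
  obtain ⟨k, hk⟩ := (Helper55.pCore_isPGroup (G := ↥K ⧸ pPrimeCore q ↥K) q) ⟨_, h1⟩
  have hk' : (QuotientGroup.mk' (pPrimeCore q ↥K) ⟨u, huK⟩) ^ q ^ k = 1 := by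
    have := congrArg Subtype.val hk
    simpa using this
  rw [← map_pow, QuotientGroup.mk'_apply, QuotientGroup.eq_one_iff] at hk'
  refine mem_of_pow_prime_pow_mem q _ _ ?_ k hk'
  have ho : orderOf (⟨u, huK⟩ : ↥K) ∣ Nat.card ↥U := by
    rw [Subgroup.orderOf_mk]
    have := orderOf_dvd_natCard (⟨u, hu⟩ : ↥U)
    rwa [Subgroup.orderOf_mk] at this
  exact Nat.Coprime.coprime_dvd_left ho ((Nat.Prime.coprime_iff_not_dvd hq).mpr hUq).symm

end Cfsg.Agent.Lib.Helper54
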