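import Mathlib

set_option autoImplicit false

namespace Cfsg.Agent.Lib.Helper54

variable {G : Type*} [Group G]

theorem inv_eq_self_of_orderOf_two {a : G} (ha : orderOf a = 2) : a⁻¹ = a := by
  have h : a ^ 2 = 1 := by rw [← ha]; exact pow_orderOf_eq_one a
  rw [inv_eq_iff_mul_eq_one, ← pow_two]; exact h

theorem conj_prod_of_invol {a b : G} (ha : a⁻¹ = a) (hb : b⁻¹ = b) :
    a * (a * b) * a⁻¹ = (a * b)⁻¹ := by
  rw [mul_inv_rev, ha, hb]
  have : a * a = 1 := by nth_rewrite 1 [← ha]; exact inv_mul_cancel a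
  rw [← mul_assoc, this, one_mul]

theorem conj_prod_of_invol' {a b : G} (ha : a⁻¹ = a) (hb : b⁻¹ = b) :
    b * (a * b) * b⁻¹ = (a * b)⁻¹ := by
  rw [mul_inv_rev, ha, hb]
  have : b * b = 1 := by nth_rewrite 1 [← hb]; exact inv_mul_cancel b
  rw [mul_assoc, mul_assoc, this, mul_one]

/-- If `c` inverts `w` then `c` inverts every power of `w`. -/
theorem conj_pow_of_conj_inv {c w : G} (h : c * w * c⁻¹ = w⁻¹) (k : ℕ) :
    c * w ^ k * c⁻¹ = (w ^ k)⁻¹ := by
  rw [← conj_pow, h, inv_pow]

theorem commute_of_conj_eq {c v : G} (h : c * v * c⁻¹ = v) : Commute v c := by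
  have : c * v = v * c := by
    calc c * v = c * v * c⁻¹ * c := by group
      _ = v * c := by rw [h]
  exact this.symm

/-- Two involutions of a finite group that are not conjugate commute with a common involution,
which is a power of their product. -/
theorem exists_invol_commute_of_not_isConj [Finite G] {a b : G}
    (ha : orderOf a = 2) (hb : orderOf b = 2) (h : ¬ IsConj a b) :
    ∃ u : G, orderOf u = 2 ∧ Commute u a ∧ Commute u b ∧ u ∈ Subgroup.zpowers (a * b) := by
  have ha' := inv_eq_self_of_orderOf_two ha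
  have hb' := inv_eq_self_of_orderOf_two hb
  have h1 := conj_prod_of_invol ha' hb'
  have h2 := conj_prod_of_invol' ha' hb'
  obtain ⟨w, hw⟩ : ∃ w, w = a * b := ⟨_, rfl⟩
  rw [← hw] at h1 h2 ⊢
  have hn : 0 < orderOf w := orderOf_pos w
  rcases Nat.even_or_odd' (orderOf w) with ⟨k, hk | hk⟩
  · -- even case
    have hk0 : k ≠ 0 := by omega
    have hinv : (w ^ k)⁻¹ = w ^ k := by
      rw [inv_eq_iff_mul_eq_one, ← pow_add, ← two_mul, ← hk]; exact pow_orderOf_eq_one w
    refine ⟨w ^ k, ?_, ?_, ?_, ?_⟩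
    · rw [orderOf_pow_of_dvd hk0 ⟨2, by rw [hk]; ring⟩, hk]
      exact Nat.mul_div_left 2 (Nat.pos_of_ne_zero hk0)
    · have := conj_pow_of_conj_inv h1 k
      rw [hinv] at this
      exact commute_of_conj_eq this
    · have := conj_pow_of_conj_inv h2 k
      rw [hinv] at this
      exact commute_of_conj_eq this
    · exact Subgroup.npow_mem_zpowers w k
  · -- odd case
    exfalso
    apply h
    rw [isConj_iff]
    refine ⟨w ^ k, ?_⟩
    have h3 := conj_pow_of_conj_inv h1 k
    have haa : a * a = 1 := by nth_rewrite 1 [← ha']; exact inv_mul_cancel a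
    have h4 : w ^ k * a = a * (w ^ k)⁻¹ := by
      have : a * (a * w ^ k * a⁻¹) = a * (w ^ k)⁻¹ := by rw [h3]
      rw [← this, ha']
      rw [← mul_assoc, ← mul_assoc, haa, one_mul]
    rw [h4]
    have h5 : (w ^ k)⁻¹ * (w ^ k)⁻¹ = w := by
      rw [← mul_inv_rev, ← pow_add, inv_eq_iff_mul_eq_one, ← pow_succ]
      have : k + k + 1 = orderOf w := by omega
      rw [this]; exact pow_orderOf_eq_one w
    rw [mul_assoc, h5, hw, ← mul_assoc, haa, one_mul]

end Cfsg.Agent.Lib.Helper54
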