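import Cfsg.Agent.Lib.Helper21.Lq.Defs
import Cfsg.Agent.Lib.Helper13.SpParabolic

set_option autoImplicit false

/-!
# Lq hive (S2333, owner helper21): leaf C-FIXA `planeGrp_comm`

The group generated by the root subgroups with centre in a totally isotropic plane is abelian:
transvections with orthogonal centres commute.
-/

namespace Cfsg.Agent.Lib.Helper21.Lq

open Module Cfsg.Agent.Lib.Helper6.Ls Cfsg.Agent.Lib.Helper13

section concrete

variable {F : Type*} [Field F] [Fintype F]

/-- transvections with orthogonal centres commute (matrix level, any field). -/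
theorem cfixa_transv_comm {K : Type*} [Field K] {m : ℕ} (e u : Vec K m)
    (heu : Cfsg.sympForm m K e u = 0) (c d : K) :
    sympTransvElt m e c * sympTransvElt m u d = sympTransvElt m u d * sympTransvElt m e c := by
  apply Subtype.ext
  have hue : Cfsg.sympForm m K u e = 0 := by
    rw [sympForm_swap, heu, neg_zero]
  show Cfsg.sympTransvection m e c * Cfsg.sympTransvection m u d
    = Cfsg.sympTransvection m u d * Cfsg.sympTransvection m e c
  apply Matrix.toLin'.injective
  apply LinearMap.ext
  intro x
  simp only [Matrix.toLin'_mul, LinearMap.comp_apply, Matrix.toLin'_apply]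
  rw [sympTransvection_mulVec, sympTransvection_mulVec, sympTransvection_mulVec,
    sympTransvection_mulVec]
  simp only [sympForm_add_left, sympForm_smul_left, heu, hue, mul_zero, add_zero]
  abel

/-- elements of two root sets with orthogonal centres commute. -/
theorem cfixa_rootSet_comm {K : Type*} [Field K] {m : ℕ} (e u : Vec K m)
    (heu : Cfsg.sympForm m K e u = 0) :
    ∀ a ∈ rootSet e, ∀ b ∈ rootSet u, a * b = b * a := by
  rintro a ⟨c, rfl⟩ b ⟨d, rfl⟩
  exact cfixa_transv_comm e u heu c d

/-- a set of pairwise commuting elements generates a commutative subgroup. -/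
theorem cfixa_closure_comm {G : Type*} [Group G] (S : Set G)
    (hS : ∀ a ∈ S, ∀ b ∈ S, a * b = b * a) :
    ∀ a ∈ Subgroup.closure S, ∀ b ∈ Subgroup.closure S, a * b = b * a := by
  have h1 : Subgroup.closure S ≤ Subgroup.centralizer S := by
    rw [Subgroup.closure_le]
    intro a ha
    rw [SetLike.mem_coe, Subgroup.mem_centralizer_iff]
    intro b hb
    exact hS b hb a ha
  have h2 : Subgroup.closure S ≤ Subgroup.centralizer (Subgroup.centralizer S : Set G) :=
    Subgroup.closure_le_centralizer_centralizer S
  intro a ha b hb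
  have hb' := h1 hb
  have ha' := h2 ha
  rw [Subgroup.mem_centralizer_iff] at ha'
  exact (ha' b hb').symm

/-- C-FIXA (twin of helper95's `planeGrp_comm`, renamed to avoid a same-name clash; un-imported) -/
theorem cfixa_planeGrp_comm_twin {m : ℕ} (e1 e2 e3 : Vec F m) (h12 : Cfsg.sympForm m F e1 e2 = 0)
    (h13 : Cfsg.sympForm m F e1 e3 = 0) (h23 : Cfsg.sympForm m F e2 e3 = 0) :
    ∀ a ∈ planeGrp e1 e2 e3, ∀ b ∈ planeGrp e1 e2 e3, a * b = b * a := by
  have h21 : Cfsg.sympForm m F e2 e1 = 0 := by rw [sympForm_swap, h12, neg_zero]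
  have h31 : Cfsg.sympForm m F e3 e1 = 0 := by rw [sympForm_swap, h13, neg_zero]
  have h32 : Cfsg.sympForm m F e3 e2 = 0 := by rw [sympForm_swap, h23, neg_zero]
  have horth : ∀ v v' : F × F × F,
      Cfsg.sympForm m F (v.1 • e1 + v.2.1 • e2 + v.2.2 • e3)
        (v'.1 • e1 + v'.2.1 • e2 + v'.2.2 • e3) = 0 := by
    intro v v'
    simp only [sympForm_add_left, sympForm_add_right, sympForm_smul_left, sympForm_smul_right,
      sympForm_self, h12, h13, h23, h21, h31, h32, mul_zero, add_zero]
  have heq : planeGrp e1 e2 e3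
      = Subgroup.closure (⋃ v : F × F × F, rootSet (v.1 • e1 + v.2.1 • e2 + v.2.2 • e3)) := by
    unfold planeGrp Zgrp
    rw [Subgroup.closure_iUnion]
  rw [heq]
  apply cfixa_closure_comm
  intro a ha b hb
  rw [Set.mem_iUnion] at ha hb
  obtain ⟨v, hv⟩ := ha
  obtain ⟨v', hv'⟩ := hb
  exact cfixa_rootSet_comm _ _ (horth v v') a hv b hv'

end concrete

end Cfsg.Agent.Lib.Helper21.Lq
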