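import Mathlib

set_option autoImplicit false

/-!
# Mi hive (S2140, owner helper81): the existence half

`PSL_n(F)` has a subgroup of index `(q^n - 1)/(q - 1)`: the stabiliser of a point of the projective space
(Mathlib: `PSL` acts primitively, hence transitively, on `ℙ F (Fin n → F)`; `Projectivization.card''`).
-/

namespace Cfsg.Agent.Lib.Helper54.Mi

open scoped LinearAlgebra.Projectivization

/-- the second conjunct of S2140 (any `n ≥ 1`). -/
theorem mi_exists_index {F : Type*} [Field F] [Fintype F] {q : ℕ} (hF : Fintype.card F = q) (n : ℕ)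
    (hn : 1 ≤ n) :
    ∃ H : Subgroup (Matrix.ProjectiveSpecialLinearGroup (Fin n) F), H.index = (q ^ n - 1) / (q - 1) := by
  classical
  have : Nonempty (Fin n) := ⟨⟨0, by omega⟩⟩
  have hne : (Pi.single (⟨0, by omega⟩ : Fin n) (1 : F) : Fin n → F) ≠ 0 := by
    intro h
    have := congrFun h ⟨0, by omega⟩
    simp at this
  let p : ℙ F (Fin n → F) := Projectivization.mk F _ hne
  refine ⟨MulAction.stabilizer (Matrix.ProjectiveSpecialLinearGroup (Fin n) F) p, ?_⟩
  rw [MulAction.index_stabilizer_of_transitive, Projectivization.card'']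
  simp [Nat.card_eq_fintype_card, hF]

/-- the index of a subgroup of `PSL_n` equals the index of its preimage in `SL_n` (for the `PSL → SL` reduction). -/
theorem mi_index_comap {F : Type*} [Field F] (n : ℕ)
    (H : Subgroup (Matrix.ProjectiveSpecialLinearGroup (Fin n) F)) :
    (H.comap (QuotientGroup.mk' (Subgroup.center (Matrix.SpecialLinearGroup (Fin n) F)))).index = H.index :=
  Subgroup.index_comap_of_surjective H (QuotientGroup.mk'_surjective _)

/-- a proper subgroup of `PSL_n` has a proper preimage in `SL_n`. -/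
theorem mi_comap_ne_top {F : Type*} [Field F] (n : ℕ)
    (H : Subgroup (Matrix.ProjectiveSpecialLinearGroup (Fin n) F)) (hH : H ≠ ⊤) :
    H.comap (QuotientGroup.mk' (Subgroup.center (Matrix.SpecialLinearGroup (Fin n) F))) ≠ ⊤ := by
  intro h
  apply hH
  rw [eq_top_iff]
  intro x _
  obtain ⟨y, rfl⟩ := QuotientGroup.mk'_surjective
    (Subgroup.center (Matrix.SpecialLinearGroup (Fin n) F)) x
  have : y ∈ H.comap (QuotientGroup.mk' (Subgroup.center (Matrix.SpecialLinearGroup (Fin n) F))) := by
    rw [h]; trivial
  exact this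

end Cfsg.Agent.Lib.Helper54.Mi
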