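import Cfsg.Agent.Lib.Helper64.MiKIDefs
import Cfsg.Agent.Lib.Helper43.MiTV1
import Cfsg.Agent.Lib.Helper69.MiQV

set_option autoImplicit false

/-!
# Mi hive (S2140, owner helper81), MI-KI sub-hive (owner helper64): leaf KI-HB

The nine small lemmas on `hu`, `emb`, `e0`, `elast`.
-/

namespace Cfsg.Agent.Lib.Helper81.Mi

open Matrix

section concreteKI

variable {F : Type*} [Field F] {n k : ℕ}

/-! ### coordinates -/

theorem kihb_e0_zero (k : ℕ) : e0 F (k + 2) 0 = 1 := by
  simp [e0]

theorem kihb_e0_ne (k : ℕ) (i : Fin (k + 2)) (hi : i ≠ 0) : e0 F (k + 2) i = 0 := by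
  unfold e0
  rw [if_neg]
  intro h
  exact hi (Fin.ext h)

theorem kihb_elast_last (k : ℕ) : elast F (k + 2) (Fin.last (k + 1)) = 1 := by
  simp [elast]

theorem kihb_elast_ne (k : ℕ) (i : Fin (k + 2)) (hi : i ≠ Fin.last (k + 1)) :
    elast F (k + 2) i = 0 := by
  unfold elast
  rw [if_neg]
  intro h
  apply hi
  apply Fin.ext
  simp only [Fin.val_last]
  omega

theorem kihb_emb_zero' (a : Fin k → F) : emb a 0 = 0 := by
  unfold emb
  rw [dif_neg]
  simp

theorem kihb_emb_last (a : Fin k → F) : emb a (Fin.last (k + 1)) = 0 := by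
  unfold emb
  rw [dif_neg]
  simp only [Fin.val_last]
  omega

theorem kihb_emb_mid (a : Fin k → F) (j : Fin k) :
    emb a ⟨(j : ℕ) + 1, by omega⟩ = a j := by
  unfold emb
  rw [dif_pos (by constructor <;> simp)]
  congr 1

theorem kihb_emb_of_mid (a : Fin k → F) (i : Fin (k + 2)) (h : 1 ≤ (i : ℕ) ∧ (i : ℕ) ≤ k) :
    emb a i = a ⟨(i : ℕ) - 1, by omega⟩ := by
  unfold emb
  rw [dif_pos h]

theorem kihb_emb_zero : emb (0 : Fin k → F) = 0 := by
  funext i
  unfold emb
  split_ifs <;> rfl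

theorem kihb_dot_e0 (φ : Fin (k + 2) → F) : φ ⬝ᵥ e0 F (k + 2) = φ 0 := by
  unfold dotProduct
  rw [Finset.sum_eq_single (0 : Fin (k + 2))]
  · rw [kihb_e0_zero, mul_one]
  · intro i _ hi
    rw [kihb_e0_ne k i hi, mul_zero]
  · intro h
    exact absurd (Finset.mem_univ _) h

theorem kihb_elast_dot (x : Fin (k + 2) → F) : elast F (k + 2) ⬝ᵥ x = x (Fin.last (k + 1)) := by
  unfold dotProduct
  rw [Finset.sum_eq_single (Fin.last (k + 1))]
  · rw [kihb_elast_last, one_mul]
  · intro i _ hi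
    rw [kihb_elast_ne k i hi, zero_mul]
  · intro h
    exact absurd (Finset.mem_univ _) h

/-! ### the leaf -/

/-- KI-HB -/
theorem hu_left_pair (a : Fin k → F) (c : F) : (emb a + c • elast F (k + 2)) ⬝ᵥ e0 F (k + 2) = 0 := by
  rw [kihb_dot_e0]
  have h0 : (0 : Fin (k + 2)) ≠ Fin.last (k + 1) := by
    intro h
    have := congrArg Fin.val h
    simp at this
  simp only [Pi.add_apply, Pi.smul_apply, smul_eq_mul]
  rw [kihb_emb_zero', kihb_elast_ne k 0 h0, mul_zero, add_zero]

/-- KI-HB -/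
theorem hu_right_pair (b : Fin k → F) (c : F) : elast F (k + 2) ⬝ᵥ (emb b + c • e0 F (k + 2)) = 0 := by
  rw [kihb_elast_dot]
  have h0 : Fin.last (k + 1) ≠ (0 : Fin (k + 2)) := by
    intro h
    have := congrArg Fin.val h
    simp at this
  simp only [Pi.add_apply, Pi.smul_apply, smul_eq_mul]
  rw [kihb_emb_last, kihb_e0_ne k _ h0, mul_zero, add_zero]

/-- KI-HB -/
theorem hu_left (a : Fin k → F) (c : F) :
    hu a 0 c = tv (e0 F (k + 2)) (emb a + c • elast F (k + 2)) := by
  unfold hu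
  rw [kihb_emb_zero, tv_zero_left, mul_one, dotProduct_zero, sub_zero]

/-- KI-HB -/
theorem hu_right (b : Fin k → F) (c : F) :
    hu 0 b c = tv (emb b + c • e0 F (k + 2)) (elast F (k + 2)) := by
  unfold hu
  rw [kihb_emb_zero, zero_dotProduct, sub_zero, zero_add, ← tv_smul]
  have h1 : elast F (k + 2) ⬝ᵥ (c • e0 F (k + 2)) = 0 := by
    have := hu_right_pair (F := F) (0 : Fin k → F) c
    rwa [kihb_emb_zero, zero_add] at this
  have h2 : elast F (k + 2) ⬝ᵥ emb b = 0 := by
    have := hu_right_pair (F := F) b 0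
    rwa [zero_smul, add_zero] at this
  rw [tv_mul' _ _ _ h1 h2, add_comm (c • e0 F (k + 2)) (emb b)]

/-- KI-HB -/
theorem emb_add_smul_elast_eq_zero (a : Fin k → F) (c : F) (h : emb a + c • elast F (k + 2) = 0) :
    a = 0 ∧ c = 0 := by
  constructor
  · funext j
    have hj := congrFun h ⟨(j : ℕ) + 1, by omega⟩
    simp only [Pi.add_apply, Pi.smul_apply, smul_eq_mul, Pi.zero_apply] at hj
    rw [kihb_emb_mid, kihb_elast_ne, mul_zero, add_zero] at hj
    · exact hj
    · intro h'
      have := congrArg Fin.val h'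
      simp only [Fin.val_last] at this
      omega
  · have hl := congrFun h (Fin.last (k + 1))
    simp only [Pi.add_apply, Pi.smul_apply, smul_eq_mul, Pi.zero_apply] at hl
    rw [kihb_emb_last, kihb_elast_last, mul_one, zero_add] at hl
    exact hl

/-- KI-HB -/
theorem emb_add_smul_e0_eq_zero (b : Fin k → F) (c : F) (h : emb b + c • e0 F (k + 2) = 0) :
    b = 0 ∧ c = 0 := by
  constructor
  · funext j
    have hj := congrFun h ⟨(j : ℕ) + 1, by omega⟩
    simp only [Pi.add_apply, Pi.smul_apply, smul_eq_mul, Pi.zero_apply] at hj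
    rw [kihb_emb_mid, kihb_e0_ne, mul_zero, add_zero] at hj
    · exact hj
    · intro h'
      have := congrArg Fin.val h'
      simp at this
  · have hl := congrFun h 0
    simp only [Pi.add_apply, Pi.smul_apply, smul_eq_mul, Pi.zero_apply] at hl
    rw [kihb_emb_zero', kihb_e0_zero, mul_one, zero_add] at hl
    exact hl

/-- KI-HB -/
theorem e0_ne_zero (k : ℕ) : e0 F (k + 2) ≠ 0 := by
  intro h
  have := congrFun h 0
  rw [kihb_e0_zero] at this
  exact one_ne_zero this

/-- KI-HB -/
theorem elast_ne_zero (k : ℕ) : elast F (k + 2) ≠ 0 := by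
  intro h
  have := congrFun h (Fin.last (k + 1))
  rw [kihb_elast_last] at this
  exact one_ne_zero this

/-- KI-HB: every element of `Qv e0` is some `hu a 0 c`. -/
theorem mem_Qv_e0 (t : SLn (k + 2) F) (ht : t ∈ Qv (e0 F (k + 2))) :
    ∃ (a : Fin k → F) (c : F), t = hu a 0 c := by
  rw [mem_Qv_iff] at ht
  obtain ⟨φ, hφ, rfl⟩ := ht
  rw [kihb_dot_e0] at hφ
  refine ⟨fun j => φ ⟨(j : ℕ) + 1, by omega⟩, φ (Fin.last (k + 1)), ?_⟩
  rw [hu_left]
  congr 1
  funext i
  simp only [Pi.add_apply, Pi.smul_apply, smul_eq_mul]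
  by_cases h0 : i = 0
  · subst h0
    have h0l : (0 : Fin (k + 2)) ≠ Fin.last (k + 1) := by
      intro h
      have := congrArg Fin.val h
      simp at this
    rw [kihb_emb_zero', kihb_elast_ne k 0 h0l, mul_zero, add_zero, hφ]
  · by_cases hl : i = Fin.last (k + 1)
    · subst hl
      rw [kihb_emb_last, kihb_elast_last, mul_one, zero_add]
    · have hi1 : 1 ≤ (i : ℕ) := by
        rcases Nat.eq_zero_or_pos (i : ℕ) with h | h
        · exact absurd (Fin.ext h) h0
        · exact h
      have hi2 : (i : ℕ) ≤ k := by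
        have h1 : (i : ℕ) ≠ k + 1 := by
          intro h
          apply hl
          apply Fin.ext
          simp only [Fin.val_last]
          exact h
        have := i.2
        omega
      rw [kihb_emb_of_mid _ i ⟨hi1, hi2⟩, kihb_elast_ne k i hl, mul_zero, add_zero]
      congr 1
      apply Fin.ext
      simp only
      omega

end concreteKI

end Cfsg.Agent.Lib.Helper81.Mi
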