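import Cfsg.Agent.Lib.Helper73.MiKSDefs
import Cfsg.Agent.Lib.Helper43.MiTV1

set_option autoImplicit false

/-!
# Mi hive (S2140, owner helper81), MI-KS sub-hive (owner helper73): leaf KS-SCAL `ks_scal`

`l_(c v) = l_v` for `c ≠ 0`.
-/

namespace Cfsg.Agent.Lib.Helper81.Mi

open Matrix

variable {F : Type*} [Field F] {n : ℕ}

/-- KS-SCAL -/
theorem ks_scal (H : Subgroup (SLn n F)) (v x : Fin n → F) (hx : IsX H v x) (c : F) (hc : c ≠ 0) :
    IsX H (c • v) x := by
  refine ⟨?_, ?_⟩
  · intro c' h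
    apply hx.1 (c' * c)
    rw [h, smul_smul]
  · intro φ hφ
    have hφv : φ ⬝ᵥ v = 0 := by
      rw [dotProduct_smul, smul_eq_mul] at hφ
      rcases mul_eq_zero.mp hφ with h | h
      · exact absurd h hc
      · exact h
    have hcφv : (c • φ) ⬝ᵥ v = 0 := by
      rw [smul_dotProduct, hφv, smul_zero]
    rw [tv_smul, hx.2 (c • φ) hcφv, smul_dotProduct, smul_eq_mul]
    constructor
    · intro h
      rcases mul_eq_zero.mp h with h | h
      · exact absurd h hc
      · exact h
    · intro h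
      rw [h, mul_zero]

end Cfsg.Agent.Lib.Helper81.Mi
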