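import Cfsg.Agent.Lib.Helper73.MiKSDefs

set_option autoImplicit false

/-!
# Mi hive (S2140, owner helper81), MI-KS sub-hive (owner helper73): leaf KS-UNIQ `ks_uniq`

The line `l_v = span (v, x)` does not depend on the choice of `x`.
-/

namespace Cfsg.Agent.Lib.Helper81.Mi

open Matrix

variable {F : Type*} [Field F] {n : ℕ}

/-- a linear functional on `Fin n → F` is a dot product. -/
theorem ksuniq_dual (f : Module.Dual F (Fin n → F)) (y : Fin n → F) :
    (fun i => f (Pi.single i 1)) ⬝ᵥ y = f y := by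
  classical
  rw [LinearMap.pi_apply_eq_sum_univ f y]
  unfold dotProduct
  apply Finset.sum_congr rfl
  intro i _
  rw [smul_eq_mul, mul_comm]
  congr 1
  show f (Pi.single i 1) = f _
  congr 1
  funext j
  rw [Pi.single_apply]
  by_cases h : i = j
  · rw [if_pos h, if_pos h.symm]
  · rw [if_neg h, if_neg (fun h' => h h'.symm)]

/-- separation from two vectors (same statement as the Mi leaf `exists_covector_sep`, own name). -/
theorem ksuniq_sep (v w x : Fin n → F) (hx : ∀ a b : F, x ≠ a • v + b • w) :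
    ∃ φ : Fin n → F, φ ⬝ᵥ v = 0 ∧ φ ⬝ᵥ w = 0 ∧ φ ⬝ᵥ x = 1 := by
  classical
  have hnot : x ∉ Submodule.span F ({v, w} : Set (Fin n → F)) := by
    intro h
    rw [Submodule.mem_span_pair] at h
    obtain ⟨a, b, hab⟩ := h
    exact hx a b hab.symm
  obtain ⟨f, hfx, hf⟩ := Submodule.exists_dual_map_eq_bot_of_notMem hnot inferInstance
  have hfv : f v = 0 := by
    have : f v ∈ (Submodule.span F ({v, w} : Set (Fin n → F))).map f :=
      Submodule.mem_map_of_mem (Submodule.subset_span (by simp))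
    exact (Submodule.mem_bot F).mp (hf ▸ this)
  have hfw : f w = 0 := by
    have : f w ∈ (Submodule.span F ({v, w} : Set (Fin n → F))).map f :=
      Submodule.mem_map_of_mem (Submodule.subset_span (by simp))
    exact (Submodule.mem_bot F).mp (hf ▸ this)
  refine ⟨(f x)⁻¹ • (fun i => f (Pi.single i 1)), ?_, ?_, ?_⟩
  · rw [smul_dotProduct, ksuniq_dual, hfv, smul_zero]
  · rw [smul_dotProduct, ksuniq_dual, hfw, smul_zero]
  · rw [smul_dotProduct, ksuniq_dual, smul_eq_mul, inv_mul_cancel₀ hfx]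

/-- KS-UNIQ -/
theorem ks_uniq (H : Subgroup (SLn n F)) (v x x' : Fin n → F) (hx : IsX H v x) (hx' : IsX H v x') :
    ∃ a b : F, x' = a • v + b • x := by
  by_contra hcon
  push Not at hcon
  obtain ⟨φ, hφv, hφx, hφx'⟩ := ksuniq_sep v x x' hcon
  have h1 : tv v φ ∈ H := (hx.2 φ hφv).mpr hφx
  have h2 : φ ⬝ᵥ x' = 0 := (hx'.2 φ hφv).mp h1
  rw [hφx'] at h2
  exact one_ne_zero h2

end Cfsg.Agent.Lib.Helper81.Mi
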