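import Mathlib
import Cfsg.Prelude.Def_Local
import Cfsg.Agent.Lib.Helper55.Cores
import Cfsg.Agent.Lib.Helper76.PSolvable
import Cfsg.Agent.Lib.Helper54.PConstr5

set_option autoImplicit false
set_option linter.style.haveILetI false
set_option linter.unusedSectionVars false

namespace Cfsg.Agent.Lib.Helper54

open Cfsg

variable {G : Type*} [Group G]

/-- In a finite group with trivial `p'`-core, if `C_G(O_p(G))` is `p`-solvable then it lies in
`O_p(G)`. -/
theorem centralizer_pCore_le_of_isPSolvable_centralizer [Finite G] (p : ℕ) [Fact p.Prime]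
    (h0 : pPrimeCore p G = ⊥)
    (hsol : IsPSolvable p (Subgroup.centralizer (pCore p G : Set G))) :
    Subgroup.centralizer (pCore p G : Set G) ≤ pCore p G := by
  haveI : (pCore p G).Normal := Helper55.pCore_normal' p
  obtain ⟨W, hW⟩ : ∃ W, W = Subgroup.centralizer (pCore p G : Set G) := ⟨_, rfl⟩
  rw [← hW] at hsol ⊢
  haveI hWn : W.Normal := hW ▸ Subgroup.normal_centralizer
  have hKW : pPrimeCore p W = ⊥ := by
    have h1 := map_pPrimeCore_le_of_normal p W
    rw [h0, le_bot_iff] at h1
    exact (Subgroup.map_eq_bot_iff_of_injective _ W.subtype_injective).mp h1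
  have hPW : (pCore p W).map W.subtype ≤ pCore p G := map_pCore_le_of_normal p W
  have hHH := Helper76.centralizer_pCore_le_of_isPSolvable hsol hKW
  have htop : ∀ w : W, w ∈ pCore p W := by
    intro w
    apply hHH
    rw [Subgroup.mem_centralizer_iff]
    intro r hr
    have hr' : (r : G) ∈ pCore p G := hPW ⟨r, hr, rfl⟩
    have hw : (w : G) ∈ Subgroup.centralizer (pCore p G : Set G) := hW.le w.2
    rw [Subgroup.mem_centralizer_iff] at hw
    exact Subtype.ext (hw r hr')
  have hWp : IsPGroup p W := by
    intro w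
    obtain ⟨j, hj⟩ := (Helper55.pCore_isPGroup p) ⟨w, htop w⟩
    exact ⟨j, congrArg Subtype.val hj⟩
  exact Helper55.le_pCore p W hWp

/-- **A group in which the centralizer of a Sylow `p`-subgroup of `O_{p',p}(G)` is `p`-solvable is
`p`-constrained.** -/
theorem isPConstrained_of_isPSolvable_centralizer [Finite G] (p : ℕ) [Fact p.Prime]
    (P : Sylow p (pPrimePCore p G))
    (hsol : IsPSolvable p (Subgroup.centralizer
      (((P : Subgroup (pPrimePCore p G)).map (pPrimePCore p G).subtype : Subgroup G) : Set G))) :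
    IsPConstrained p G := by
  have hsurj : Function.Surjective (QuotientGroup.mk' (pPrimeCore p G)) :=
    QuotientGroup.mk'_surjective _
  have hker : (Nat.card (QuotientGroup.mk' (pPrimeCore p G)).ker).Coprime p := by
    rw [QuotientGroup.ker_mk']; exact Helper55.pPrimeCore_card_coprime p
  have h0 : pPrimeCore p (G ⧸ pPrimeCore p G) = ⊥ := Helper55.pPrimeCore_quotient_eq_bot p
  obtain ⟨f, hf⟩ : ∃ f : G →* G ⧸ pPrimeCore p G, f = QuotientGroup.mk' (pPrimeCore p G) :=
    ⟨_, rfl⟩
  rw [← hf] at hsurj hker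
  obtain ⟨P', hP'⟩ : ∃ P' : Subgroup G,
    P' = (P : Subgroup (pPrimePCore p G)).map (pPrimePCore p G).subtype := ⟨_, rfl⟩
  rw [← hP'] at hsol
  have hP'p : IsPGroup p P' := hP' ▸ P.2.map _
  have hmapP : P'.map f = pCore p (G ⧸ pPrimeCore p G) := by
    have hL' : (pPrimePCore p G).map f = pCore p (G ⧸ pPrimeCore p G) := by
      rw [map_pPrimePCore p f hsurj hker, pPrimePCore_eq_pCore_of_pPrimeCore_eq_bot p h0]
    have hLp : IsPGroup p ((pPrimePCore p G).map f) := hL' ▸ Helper55.pCore_isPGroup p
    have h1 := sylow_map_subtype_eq_of_isPGroup _ hLp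
      (P.mapSurjective (f.subgroupMap_surjective _))
    rw [Sylow.coe_mapSurjective, Subgroup.map_map] at h1
    rw [hP', Subgroup.map_map, ← hL']
    exact h1
  have hWsol : IsPSolvable p
      (Subgroup.centralizer (pCore p (G ⧸ pPrimeCore p G) : Set (G ⧸ pPrimeCore p G))) := by
    let φ : Subgroup.centralizer (P' : Set G) →*
        Subgroup.centralizer (pCore p (G ⧸ pPrimeCore p G) : Set (G ⧸ pPrimeCore p G)) :=
      (f.comp (Subgroup.centralizer (P' : Set G)).subtype).codRestrict _ (by
        intro c
        rw [← hmapP, Subgroup.mem_centralizer_iff]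
        rintro _ ⟨u, hu, rfl⟩
        have := Subgroup.mem_centralizer_iff.mp c.2 u hu
        change f u * f c = f c * f u
        rw [← map_mul, ← map_mul, this])
    have hφ : Function.Surjective φ := by
      rintro ⟨w, hw⟩
      obtain ⟨c, hc, hfc⟩ := exists_mem_centralizer_map_eq p f hker P' hP'p w
        (by rw [hmapP]; exact hw) (by rw [MonoidHom.range_eq_top.mpr hsurj]; trivial)
      exact ⟨⟨c, hc⟩, Subtype.ext hfc⟩
    exact Helper76.isPSolvable_of_surjective φ hφ hsol
  have hc := centralizer_pCore_le_of_isPSolvable_centralizer p h0 hWsol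
  exact isPConstrained_of_map p f hsurj hker (isPConstrained_of_charP p h0 hc)

end Cfsg.Agent.Lib.Helper54
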