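import Mathlib
import Cfsg.Prelude.Def_Local
import Cfsg.Agent.Lib.Helper54.QBalance

set_option autoImplicit false
set_option linter.style.haveILetI false

/-! Statement S3819: `G = P O_{p'}(G)`, `[H, P]` solvable, `z ∈ C_H(P)` a `q`-element. -/

namespace Cfsg.Agent.Lib.Helper54

open Cfsg Subgroup

universe u

theorem coprime_operator_core_control {G : Type u} [Group G] [Finite G] {p : ℕ} [Fact p.Prime]
    (P : Sylow p G) (hPH : Cfsg.pPrimeCore p G ⊔ (P : Subgroup G) = ⊤)
    (hsol : Group.IsSolvable ↥⁅Cfsg.pPrimeCore p G, (P : Subgroup G)⁆)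
    {q : ℕ} [Fact q.Prime] (z : G) (hzH : z ∈ Cfsg.pPrimeCore p G)
    (hzP : z ∈ Subgroup.centralizer ((P : Subgroup G) : Set G))
    (hz : ∃ k : ℕ, orderOf z = q ^ k) :
    ((Cfsg.pPrimeCore q ↥(Cfsg.pPrimeCore p G ⊓ Subgroup.centralizer ({z} : Set G))).map
        (Cfsg.pPrimeCore p G ⊓ Subgroup.centralizer ({z} : Set G)).subtype ⊓
      (Cfsg.pPrimeCore q ↥(Cfsg.pPrimeCore p G ⊓ Subgroup.centralizer ((P : Subgroup G) : Set G))).map
        (Cfsg.pPrimeCore p G ⊓ Subgroup.centralizer ((P : Subgroup G) : Set G)).subtype) ⊔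
    ⁅(Cfsg.pPrimeCore q ↥(Cfsg.pPrimeCore p G ⊓ Subgroup.centralizer ({z} : Set G))).map
        (Cfsg.pPrimeCore p G ⊓ Subgroup.centralizer ({z} : Set G)).subtype, (P : Subgroup G)⁆ ≤
    (Cfsg.pPrimeCore q ↥(Cfsg.pPrimeCore p G)).map (Cfsg.pPrimeCore p G).subtype := by
  classical
  have hq : q.Prime := Fact.out
  have hHn0 : (pPrimeCore p G).Normal := pPrimeCore_normal p G
  have hHc0 : (Nat.card (pPrimeCore p G)).Coprime p := Helper55.pPrimeCore_card_coprime p
  have hPp0 : IsPGroup p (P : Subgroup G) := P.isPGroup'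
  generalize (P : Subgroup G) = P' at *
  generalize pPrimeCore p G = H at *
  haveI hHn : H.Normal := hHn0
  have hP'p : IsPGroup p P' := hPp0
  have hHcop : (Nat.card P').Coprime (Nat.card H) := by
    obtain ⟨n, hn⟩ := IsPGroup.iff_card.mp hP'p
    rw [hn]
    exact Nat.Coprime.pow_left n hHc0.symm
  obtain ⟨Cz, hCz⟩ : ∃ Cz : Subgroup G, Cz = H ⊓ centralizer ({z} : Set G) := ⟨_, rfl⟩
  obtain ⟨CP, hCP⟩ : ∃ CP : Subgroup G, CP = H ⊓ centralizer (P' : Set G) := ⟨_, rfl⟩
  rw [← hCz, ← hCP]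
  obtain ⟨X, hX⟩ : ∃ X : Subgroup G, X = (pPrimeCore q ↥Cz).map Cz.subtype := ⟨_, rfl⟩
  obtain ⟨W, hW⟩ : ∃ W : Subgroup G, W = (pPrimeCore q ↥CP).map CP.subtype := ⟨_, rfl⟩
  rw [← hX, ← hW]
  obtain ⟨K, hK⟩ : ∃ K : Subgroup G, K = ⁅H, P'⁆ := ⟨_, rfl⟩
  rw [← hK] at hsol
  have hCzH : Cz ≤ H := hCz ▸ inf_le_left
  have hCPH : CP ≤ H := hCP ▸ inf_le_left
  have hXCz : X ≤ Cz := hX ▸ Subgroup.map_subtype_le _
  have hWCP : W ≤ CP := hW ▸ Subgroup.map_subtype_le _
  have hXH : X ≤ H := hXCz.trans hCzH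
  have hWH : W ≤ H := hWCP.trans hCPH
  have hP'H : P' ≤ normalizer (H : Set G) := by
    rw [Subgroup.normalizer_eq_top]; exact le_top
  have hKH : K ≤ H := hK ▸ Helper24.commutator_le_of_le_normalizer H P' hP'H
  -- cardinalities
  have hXq : (Nat.card X).Coprime q := by
    rw [hX, Subgroup.card_map_of_injective Cz.subtype_injective]
    exact Helper55.pPrimeCore_card_coprime q
  have hWq : (Nat.card W).Coprime q := by
    rw [hW, Subgroup.card_map_of_injective CP.subtype_injective]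
    exact Helper55.pPrimeCore_card_coprime q
  -- Step 1: K is normal in G
  haveI hKn : K.Normal := by
    rw [← Subgroup.normalizer_eq_top_iff, eq_top_iff, ← hPH, hK]
    exact sup_le (Helper24.le_normalizer_commutator_left H P')
      (Helper24.le_normalizer_commutator_right H P' hP'H)
  -- Step 2: H = K ⊔ CP
  have hHdec : K ⊔ CP = H := by
    rw [hK, hCP]
    haveI : Group.IsNilpotent ↥P' := hP'p.isNilpotent
    exact Helper24.commutator_sup_centralizer_eq P' H hP'H hHcop (Or.inl inferInstance)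
  -- normalizers
  have hCP_nCP : normalizer (P' : Set G) ≤ normalizer (CP : Set G) := by
    intro g hg
    rw [hCP]
    apply normalizer_inf_normalizer_le_normalizer_inf
    refine Subgroup.mem_inf.mpr ⟨by rw [Subgroup.normalizer_eq_top]; trivial, ?_⟩
    -- g normalizes the centralizer of P'
    rw [Subgroup.mem_normalizer_iff] at hg ⊢
    intro c
    simp only [Subgroup.mem_centralizer_iff]
    constructor
    · intro hc v hv
      have hv' : g⁻¹ * v * g ∈ P' := by
        have := (hg (g⁻¹ * v * g)).mpr (by simpa [mul_assoc] using hv)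
        exact this
      have := hc _ hv'
      calc v * (g * c * g⁻¹) = g * ((g⁻¹ * v * g) * c) * g⁻¹ := by group
        _ = g * (c * (g⁻¹ * v * g)) * g⁻¹ := by rw [this]
        _ = g * c * g⁻¹ * v := by group
    · intro hc v hv
      have hv' : g * v * g⁻¹ ∈ P' := (hg v).mp hv
      have := hc _ hv'
      calc v * c = g⁻¹ * ((g * v * g⁻¹) * (g * c * g⁻¹)) * g := by group
        _ = g⁻¹ * ((g * c * g⁻¹) * (g * v * g⁻¹)) * g := by rw [this]
        _ = c * v := by group
  haveI hWchar : (pPrimeCore q ↥CP).Characteristic := pPrimeCore_characteristic' q ↥CP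
  have hnW : normalizer (CP : Set G) ≤ normalizer (W : Set G) := by
    rw [hW]; exact Helper24.normalizer_le_normalizer_map_of_characteristic CP _
  have hP'W : P' ≤ normalizer (W : Set G) :=
    (Subgroup.le_normalizer.trans hCP_nCP).trans hnW
  have hCPW : CP ≤ normalizer (W : Set G) := Subgroup.le_normalizer.trans hnW
  have hnK : ∀ A : Subgroup G, A ≤ normalizer (K : Set G) := by
    intro A; rw [Subgroup.normalizer_eq_top]; exact le_top
  -- Step 3: M = W ⊔ K is normal in G
  obtain ⟨M, hM⟩ : ∃ M : Subgroup G, M = W ⊔ K := ⟨_, rfl⟩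
  have hWM : W ≤ M := hM ▸ le_sup_left
  have hKM : K ≤ M := hM ▸ le_sup_right
  have hMH : M ≤ H := hM ▸ sup_le hWH hKH
  haveI hMn : M.Normal := by
    rw [← Subgroup.normalizer_eq_top_iff, eq_top_iff, ← hPH, ← hHdec]
    refine sup_le (sup_le (hKM.trans Subgroup.le_normalizer) ?_) ?_
    · intro c hc
      rw [hM]
      exact normalizer_inf_normalizer_le_normalizer_sup W K
        (Subgroup.mem_inf.mpr ⟨hCPW hc, hnK CP hc⟩)
    · intro u hu
      rw [hM]
      exact normalizer_inf_normalizer_le_normalizer_sup W K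
        (Subgroup.mem_inf.mpr ⟨hP'W hu, hnK P' hu⟩)
  -- Step 4: L = M ⊔ ⟨z⟩ is q-solvable
  obtain ⟨L, hL⟩ : ∃ L : Subgroup G, L = M ⊔ zpowers z := ⟨_, rfl⟩
  have hML : M ≤ L := hL ▸ le_sup_left
  have hzL : z ∈ L := hL ▸ (le_sup_right : zpowers z ≤ M ⊔ zpowers z) (Subgroup.mem_zpowers z)
  have hLH : L ≤ H := by
    rw [hL]; exact sup_le hMH ((Subgroup.zpowers_le).mpr hzH)
  have hsolvL : IsPSolvable q ↥L := by
    apply isPSolvable_of_chain q K M L hKM hML hsol (hnK M)
    · rw [Subgroup.normalizer_eq_top]; exact le_top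
    · -- |M : K| divides |W|
      have h1 : K.relIndex M = K.relIndex W := by
        rw [hM]; exact Subgroup.relIndex_sup_right W K
      rw [h1]
      exact Nat.Coprime.coprime_dvd_left (Subgroup.relIndex_dvd_card K W) hWq
    · have h1 : M.relIndex L = M.relIndex (zpowers z) := by
        rw [hL]; exact Subgroup.relIndex_sup_left (zpowers z) M
      obtain ⟨k, hk⟩ := hz
      have h2 : M.relIndex (zpowers z) ∣ q ^ k := by
        rw [← hk, ← Nat.card_zpowers]
        exact Subgroup.relIndex_dvd_card M (zpowers z)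
      obtain ⟨m, -, hm⟩ := (Nat.dvd_prime_pow hq).mp h2
      exact ⟨m, h1.trans hm⟩
  -- Step 5: the `q`-constraint hypothesis for L
  haveI : (pPrimeCore q ↥L).Normal := pPrimeCore_normal q ↥L
  have hc := Helper76.centralizer_pCore_le_of_isPSolvable
    (Helper76.isPSolvable_quotient (pPrimeCore q ↥L) hsolvL) (Helper55.pPrimeCore_quotient_eq_bot q)
  -- Step 6: Y = X ⊓ M lies in O_{q'}(L)
  obtain ⟨Y, hY⟩ : ∃ Y : Subgroup G, Y = X ⊓ M := ⟨_, rfl⟩
  have hYX : Y ≤ X := hY ▸ inf_le_left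
  have hYM : Y ≤ M := hY ▸ inf_le_right
  have hYL : Y ≤ L := hYM.trans hML
  have hYq : (Nat.card Y).Coprime q :=
    Nat.Coprime.coprime_dvd_left (Subgroup.card_dvd_of_le hYX) hXq
  -- X is normalized by Cz
  haveI : (pPrimeCore q ↥Cz).Normal := pPrimeCore_normal q ↥Cz
  have hCzX : Cz ≤ normalizer (X : Set G) := by
    rw [hX]; exact le_normalizer_map_subtype_of_normal Cz _
  have hzcomm : ∀ y ∈ Cz, y * z = z * y := by
    intro y hy
    rw [hCz] at hy
    exact (Subgroup.mem_centralizer_iff.mp hy.2 z rfl).symm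
  have hYL' : Y.subgroupOf L ≤ pPrimeCore q ↥L := by
    apply le_pPrimeCore_of_normalized_by_centralizer q hc (zpowers (⟨z, hzL⟩ : ↥L))
    · -- ⟨z⟩ is a q-group
      obtain ⟨k, hk⟩ := hz
      apply IsPGroup.of_card (n := k)
      rw [Nat.card_zpowers, ← hk]
      exact Subgroup.orderOf_mk z hzL
    · rw [Nat.card_congr (Subgroup.subgroupOfEquivOfLe hYL).toEquiv]; exact hYq
    · intro y hy
      rw [Subgroup.mem_subgroupOf] at hy
      rw [Subgroup.mem_centralizer_iff]
      rintro _ ⟨i, rfl⟩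
      have h1 : (y : G) * z = z * (y : G) := hzcomm _ (hXCz (hYX hy))
      have h2 : Commute (⟨z, hzL⟩ : ↥L) y := by
        apply Subtype.ext
        simpa using h1.symm
      exact (h2.zpow_left i).eq
    · intro g hg y hy
      rw [Subgroup.mem_subgroupOf] at hy ⊢
      have hgz : (⟨z, hzL⟩ : ↥L) * g = g * ⟨z, hzL⟩ :=
        Subgroup.mem_centralizer_iff.mp hg _ (Subgroup.mem_zpowers _)
      have hgz' : z * (g : G) = (g : G) * z := by
        have := congrArg Subtype.val hgz
        simpa using this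
      have hgCz : (g : G) ∈ Cz := by
        rw [hCz]
        refine Subgroup.mem_inf.mpr ⟨hLH g.2, ?_⟩
        rw [Subgroup.mem_centralizer_iff]
        intro w hw
        rw [Set.mem_singleton_iff] at hw
        rw [hw]; exact hgz'
      rw [hY] at hy ⊢
      have h1 : (g : G) * (y : G) * (g : G)⁻¹ ∈ X :=
        (Subgroup.mem_normalizer_iff.mp (hCzX hgCz) _).mp hy.1
      have h2 : (g : G) * (y : G) * (g : G)⁻¹ ∈ M := hMn.conj_mem _ hy.2 _
      exact ⟨by simpa using h1, by simpa using h2⟩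
  -- Step 7
  obtain ⟨TL, hTL⟩ : ∃ TL : Subgroup G, TL = (pPrimeCore q ↥L).map L.subtype := ⟨_, rfl⟩
  have hYTL : Y ≤ TL := by
    intro y hy
    rw [hTL]
    exact ⟨⟨y, hYL hy⟩, hYL' (Subgroup.mem_subgroupOf.mpr hy), rfl⟩
  have hTLq : (Nat.card TL).Coprime q := by
    rw [hTL, Subgroup.card_map_of_injective L.subtype_injective]
    exact Helper55.pPrimeCore_card_coprime q
  have hLTL : L ≤ normalizer (TL : Set G) := by
    rw [hTL]; exact le_normalizer_map_subtype_of_normal L _
  -- Step 8: M ⊓ TL ≤ O_{q'}(M)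
  obtain ⟨TM, hTM⟩ : ∃ TM : Subgroup G, TM = (pPrimeCore q ↥M).map M.subtype := ⟨_, rfl⟩
  have h8 : M ⊓ TL ≤ TM := by
    rw [hTM]
    apply le_map_pPrimeCore_of_le_normalizer q M (M ⊓ TL) inf_le_left
    · intro m hm
      exact normalizer_inf_normalizer_le_normalizer_inf M TL
        (Subgroup.mem_inf.mpr ⟨Subgroup.le_normalizer hm, hLTL (hML hm)⟩)
    · exact Nat.Coprime.coprime_dvd_left (Subgroup.card_dvd_of_le inf_le_right) hTLq
  -- Step 9: O_{q'}(M) ≤ O_{q'}(H)
  haveI hTMchar : (pPrimeCore q ↥M).Characteristic := pPrimeCore_characteristic' q ↥M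
  have h9 : TM ≤ (pPrimeCore q ↥H).map H.subtype := by
    apply le_map_pPrimeCore_of_le_normalizer q H TM
    · rw [hTM]; exact (Subgroup.map_subtype_le _).trans hMH
    · have h1 : H ≤ normalizer (M : Set G) := by
        rw [Subgroup.normalizer_eq_top]; exact le_top
      rw [hTM]
      exact h1.trans (Helper24.normalizer_le_normalizer_map_of_characteristic M _)
    · rw [hTM, Subgroup.card_map_of_injective M.subtype_injective]
      exact Helper55.pPrimeCore_card_coprime q
  have hYT : Y ≤ (pPrimeCore q ↥H).map H.subtype :=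
    (le_inf hYM hYTL).trans (h8.trans h9)
  -- Step 10
  refine le_trans ?_ hYT
  rw [hY]
  refine sup_le (le_inf inf_le_left (inf_le_right.trans hWM)) (le_inf ?_ ?_)
  · -- ⁅X, P'⁆ ≤ X
    apply Helper24.commutator_le_of_le_normalizer X P'
    intro u hu
    haveI : (pPrimeCore q ↥Cz).Characteristic := pPrimeCore_characteristic' q ↥Cz
    have h1 : normalizer (Cz : Set G) ≤ normalizer (X : Set G) := by
      rw [hX]; exact Helper24.normalizer_le_normalizer_map_of_characteristic Cz _
    apply h1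
    rw [hCz]
    apply normalizer_inf_normalizer_le_normalizer_inf
    refine Subgroup.mem_inf.mpr ⟨by rw [Subgroup.normalizer_eq_top]; trivial, ?_⟩
    apply Subgroup.le_normalizer
    rw [Subgroup.mem_centralizer_iff]
    intro w hw
    rw [Set.mem_singleton_iff] at hw
    rw [hw]
    exact (Subgroup.mem_centralizer_iff.mp hzP u hu).symm
  · -- ⁅X, P'⁆ ≤ K ≤ M
    refine le_trans ?_ hKM
    rw [hK]
    exact Subgroup.commutator_mono hXH le_rfl

end Cfsg.Agent.Lib.Helper54
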