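import Mathlib
import Cfsg.Prelude.Def_PLocal
import Cfsg.Agent.Lib.Helper11.ZJ
import Cfsg.Agent.Lib.Helper11.ZJMap
import Cfsg.Agent.Lib.Helper55.Cores
import Cfsg.Agent.S0653
import Cfsg.Agent.S0658

set_option autoImplicit false
set_option linter.style.haveILetI false

/-!
# The relative `Z(J)`-subgroup: the preimage in `P` of `Z(J(P/Z))` (abelian version)
-/

namespace Cfsg.Agent.Lib.Helper54

open Cfsg.Agent.Lib.Helper11

section rel

variable {G : Type*} [Group G]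

/-- `Z ≤ X` and `X / Z` abelian -/
def relQ (Z X : Subgroup G) : Prop := Z ≤ X ∧ ⁅X, X⁆ ≤ Z

/-- the preimage of `Z(J(P/Z))` -/
def relZJ (P Z : Subgroup G) : Subgroup G := zQ (relQ Z) P

theorem relQ_self (Z : Subgroup G) : relQ Z Z :=
  ⟨le_rfl, Subgroup.commutator_le.mpr fun a ha b hb => by
    rw [commutatorElement_def]
    exact Z.mul_mem (Z.mul_mem (Z.mul_mem ha hb) (Z.inv_mem ha)) (Z.inv_mem hb)⟩

theorem famQ_relQ_nonempty [Finite G] {P Z : Subgroup G} (hZP : Z ≤ P) :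
    (famQ (relQ Z) P).Nonempty := by
  classical
  let 𝒯 : Set (Subgroup G) := {X | X ≤ P ∧ relQ Z X}
  have hne : 𝒯.Nonempty := ⟨Z, hZP, relQ_self Z⟩
  obtain ⟨A, hA, hmax⟩ := Set.exists_max_image 𝒯 (fun X => Nat.card X) (Set.toFinite 𝒯) hne
  exact ⟨A, hA.1, hA.2, fun Y hY hQY => hmax Y ⟨hY, hQY⟩⟩

theorem relZJ_le [Finite G] {P Z : Subgroup G} (hZP : Z ≤ P) : relZJ P Z ≤ P := by
  obtain ⟨X, hX⟩ := famQ_relQ_nonempty hZP
  exact (zQ_le_of_mem hX).trans hX.1

theorem le_relZJ (P Z : Subgroup G) : Z ≤ relZJ P Z :=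
  le_zQ fun _ hX => hX.2.1.1

theorem commutator_relZJ_le [Finite G] {P Z : Subgroup G} (hZP : Z ≤ P) :
    ⁅relZJ P Z, relZJ P Z⁆ ≤ Z := by
  obtain ⟨X, hX⟩ := famQ_relQ_nonempty hZP
  exact (Subgroup.commutator_mono (zQ_le_of_mem hX) (zQ_le_of_mem hX)).trans hX.2.1.2

theorem relQ_map_iff {H : Type*} [Group H] (f : G →* H) (hf : Function.Injective f)
    (Z X : Subgroup G) : relQ (Z.map f) (X.map f) ↔ relQ Z X := by
  unfold relQ
  rw [Subgroup.map_le_map_iff_of_injective hf, ← Subgroup.map_commutator,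
    Subgroup.map_le_map_iff_of_injective hf]

/-- `zQ` commutes with an injective homomorphism, for compatible predicates (no hypothesis on
`⊥`, but a nonempty family). -/
theorem zQ_map_of_injective {H : Type*} [Group H] (ι : G →* H) (hι : Function.Injective ι)
    (P : Subgroup G) (QG : Subgroup G → Prop) (QH : Subgroup H → Prop)
    (hne : (famQ QG P).Nonempty)
    (h12 : ∀ X : Subgroup G, X ≤ P → (QH (X.map ι) ↔ QG X)) :
    zQ QH (P.map ι) = (zQ QG P).map ι := by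
  have hinj : ∀ x ∈ P, ι x = 1 → x = 1 := fun x _ hx => hι (by rw [hx, map_one])
  have h1 : ∀ X : Subgroup G, X ≤ P → QG X → QH (X.map ι) := fun X hX h => (h12 X hX).mpr h
  have h2 : ∀ X : Subgroup G, X ≤ P → QH (X.map ι) → QG X := fun X hX h => (h12 X hX).mp h
  have C4 : ∀ X ∈ famQ QG P, X.map ι ∈ famQ QH (P.map ι) := by
    rintro X ⟨hXP, hQX, hmax⟩
    refine ⟨Subgroup.map_mono hXP, h1 X hXP hQX, ?_⟩
    intro Y' hY' hQY'
    have hmapY := map_comap_inf_eq ι P Y' hY'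
    have hYP : Y'.comap ι ⊓ P ≤ P := inf_le_right
    have hQY : QG (Y'.comap ι ⊓ P) := h2 _ hYP (by rw [hmapY]; exact hQY')
    have := hmax _ hYP hQY
    rw [← hmapY, card_map_of_injOn ι P _ hinj hYP, card_map_of_injOn ι P X hinj hXP]
    exact this
  have C5 : ∀ X' ∈ famQ QH (P.map ι), ∃ X ∈ famQ QG P, X.map ι = X' := by
    rintro X' ⟨hX'P, hQX', hmax⟩
    have hmapX := map_comap_inf_eq ι P X' hX'P
    have hXP : X'.comap ι ⊓ P ≤ P := inf_le_right
    refine ⟨X'.comap ι ⊓ P, ⟨hXP, h2 _ hXP (by rw [hmapX]; exact hQX'), ?_⟩, hmapX⟩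
    intro Y hYP hQY
    have := hmax (Y.map ι) (Subgroup.map_mono hYP) (h1 Y hYP hQY)
    rw [← hmapX, card_map_of_injOn ι P _ hinj hXP, card_map_of_injOn ι P Y hinj hYP] at this
    exact this
  ext w
  constructor
  · intro hw
    obtain ⟨X₀, hX₀⟩ := hne
    obtain ⟨z₀, hz₀, rfl⟩ := (mem_zQ.mp hw) _ (C4 X₀ hX₀)
    refine ⟨z₀, ?_, rfl⟩
    rw [SetLike.mem_coe, mem_zQ]
    intro X hX
    obtain ⟨z, hz, hzz⟩ := (mem_zQ.mp hw) _ (C4 X hX)
    have : z = z₀ := hι hzz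
    rwa [← this]
  · rintro ⟨z, hz, rfl⟩
    rw [mem_zQ]
    intro X' hX'
    obtain ⟨X, hX, rfl⟩ := C5 X' hX'
    exact Subgroup.mem_map_of_mem ι ((mem_zQ.mp hz) X hX)

/-- `relZJ` commutes with injective homomorphisms. -/
theorem relZJ_map [Finite G] {H : Type*} [Group H] (f : G →* H) (hf : Function.Injective f)
    {P Z : Subgroup G} (hZP : Z ≤ P) :
    relZJ (P.map f) (Z.map f) = (relZJ P Z).map f := by
  unfold relZJ
  exact zQ_map_of_injective f hf P (relQ Z) (relQ (Z.map f)) (famQ_relQ_nonempty hZP)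
    (fun X _ => relQ_map_iff f hf Z X)

/-- Elements normalizing `P` and `Z` normalize `relZJ P Z`. -/
theorem normalizer_inf_le_normalizer_relZJ [Finite G] {P Z : Subgroup G} (hZP : Z ≤ P) :
    Subgroup.normalizer (P : Set G) ⊓ Subgroup.normalizer (Z : Set G) ≤
      Subgroup.normalizer (relZJ P Z : Set G) := by
  intro g hg
  obtain ⟨hgP, hgZ⟩ := Subgroup.mem_inf.mp hg
  apply mem_normalizer_of_map_conj_eq'
  rw [← relZJ_map _ (MulAut.conj g).injective hZP, map_conj_eq_of_mem_normalizer' hgP,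
    map_conj_eq_of_mem_normalizer' hgZ]

end rel

end Cfsg.Agent.Lib.Helper54
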