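import Mathlib
import Cfsg.Agent.Lib.Helper54.RelZJ

set_option autoImplicit false
set_option linter.style.haveILetI false

/-!
# The relative `Z(J)`-subgroup and quotients
-/

namespace Cfsg.Agent.Lib.Helper54

open Cfsg.Agent.Lib.Helper11 Cfsg.Agent.Lib.Helper55

section quot

variable {X : Type*} [Group X]

theorem isMulCommutative_map_mk'_iff (N : Subgroup X) [N.Normal] (Y : Subgroup X) :
    IsMulCommutative (Y.map (QuotientGroup.mk' N)) ↔ ⁅Y, Y⁆ ≤ N := by
  rw [← Subgroup.commutator_self_eq_bot_iff, ← Subgroup.map_commutator,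
    Subgroup.map_eq_bot_iff, QuotientGroup.ker_mk']

theorem comap_map_mk'_of_le (N : Subgroup X) [N.Normal] {Y : Subgroup X} (hNY : N ≤ Y) :
    (Y.map (QuotientGroup.mk' N)).comap (QuotientGroup.mk' N) = Y := by
  rw [Subgroup.comap_map_eq, QuotientGroup.ker_mk', sup_eq_left.mpr hNY]

theorem map_comap_mk' (N : Subgroup X) [N.Normal] (Y : Subgroup (X ⧸ N)) :
    (Y.comap (QuotientGroup.mk' N)).map (QuotientGroup.mk' N) = Y :=
  Subgroup.map_comap_eq_self_of_surjective (QuotientGroup.mk'_surjective N) Y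

theorem card_eq_card_mul_card_map (N : Subgroup X) [N.Normal] {Y : Subgroup X} (hNY : N ≤ Y) :
    Nat.card Y = Nat.card N * Nat.card (Y.map (QuotientGroup.mk' N)) := by
  have := card_comap_mk' N (Y.map (QuotientGroup.mk' N))
  rwa [comap_map_mk'_of_le N hNY] at this

theorem relQ_comap_mk' (N : Subgroup X) [N.Normal] (Y : Subgroup (X ⧸ N))
    (hY : IsMulCommutative Y) : relQ N (Y.comap (QuotientGroup.mk' N)) := by
  refine ⟨le_comap_mk' N Y, ?_⟩
  rw [← isMulCommutative_map_mk'_iff, map_comap_mk']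
  exact hY

/-- `Z(J(P/N))` is the image of `relZJ P N`. -/
theorem zQ_map_mk' [Finite X] (N : Subgroup X) [N.Normal] (P : Subgroup X) (hNP : N ≤ P) :
    zQ (fun Y : Subgroup (X ⧸ N) => IsMulCommutative Y) (P.map (QuotientGroup.mk' N)) =
      (relZJ P N).map (QuotientGroup.mk' N) := by
  have hNpos : 0 < Nat.card N := Nat.card_pos
  have hcomapP : ∀ Y : Subgroup (X ⧸ N), Y ≤ P.map (QuotientGroup.mk' N) →
      Y.comap (QuotientGroup.mk' N) ≤ P := by
    intro Y hY
    have := Subgroup.comap_mono (f := QuotientGroup.mk' N) hY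
    rwa [comap_map_mk'_of_le N hNP] at this
  -- (e)
  have he : ∀ X' ∈ famQ (relQ N) P, X'.map (QuotientGroup.mk' N) ∈
      famQ (fun Y : Subgroup (X ⧸ N) => IsMulCommutative Y) (P.map (QuotientGroup.mk' N)) := by
    rintro X' ⟨hXP, ⟨hNX, hcomm⟩, hmax⟩
    refine ⟨Subgroup.map_mono hXP, (isMulCommutative_map_mk'_iff N X').mpr hcomm, ?_⟩
    intro Y hY hYc
    have h1 := hmax _ (hcomapP Y hY) (relQ_comap_mk' N Y hYc)
    rw [card_comap_mk', card_eq_card_mul_card_map N hNX] at h1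
    exact Nat.le_of_mul_le_mul_left h1 hNpos
  -- (f)
  have hf : ∀ Y ∈ famQ (fun Y : Subgroup (X ⧸ N) => IsMulCommutative Y)
      (P.map (QuotientGroup.mk' N)), Y.comap (QuotientGroup.mk' N) ∈ famQ (relQ N) P := by
    rintro Y ⟨hYP, hYc, hmax⟩
    refine ⟨hcomapP Y hYP, relQ_comap_mk' N Y hYc, ?_⟩
    rintro X'' hXP ⟨hNX, hcomm⟩
    have h1 := hmax _ (Subgroup.map_mono hXP) ((isMulCommutative_map_mk'_iff N X'').mpr hcomm)
    rw [card_comap_mk', card_eq_card_mul_card_map N hNX]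
    exact Nat.mul_le_mul_left _ h1
  ext w
  constructor
  · intro hw
    obtain ⟨x, rfl⟩ := QuotientGroup.mk'_surjective N w
    refine ⟨x, ?_, rfl⟩
    unfold relZJ
    rw [SetLike.mem_coe, mem_zQ]
    intro X' hX'
    have h1 := (mem_zQ.mp hw) _ (he X' hX')
    have h2 : x ∈ (X'.map (QuotientGroup.mk' N)).comap (QuotientGroup.mk' N) := h1
    rwa [comap_map_mk'_of_le N hX'.2.1.1] at h2
  · rintro ⟨x, hx, rfl⟩
    rw [mem_zQ]
    intro Y hY
    unfold relZJ at hx
    exact (mem_zQ.mp hx) _ (hf Y hY)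

end quot

section nontrivial

variable {G : Type*} [Group G]

/-- If `Z < P` is normalized by the finite `p`-group `P` then `relZJ P Z ≠ Z`. -/
theorem relZJ_ne [Finite G] {p : ℕ} [Fact p.Prime] {P Z : Subgroup G} (hP : IsPGroup p P)
    (hZP : Z ≤ P) (hPZ : P ≤ Subgroup.normalizer (Z : Set G)) (hne : Z ≠ P) : relZJ P Z ≠ Z := by
  haveI hNn : (Z.subgroupOf P).Normal :=
    (Subgroup.normal_subgroupOf_iff_le_normalizer hZP).mpr hPZ
  set N := Z.subgroupOf P with hN
  -- quotient lemma in `↥P`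
  have h1 := zQ_map_mk' N (⊤ : Subgroup P) le_top
  have h2 : zQ (fun Y : Subgroup (P ⧸ N) => IsMulCommutative Y)
      ((⊤ : Subgroup P).map (QuotientGroup.mk' N)) ≠ ⊥ := by
    have hQp : IsPGroup p ((⊤ : Subgroup P).map (QuotientGroup.mk' N)) :=
      (hP.to_quotient N).to_subgroup _
    apply Cfsg.Agent.S0658.zQ_ne_bot hQp
    rw [Subgroup.map_top_of_surjective _ (QuotientGroup.mk'_surjective N)]
    intro htop
    apply hne
    have h3 : N = ⊤ := by
      have h4 : Subgroup.index N = 1 := by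
        rw [Subgroup.index_eq_card]
        have : (⊤ : Subgroup (P ⧸ N)) = ⊥ := htop
        have h5 : Nat.card (⊤ : Subgroup (P ⧸ N)) = 1 := by rw [this]; simp
        rwa [Subgroup.card_top] at h5
      exact Subgroup.index_eq_one.mp h4
    apply le_antisymm hZP
    rw [hN, Subgroup.subgroupOf_eq_top] at h3
    exact h3
  intro hcon
  apply h2
  rw [h1, Subgroup.map_eq_bot_iff, QuotientGroup.ker_mk']
  -- `relZJ ⊤ N ≤ N` from `relZJ P Z = Z`
  have h6 := relZJ_map P.subtype P.subtype_injective (P := (⊤ : Subgroup P)) (Z := N) le_top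
  have h7 : (⊤ : Subgroup P).map P.subtype = P := by
    rw [← MonoidHom.range_eq_map, Subgroup.range_subtype]
  have h8 : N.map P.subtype = Z := by
    rw [hN, Subgroup.map_subgroupOf_eq_of_le hZP]
  rw [h7, h8, hcon] at h6
  intro x hx
  have h9 : (x : G) ∈ (relZJ (⊤ : Subgroup P) N).map P.subtype := ⟨x, hx, rfl⟩
  rw [← h6] at h9
  rw [hN, Subgroup.mem_subgroupOf]
  exact h9

end nontrivial

end Cfsg.Agent.Lib.Helper54
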