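import Cfsg.Agent.Lib.Helper76.SlDefs
import Cfsg.Agent.Lib.Helper3.CharOps
import Cfsg.Agent.S2336

set_option autoImplicit false

/-!
# Sl hive (S2332, owner helper76): leaf K4 `avgS_zero_or_one`

`avgS χ = ⟨χ|_S, 1_S⟩ = ⟨χ, π⟩` (Frobenius reciprocity; `S = Stab(e_0)`, `π` the permutation character on the non-zero
vectors), and `π = 1 + Σ χ_i` with pairwise distinct irreducible `χ_i` (none trivial, since `⟨π, 1⟩ = 1`).
-/

namespace Cfsg.Agent.Lib.Helper76.Sl

open Matrix Cfsg

open scoped ComplexConjugate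

/-- generic core: transitive action, permutation character `1 + Σ χ_i` with distinct irreducible `χ_i`:
the multiplicity of an irreducible `χ` in it is `0` or `1`, and no `χ_i` is trivial. -/
theorem k4_core {G : Type*} [Group G] [Fintype G] (X : Type*) [MulAction G X] [Fintype X]
    [MulAction.IsPretransitive G X] (x0 : X) [Fintype ↥(MulAction.stabilizer G x0)]
    (r : ℕ) (χs : Fin r → (G → ℂ))
    (hirr : ∀ i, IsIrrCharacter G (χs i)) (hinj : Function.Injective χs)
    (hsum : ∀ g : G, (Nat.card (MulAction.fixedBy X g) : ℂ) = 1 + ∑ i, χs i g) :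
    (∀ i, χs i ≠ fun _ => 1) ∧
    ∀ χ : G → ℂ, IsIrrCharacter G χ →
      classInner (fun h : MulAction.stabilizer G x0 => χ h) (fun _ => 1) = 0 ∨
      classInner (fun h : MulAction.stabilizer G x0 => χ h) (fun _ => 1) = 1 := by
  classical
  have hπ : (fun g : G => (Nat.card (MulAction.fixedBy X g) : ℂ)) =
      indFun (MulAction.stabilizer G x0) (fun _ => 1) := Cfsg.Agent.S0190.result X x0
  have hπ' : (fun g : G => (Nat.card (MulAction.fixedBy X g) : ℂ)) =
      (fun _ => (1 : ℂ)) + ∑ i, χs i := by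
    funext g
    rw [hsum g]
    simp [Finset.sum_apply]
  have h1irr : IsIrrCharacter G (fun _ : G => (1 : ℂ)) := Cfsg.Agent.Lib.Helper81.isIrrCharacter_one
  -- `⟨π, 1⟩ = 1`
  have hone : classInner (fun g : G => (Nat.card (MulAction.fixedBy X g) : ℂ)) (fun _ => 1) = 1 := by
    rw [hπ, Cfsg.Agent.Lib.Helper25.frobenius_reciprocity _ _ _ (fun _ _ => rfl)]
    have := Cfsg.Agent.Lib.Helper3.classInner_irr
      (Cfsg.Agent.Lib.Helper81.isIrrCharacter_one (G := MulAction.stabilizer G x0))
      (Cfsg.Agent.Lib.Helper81.isIrrCharacter_one (G := MulAction.stabilizer G x0))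
    rw [if_pos rfl] at this
    exact this
  have hne : ∀ i, χs i ≠ fun _ => 1 := by
    have h2 : classInner (fun g : G => (Nat.card (MulAction.fixedBy X g) : ℂ)) (fun _ => 1)
        = 1 + ∑ i, (if χs i = (fun _ => (1 : ℂ)) then (1 : ℂ) else 0) := by
      rw [hπ', Cfsg.Agent.Lib.Helper3.classInner_add_left,
        Cfsg.Agent.Lib.Helper3.classInner_sum_left,
        Cfsg.Agent.Lib.Helper3.classInner_irr h1irr h1irr, if_pos rfl]
      congr 1
      apply Finset.sum_congr rfl
      intro i _
      rw [Cfsg.Agent.Lib.Helper3.classInner_irr (hirr i) h1irr]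
    rw [hone] at h2
    have h3 : ∑ i, (if χs i = (fun _ => (1 : ℂ)) then (1 : ℂ) else 0) = 0 := by
      linear_combination -h2
    have h4 : ∑ i, (if χs i = (fun _ => (1 : ℂ)) then (1 : ℕ) else 0) = 0 := by
      have : ((∑ i, (if χs i = (fun _ => (1 : ℂ)) then (1 : ℕ) else 0) : ℕ) : ℂ) = 0 := by
        rw [← h3]
        push_cast
        apply Finset.sum_congr rfl
        intro i _
        split_ifs <;> simp
      exact_mod_cast this
    intro i hi
    have h5 := Finset.sum_eq_zero_iff.mp h4 i (Finset.mem_univ i)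
    rw [if_pos hi] at h5
    exact one_ne_zero h5
  refine ⟨hne, ?_⟩
  intro χ hχ
  have hcl : IsClassFunction G χ :=
    Cfsg.Agent.Lib.Helper3.IsCharacter.isClassFunction
      (Cfsg.Agent.Lib.Helper3.IsIrrCharacter.isCharacter hχ)
  have hfr : classInner (fun h : MulAction.stabilizer G x0 => χ h) (fun _ => 1)
      = classInner χ (fun g : G => (Nat.card (MulAction.fixedBy X g) : ℂ)) := by
    rw [hπ, Cfsg.Agent.Lib.Helper25.frobenius_reciprocity' _ _ _ hcl]
  have hval : classInner χ (fun g : G => (Nat.card (MulAction.fixedBy X g) : ℂ))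
      = (if χ = (fun _ => (1 : ℂ)) then (1 : ℂ) else 0) + ∑ i, (if χ = χs i then (1 : ℂ) else 0) := by
    rw [hπ', Cfsg.Agent.Lib.Helper3.classInner_add_right,
      Cfsg.Agent.Lib.Helper3.classInner_sum_right,
      Cfsg.Agent.Lib.Helper3.classInner_irr hχ h1irr]
    congr 1
    apply Finset.sum_congr rfl
    intro i _
    rw [Cfsg.Agent.Lib.Helper3.classInner_irr hχ (hirr i)]
  rw [hfr, hval]
  by_cases h1 : χ = fun _ => (1 : ℂ)
  · right
    rw [if_pos h1]
    have : ∑ i, (if χ = χs i then (1 : ℂ) else 0) = 0 := by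
      apply Finset.sum_eq_zero
      intro i _
      rw [if_neg]
      intro h
      exact hne i (h ▸ h1)
    rw [this, add_zero]
  · rw [if_neg h1, zero_add]
    by_cases h2 : ∃ i, χ = χs i
    · obtain ⟨i0, hi0⟩ := h2
      right
      rw [Finset.sum_eq_single i0]
      · rw [if_pos hi0]
      · intro j _ hj
        rw [if_neg]
        intro h
        exact hj (hinj (h.symm.trans hi0))
      · intro h
        exact absurd (Finset.mem_univ i0) h
    · left
      apply Finset.sum_eq_zero
      intro i _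
      rw [if_neg]
      intro h
      exact h2 ⟨i, h⟩

variable {F : Type*} [Field F] [Fintype F] [DecidableEq F]

open Cfsg.Agent.Lib.Helper69 in
/-- `Sset` is the stabiliser of `e_0` in the action on the non-zero vectors. -/
theorem k4_mem_Sset_iff (k : ℕ) (g : Matrix.SpecialLinearGroup (Fin (k + 3)) F) :
    g ∈ Sset F (k + 1) ↔
      g ∈ MulAction.stabilizer (Matrix.SpecialLinearGroup (Fin (k + 3)) F) (SLVec.bvec (F := F) k 0) := by
  rw [MulAction.mem_stabilizer_iff]
  constructor
  · intro h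
    apply SLVec.NZ.ext'
    rw [SLVec.sl_smul_val, SLVec.bvec_val]
    funext i
    rw [Matrix.mulVec_single_one]
    have := h i
    rw [Matrix.one_apply] at this
    rw [Pi.single_apply]
    exact this
  · intro h i
    have h1 := congrArg SLVec.NZ.val h
    rw [SLVec.sl_smul_val, SLVec.bvec_val] at h1
    have h2 := congrFun h1 i
    rw [Matrix.mulVec_single_one, Pi.single_apply] at h2
    rw [Matrix.one_apply]
    exact h2

open Cfsg.Agent.Lib.Helper69 in
/-- K4 for `SL_{k+3}`. -/
theorem k4_aux (k : ℕ) (χ : Matrix.SpecialLinearGroup (Fin (k + 3)) F → ℂ)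
    (hχ : IsIrrCharacter (Matrix.SpecialLinearGroup (Fin (k + 3)) F) χ) :
    avgS F (k + 1) χ = 0 ∨ avgS F (k + 1) χ = 1 := by
  classical
  obtain ⟨χs, hirr, hinj, hsum⟩ := PermTorus.perm_char_decomp
    (G := Matrix.SpecialLinearGroup (Fin (k + 3)) F) (X := SLVec.NZ (Fin (k + 3)) F) (A := Fˣ)
    (SLVec.bvec k 0) (SLVec.bvec k 1) (SLVec.hfree_bvec k) (SLVec.hy0_bvec k) (SLVec.htr_bvec k)
  have hcore := (k4_core (G := Matrix.SpecialLinearGroup (Fin (k + 3)) F)
    (SLVec.NZ (Fin (k + 3)) F) (SLVec.bvec (F := F) k 0) _ χs hirr hinj hsum).2 χ hχ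
  have heq : avgS F (k + 1) χ =
      classInner (fun h : MulAction.stabilizer (Matrix.SpecialLinearGroup (Fin (k + 3)) F)
        (SLVec.bvec (F := F) k 0) => χ h) (fun _ => 1) := by
    unfold avgS classInner
    have hfilt : ∀ x : Matrix.SpecialLinearGroup (Fin (k + 3)) F,
        x ∈ Finset.univ.filter (fun x : Gm F (k + 1) => x ∈ Sset F (k + 1)) ↔
        x ∈ MulAction.stabilizer (Matrix.SpecialLinearGroup (Fin (k + 3)) F)
          (SLVec.bvec (F := F) k 0) := by
      intro x
      rw [Finset.mem_filter]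
      simp only [Finset.mem_univ, true_and]
      exact k4_mem_Sset_iff k x
    have hs : ∑ x ∈ Finset.univ.filter (fun x : Gm F (k + 1) => x ∈ Sset F (k + 1)), χ x
        = ∑ h : MulAction.stabilizer (Matrix.SpecialLinearGroup (Fin (k + 3)) F)
          (SLVec.bvec (F := F) k 0), χ h :=
      Finset.sum_subtype _ hfilt χ
    have hc : ((Finset.univ.filter (fun x : Gm F (k + 1) => x ∈ Sset F (k + 1))).card : ℂ)
        = (Nat.card (MulAction.stabilizer (Matrix.SpecialLinearGroup (Fin (k + 3)) F)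
          (SLVec.bvec (F := F) k 0)) : ℂ) := by
      rw [Nat.card_eq_fintype_card, Fintype.card_subtype]
      congr 2
      ext x
      rw [hfilt x, Finset.mem_filter]
      simp
    rw [hs, hc]
    congr 1
    apply Finset.sum_congr rfl
    intro h _
    simp
  rw [heq]
  exact hcore

/-- K4 KLE1 -/
theorem avgS_zero_or_one (m : ℕ) (hm : 1 ≤ m) (χ : Gm F m → ℂ) (hχ : IsIrrCharacter (Gm F m) χ) :
    avgS F m χ = 0 ∨ avgS F m χ = 1 := by
  obtain ⟨k, rfl⟩ : ∃ k, m = k + 1 := ⟨m - 1, by omega⟩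
  exact k4_aux k χ hχ

end Cfsg.Agent.Lib.Helper76.Sl
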