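import Cfsg.Agent.Lib.Helper76.SlDefs
import Cfsg.Agent.Lib.Helper3.CharOps
import Cfsg.Agent.S2336
import Cfsg.Agent.Lib.Helper49.SlK6
import Cfsg.Agent.Lib.Helper54.SlK4

set_option autoImplicit false

/-!
# Sl hive (S2332, owner helper76): leaf EX2 `perm_constituent_nonlinear`

No constituent `χ i` of the permutation character on the non-zero vectors is linear: a linear character of `SL_n`,
`n ≥ 3`, is trivial (K6), but `⟨π, 1⟩ = 1` by transitivity (`k4_core`).
-/

namespace Cfsg.Agent.Lib.Helper76.Sl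

open Matrix Cfsg

variable {F : Type*} [Field F] [Fintype F] [DecidableEq F]

open Cfsg.Agent.Lib.Helper69 in
/-- EX2 for `SL_{k+3}`. -/
theorem ex2_aux (k : ℕ)
    (χ : Fin (Fintype.card F - 1) → (Matrix.SpecialLinearGroup (Fin (k + 3)) F → ℂ))
    (hirr : ∀ i, Cfsg.IsIrrCharacter (Matrix.SpecialLinearGroup (Fin (k + 3)) F) (χ i))
    (hinj : Function.Injective χ)
    (hsum : ∀ g : Matrix.SpecialLinearGroup (Fin (k + 3)) F,
      (Nat.card {v : Fin (k + 3) → F // v ≠ 0 ∧ (g : Matrix (Fin (k + 3)) (Fin (k + 3)) F).mulVec v = v} : ℂ)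
        = 1 + ∑ i, χ i g) :
    ∀ i, χ i 1 ≠ 1 := by
  classical
  have hsum' : ∀ g : Matrix.SpecialLinearGroup (Fin (k + 3)) F,
      (Nat.card (MulAction.fixedBy (SLVec.NZ (Fin (k + 3)) F) g) : ℂ) = 1 + ∑ i, χ i g := by
    intro g
    rw [← hsum g, Nat.card_congr (SLVec.fixedEquiv g)]
  have hne := (k4_core (G := Matrix.SpecialLinearGroup (Fin (k + 3)) F)
    (SLVec.NZ (Fin (k + 3)) F) (SLVec.bvec (F := F) k 0) _ χ hirr hinj hsum').1
  intro i hi
  exact hne i (linear_trivial (F := F) (k + 1) (by omega) (χ i) (hirr i) hi)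

/-- EX2: no constituent `χ i` of the permutation character on non-zero vectors is linear. -/
theorem perm_constituent_nonlinear (n : ℕ) (hn : 3 ≤ n)
    (χ : Fin (Fintype.card F - 1) → (Matrix.SpecialLinearGroup (Fin n) F → ℂ))
    (hirr : ∀ i, Cfsg.IsIrrCharacter (Matrix.SpecialLinearGroup (Fin n) F) (χ i))
    (hinj : Function.Injective χ)
    (hsum : ∀ g : Matrix.SpecialLinearGroup (Fin n) F,
      (Nat.card {v : Fin n → F // v ≠ 0 ∧ (g : Matrix (Fin n) (Fin n) F).mulVec v = v} : ℂ) = 1 + ∑ i, χ i g) :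
    ∀ i, χ i 1 ≠ 1 := by
  obtain ⟨k, rfl⟩ : ∃ k, n = k + 3 := ⟨n - 3, by omega⟩
  exact ex2_aux k χ hirr hinj hsum

end Cfsg.Agent.Lib.Helper76.Sl
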