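import Cfsg.Agent.Lib.Helper9.SlK3Defs
import Cfsg.Agent.Lib.Helper3.CharOps
import Cfsg.Agent.Lib.Helper34.SlK3PARB

set_option autoImplicit false

/-!
# Sl hive (S2332, owner helper76), K3 sub-hive (owner helper9): leaf K3-AVG `k3_avg_tvS`

Fourier inversion on `H/Z`: `avgQ χ (tvS) = Σ_β μ(0,β) e(β_0)` (`tvS = h(0,e_0,0)`).
-/

namespace Cfsg.Agent.Lib.Helper76.Sl

open Matrix Cfsg
open scoped ComplexConjugate

variable (F : Type*) [Field F] [Fintype F] [DecidableEq F]

/-- orthogonality on `F^(m+1)`: `Σ_β e(β·c) = q^(m+1) [c = 0]`. -/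
theorem k3avg_orth (m : ℕ) (e : AddChar F ℂ) (he : e ≠ 1) (c : Fin (m + 1) → F) :
    ∑ β : Fin (m + 1) → F, e (∑ j, β j * c j) =
      if c = 0 then ((Fintype.card F : ℂ) ^ (m + 1)) else 0 := by
  classical
  split_ifs with hc
  · subst hc
    simp only [Pi.zero_apply, mul_zero, Finset.sum_const_zero, AddChar.map_zero_eq_one,
      Finset.sum_const, Finset.card_univ, nsmul_eq_mul, mul_one]
    rw [Fintype.card_pi]
    simp
  · let f : (Fin (m + 1) → F) →+ F :=
      { toFun := fun β => ∑ j, β j * c j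
        map_zero' := by simp
        map_add' := by
          intro x y
          simp only [Pi.add_apply, add_mul, Finset.sum_add_distrib] }
    have hne : e.compAddMonoidHom f ≠ 1 := by
      obtain ⟨x, hx⟩ := AddChar.ne_one_iff.mp he
      obtain ⟨j0, hj0⟩ : ∃ j0, c j0 ≠ 0 := by
        by_contra h
        push Not at h
        exact hc (funext h)
      rw [AddChar.ne_one_iff]
      refine ⟨Pi.single j0 (x / c j0), ?_⟩
      rw [AddChar.compAddMonoidHom_apply]
      have : f (Pi.single j0 (x / c j0)) = x := by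
        show ∑ j, (Pi.single j0 (x / c j0) : Fin (m + 1) → F) j * c j = x
        rw [Finset.sum_eq_single j0]
        · rw [Pi.single_eq_same, div_mul_cancel₀ _ hj0]
        · intro j _ hj
          rw [Pi.single_eq_of_ne hj, zero_mul]
        · intro h
          exact absurd (Finset.mem_univ j0) h
      rw [this]
      exact hx
    have := AddChar.sum_eq_zero_of_ne_one hne
    simpa [AddChar.compAddMonoidHom_apply, f] using this

/-- K3-AVG -/
theorem k3_avg_tvS (m : ℕ) (e : AddChar F ℂ) (he : e ≠ 1) (χ : Gm F (m + 1) → ℂ) :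
    avgQ F (m + 1) χ (tvS F m) = ∑ β, k3mu F m e χ 0 β * e (β 0) := by
  classical
  have hq0 : (Fintype.card F : ℂ) ≠ 0 := by
    have : 0 < Fintype.card F := Fintype.card_pos
    exact_mod_cast this.ne'
  -- the left-hand side
  have hL : avgQ F (m + 1) χ (tvS F m) =
      ((Fintype.card F : ℂ) ^ (m + 2))⁻¹ *
        ∑ a : Fin (m + 1) → F, ∑ z : F, χ (k3hmat F m a (Pi.single 0 1) z) := by
    unfold avgQ
    rw [k3_sum_Q F m (fun x => χ (x * tvS F m))]
    congr 1
    apply Finset.sum_congr rfl
    intro a _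
    have h1 : ∀ z : F, k3hmat F m a 0 z * tvS F m = k3hmat F m a (Pi.single 0 1) (z + a 0) := by
      intro z
      rw [k3hmat_tvS, k3hmat_mul]
      congr 1
      · simp
      · simp
      · rw [Finset.sum_eq_single (0 : Fin (m + 1))]
        · simp
        · intro j _ hj
          rw [Pi.single_eq_of_ne hj, mul_zero]
        · intro h
          exact absurd (Finset.mem_univ _) h
    simp_rw [h1]
    exact Fintype.sum_equiv (Equiv.addRight (a 0)) _ _ (fun z => rfl)
  -- the right-hand side
  have hmu : ∀ β : Fin (m + 1) → F, k3mu F m e χ 0 β =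
      ((Fintype.card F : ℂ) ^ (2 * m + 3))⁻¹ *
        ∑ a : Fin (m + 1) → F, ∑ b : Fin (m + 1) → F, ∑ z : F,
          χ (k3hmat F m a b z) * conj (e (∑ j, β j * b j)) := by
    intro β
    unfold k3mu
    rw [k3_sum_H F m]
    congr 1
    apply Finset.sum_congr rfl
    intro a _
    apply Finset.sum_congr rfl
    intro b _
    apply Finset.sum_congr rfl
    intro z _
    congr 3
    apply Finset.sum_congr rfl
    intro j _
    rw [k3hmat_b]
    simp
  have h2 : ∀ β : Fin (m + 1) → F, ∀ b : Fin (m + 1) → F,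
      conj (e (∑ j, β j * b j)) * e (β 0) =
        e (∑ j, β j * ((Pi.single 0 1 : Fin (m + 1) → F) j - b j)) := by
    intro β b
    rw [← AddChar.map_neg_eq_conj, ← AddChar.map_add_eq_mul]
    congr 1
    have : β 0 = ∑ j, β j * (Pi.single 0 1 : Fin (m + 1) → F) j := by
      rw [Finset.sum_eq_single (0 : Fin (m + 1))]
      · simp
      · intro j _ hj
        rw [Pi.single_eq_of_ne hj, mul_zero]
      · intro h
        exact absurd (Finset.mem_univ _) h
    rw [this, ← Finset.sum_neg_distrib, ← Finset.sum_add_distrib]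
    apply Finset.sum_congr rfl
    intro j _
    ring
  have hterm : ∀ β : Fin (m + 1) → F, k3mu F m e χ 0 β * e (β 0) =
      ((Fintype.card F : ℂ) ^ (2 * m + 3))⁻¹ *
        ∑ a : Fin (m + 1) → F, ∑ b : Fin (m + 1) → F, ∑ z : F,
          χ (k3hmat F m a b z) *
            e (∑ j, β j * ((Pi.single 0 1 : Fin (m + 1) → F) j - b j)) := by
    intro β
    rw [hmu β, mul_assoc, Finset.sum_mul]
    congr 1
    apply Finset.sum_congr rfl
    intro a _
    rw [Finset.sum_mul]
    apply Finset.sum_congr rfl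
    intro b _
    rw [Finset.sum_mul]
    apply Finset.sum_congr rfl
    intro z _
    rw [mul_assoc, h2]
  have hswap : ∑ β : Fin (m + 1) → F, ∑ a : Fin (m + 1) → F, ∑ b : Fin (m + 1) → F, ∑ z : F,
        χ (k3hmat F m a b z) * e (∑ j, β j * ((Pi.single 0 1 : Fin (m + 1) → F) j - b j))
      = ∑ a : Fin (m + 1) → F, ∑ b : Fin (m + 1) → F, ∑ z : F,
          χ (k3hmat F m a b z) *
            ∑ β : Fin (m + 1) → F, e (∑ j, β j * ((Pi.single 0 1 : Fin (m + 1) → F) j - b j)) := by
    rw [Finset.sum_comm]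
    apply Finset.sum_congr rfl
    intro a _
    rw [Finset.sum_comm]
    apply Finset.sum_congr rfl
    intro b _
    rw [Finset.sum_comm]
    apply Finset.sum_congr rfl
    intro z _
    rw [Finset.mul_sum]
  have hR : ∑ β, k3mu F m e χ 0 β * e (β 0) =
      ((Fintype.card F : ℂ) ^ (2 * m + 3))⁻¹ *
        ∑ a : Fin (m + 1) → F, ∑ b : Fin (m + 1) → F, ∑ z : F,
          χ (k3hmat F m a b z) *
            ∑ β : Fin (m + 1) → F, e (∑ j, β j * ((Pi.single 0 1 : Fin (m + 1) → F) j - b j)) := by
    rw [Finset.sum_congr rfl (fun β _ => hterm β), ← Finset.mul_sum, hswap]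
  rw [hL, hR]
  -- evaluate the inner sums by orthogonality
  have h3 : ∀ a : Fin (m + 1) → F,
      ∑ b : Fin (m + 1) → F, ∑ z : F, χ (k3hmat F m a b z) *
          ∑ β : Fin (m + 1) → F, e (∑ j, β j * ((Pi.single 0 1 : Fin (m + 1) → F) j - b j))
        = ((Fintype.card F : ℂ) ^ (m + 1)) * ∑ z : F, χ (k3hmat F m a (Pi.single 0 1) z) := by
    intro a
    rw [Finset.sum_eq_single (Pi.single 0 1 : Fin (m + 1) → F)]
    · rw [Finset.mul_sum]
      apply Finset.sum_congr rfl
      intro z _
      have := k3avg_orth F m e he (fun j => (Pi.single 0 1 : Fin (m + 1) → F) j - (Pi.single 0 1 : Fin (m + 1) → F) j)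
      rw [if_pos (by funext j; simp)] at this
      rw [this, mul_comm]
    · intro b _ hb
      apply Finset.sum_eq_zero
      intro z _
      have := k3avg_orth F m e he (fun j => (Pi.single 0 1 : Fin (m + 1) → F) j - b j)
      rw [if_neg] at this
      · rw [this, mul_zero]
      · intro h
        apply hb
        funext j
        have := congrFun h j
        simp only [Pi.zero_apply] at this
        exact (sub_eq_zero.mp this).symm
    · intro h
      exact absurd (Finset.mem_univ _) h
  simp_rw [h3]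
  have hpow : ((Fintype.card F : ℂ) ^ (2 * m + 3))⁻¹ * (Fintype.card F : ℂ) ^ (m + 1)
      = ((Fintype.card F : ℂ) ^ (m + 2))⁻¹ := by
    have h : (Fintype.card F : ℂ) ^ (2 * m + 3)
        = (Fintype.card F : ℂ) ^ (m + 2) * (Fintype.card F : ℂ) ^ (m + 1) := by
      rw [← pow_add]
      congr 1
      ring
    rw [h, mul_inv, mul_assoc, inv_mul_cancel₀ (pow_ne_zero _ hq0), mul_one]
  rw [← Finset.mul_sum, ← mul_assoc, hpow]

end Cfsg.Agent.Lib.Helper76.Sl
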