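import Cfsg.Agent.Lib.Helper9.SlK3Defs
import Cfsg.Agent.Lib.Helper3.CharOps
import Cfsg.Agent.Lib.Helper79.Basic
import Cfsg.Agent.Lib.Helper34.SlK3PARB

set_option autoImplicit false

/-!
# Sl hive (S2332, owner helper76), K3 sub-hive (owner helper9): leaf K3-M1 `k3_mu_nat`

`H = {h(a,b,z)}` is a subgroup of order `q^(2m+3)`, `h(a,b,z) ↦ e(α·a + β·b)` is a linear character of it, and
`μ(α,β)` is its multiplicity in `χ|_H`: a natural number.
-/

namespace Cfsg.Agent.Lib.Helper76.Sl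

open Matrix Cfsg
open scoped ComplexConjugate

variable (F : Type*) [Field F] [Fintype F] [DecidableEq F]

theorem k3m1_exists (m : ℕ) (g : Gm F (m + 1)) (hg : g ∈ K3H F m) :
    ∃ (a b : Fin (m + 1) → F) (z : F), g = k3hmat F m a b z :=
  ⟨_, _, _, k3hmat_surj F m g hg⟩

/-- `H` as a subgroup. -/
def k3m1_H (m : ℕ) : Subgroup (Gm F (m + 1)) where
  carrier := K3H F m
  mul_mem' := by
    intro x y hx hy
    obtain ⟨a, b, z, rfl⟩ := k3m1_exists F m x hx
    obtain ⟨a', b', z', rfl⟩ := k3m1_exists F m y hy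
    rw [k3hmat_mul]
    exact k3hmat_mem F m _ _ _
  one_mem' := by
    rw [← k3hmat_one F m]
    exact k3hmat_mem F m _ _ _
  inv_mem' := by
    intro x hx
    obtain ⟨a, b, z, rfl⟩ := k3m1_exists F m x hx
    rw [k3hmat_inv]
    exact k3hmat_mem F m _ _ _

theorem k3m1_mem_H (m : ℕ) (g : Gm F (m + 1)) : g ∈ k3m1_H F m ↔ g ∈ K3H F m := Iff.rfl

/-- the linear form `α·a(g) + β·b(g)`. -/
def k3m1_ell (m : ℕ) (α β : Fin (m + 1) → F) (g : Gm F (m + 1)) : F :=
  ∑ j, (α j * g.1 0 (k3mid m j) + β j * g.1 (k3mid m j) (Fin.last (m + 2)))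

theorem k3m1_ell_hmat (m : ℕ) (α β a b : Fin (m + 1) → F) (z : F) :
    k3m1_ell F m α β (k3hmat F m a b z) = ∑ j, (α j * a j + β j * b j) := by
  unfold k3m1_ell
  apply Finset.sum_congr rfl
  intro j _
  rw [k3hmat_a, k3hmat_b]

theorem k3m1_ell_mul (m : ℕ) (α β : Fin (m + 1) → F) (x y : Gm F (m + 1)) (hx : x ∈ K3H F m)
    (hy : y ∈ K3H F m) : k3m1_ell F m α β (x * y) = k3m1_ell F m α β x + k3m1_ell F m α β y := by
  obtain ⟨a, b, z, rfl⟩ := k3m1_exists F m x hx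
  obtain ⟨a', b', z', rfl⟩ := k3m1_exists F m y hy
  rw [k3hmat_mul, k3m1_ell_hmat, k3m1_ell_hmat, k3m1_ell_hmat, ← Finset.sum_add_distrib]
  apply Finset.sum_congr rfl
  intro j _
  simp only [Pi.add_apply]
  ring

theorem k3m1_ell_one (m : ℕ) (α β : Fin (m + 1) → F) : k3m1_ell F m α β 1 = 0 := by
  rw [← k3hmat_one F m, k3m1_ell_hmat]
  simp

/-- the linear character `h ↦ e(α·a + β·b)` of `H`. -/
noncomputable def k3m1_phi (m : ℕ) (e : AddChar F ℂ) (α β : Fin (m + 1) → F) : k3m1_H F m →* ℂˣ :=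
  MonoidHom.toHomUnits
    { toFun := fun g => e (k3m1_ell F m α β g.1)
      map_one' := by
        show e (k3m1_ell F m α β 1) = 1
        rw [k3m1_ell_one, AddChar.map_zero_eq_one]
      map_mul' := by
        intro x y
        show e (k3m1_ell F m α β (x.1 * y.1)) = _
        rw [k3m1_ell_mul F m α β x.1 y.1 x.2 y.2, AddChar.map_add_eq_mul] }

theorem k3m1_phi_apply (m : ℕ) (e : AddChar F ℂ) (α β : Fin (m + 1) → F) (g : k3m1_H F m) :
    ((k3m1_phi F m e α β g : ℂˣ) : ℂ) = e (k3m1_ell F m α β g.1) := rfl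

/-- `|H| = q^(2m+3)`. -/
theorem k3m1_card (m : ℕ) : Nat.card (k3m1_H F m) = Fintype.card F ^ (2 * m + 3) := by
  have hbij : Function.Bijective
      (fun p : (Fin (m + 1) → F) × (Fin (m + 1) → F) × F =>
        (⟨k3hmat F m p.1 p.2.1 p.2.2, k3hmat_mem F m _ _ _⟩ : k3m1_H F m)) := by
    constructor
    · rintro ⟨a, b, z⟩ ⟨a', b', z'⟩ h
      have h1 : k3hmat F m a b z = k3hmat F m a' b' z' := congrArg Subtype.val h
      have ha : a = a' := by
        funext j
        rw [← k3hmat_a F m a b z j, h1, k3hmat_a]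
      have hb : b = b' := by
        funext j
        rw [← k3hmat_b F m a b z j, h1, k3hmat_b]
      have hz : z = z' := by
        rw [← k3hmat_z F m a b z, h1, k3hmat_z]
      rw [ha, hb, hz]
    · rintro ⟨g, hg⟩
      obtain ⟨a, b, z, rfl⟩ := k3m1_exists F m g hg
      exact ⟨(a, b, z), rfl⟩
  rw [← Nat.card_congr (Equiv.ofBijective _ hbij), Nat.card_prod, Nat.card_prod,
    Nat.card_eq_fintype_card, Nat.card_eq_fintype_card]
  simp only [Fintype.card_pi, Finset.prod_const, Finset.card_univ, Fintype.card_fin]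
  ring

/-- K3-M1 -/
theorem k3_mu_nat (m : ℕ) (e : AddChar F ℂ) (χ : Gm F (m + 1) → ℂ)
    (hχ : IsCharacter (Gm F (m + 1)) χ) (α β : Fin (m + 1) → F) :
    ∃ n : ℕ, k3mu F m e χ α β = n := by
  classical
  have hres : IsCharacter (k3m1_H F m) (fun h : k3m1_H F m => χ h) :=
    Cfsg.Agent.Lib.Helper3.IsCharacter.restrict hχ (k3m1_H F m)
  have hirr : IsIrrCharacter (k3m1_H F m) (fun g => ((k3m1_phi F m e α β g : ℂˣ) : ℂ)) :=
    Cfsg.Agent.Lib.Helper79.isIrrCharacter_of_monoidHom (k3m1_phi F m e α β)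
  obtain ⟨n, hn⟩ := Cfsg.Agent.Lib.Helper3.IsCharacter.classInner_irr_nat hres hirr
  refine ⟨n, ?_⟩
  rw [← hn]
  unfold k3mu classInner
  rw [k3m1_card]
  push_cast
  congr 1
  have hfilt : ∀ x : Gm F (m + 1),
      x ∈ Finset.univ.filter (fun g : Gm F (m + 1) => g ∈ K3H F m) ↔ x ∈ k3m1_H F m := by
    intro x
    rw [Finset.mem_filter]
    simp only [Finset.mem_univ, true_and]
    exact Iff.rfl
  rw [Finset.sum_subtype _ hfilt]
  apply Finset.sum_congr rfl
  intro g _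
  rw [k3m1_phi_apply]
  rfl

end Cfsg.Agent.Lib.Helper76.Sl
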