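/-
[T11] of helper34's Tate project: if all `F`-automorphisms of `S` are inner and the Frattini subgroup
is strongly closed, the focal subgroup lies in the Frattini subgroup.
-/
import Cfsg.Agent.Lib.Helper34.TateDefs
import Cfsg.Agent.Lib.Helper54.FusQuot
import Cfsg.Agent.Lib.Helper24.Omega1
import Cfsg.Agent.Lib.Helper87.ConstrainedNormal
import Cfsg.Agent.S5089

set_option autoImplicit false

namespace Cfsg.Agent.Lib.Helper34.Tate

open Cfsg Cfsg.FusionSystem
open Cfsg.Agent.Lib.Helper87 (hom_le hom_mem_S)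
open Cfsg.Agent.Lib.Helper88 (mem_preimageAlong preimageAlong_le preimageAlong_mem)
open Cfsg.Agent.Lib.Helper54.FusFoc Cfsg.Agent.Lib.Helper54.FusQuot

variable {Ω : Type*} [Group Ω] {S : Subgroup Ω}

/-- In a saturated system over an abelian group whose automorphisms of the whole group are trivial,
every map is an inclusion. -/
theorem T11_hom_trivial {Ω' : Type*} [Group Ω'] {S' : Subgroup Ω'} [Finite S'] {p : ℕ}
    [Fact p.Prime] (hS' : IsPGroup p S') (E : FusionSystem S') (hE : E.IsSaturated p)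
    (hab : IsMulCommutative S')
    (htriv : ∀ α : S' →* Ω', α ∈ E.Hom S' → ∀ x : S', α x = x) :
    ∀ (P : Subgroup Ω') (φ : P →* Ω'), φ ∈ E.Hom P → ∀ x : P, φ x = x := by
  have hsc : E.StronglyClosed S' :=
    ⟨le_rfl, fun R _ φ hφ x => hom_mem_S E hφ x⟩
  have hnor : E.IsNormal S' :=
    Cfsg.Agent.S5089.isNormal_of_abelian_stronglyClosed p hS' E hE hab hsc
  have key : ∀ (X : Subgroup Ω') (_ : X = S') (ψ : X →* Ω'), ψ ∈ E.Hom X → ∀ x : X,
      ψ x = x := by
    intro X hX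
    subst hX
    exact htriv
  intro P φ hφ x
  obtain ⟨ψ, hψ, hext, -⟩ := hnor.2 P φ hφ
  have hP : P ≤ S' := hom_le E hφ
  have h1 := key (P ⊔ S') (sup_eq_right.mpr hP) ψ hψ (Subgroup.inclusion le_sup_left x)
  rw [hext x] at h1
  exact h1

theorem focal_le_frattini [Finite S] {p : ℕ} [Fact p.Prime] (hS : IsPGroup p S)
    (F : FusionSystem S) (hF : F.IsSaturated p)
    (hN : ∀ α : S →* Ω, α ∈ F.Hom S → ∃ s ∈ S, ∀ x : S, α x = s * x * s⁻¹)
    (hΦ : F.StronglyClosed ((frattini ↥S).map S.subtype)) :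
    F.focalSubgroup ≤ (frattini ↥S).map S.subtype := by
  set T : Subgroup Ω := (frattini ↥S).map S.subtype with hT
  have hTS : T ≤ S := hΦ.1
  have hnorm : S ≤ Subgroup.normalizer (T : Set Ω) :=
    Cfsg.Agent.Lib.Helper87.stronglyClosed_le_normalizer F hΦ
  haveI : (T.subgroupOf S).Normal :=
    (Subgroup.normal_subgroupOf_iff_le_normalizer hTS).mpr hnorm
  have hTsub : T.subgroupOf S = frattini ↥S := by
    ext s
    rw [Subgroup.mem_subgroupOf, hT, Subgroup.mem_map]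
    constructor
    · rintro ⟨y, hy, hys⟩
      have : y = s := Subtype.ext hys
      rwa [← this]
    · intro hs
      exact ⟨s, hs, rfl⟩
  obtain ⟨E, hE⟩ := Cfsg.Agent.S5132.result p hS F T hΦ
  have hsurj := Cfsg.Agent.S5134.result p hS F hF T hΦ _ E hE
  have hEsat := Cfsg.Agent.S5133.result p hS F hF E _ hsurj
  obtain ⟨-, hker, hrange, -⟩ := hE
  haveI : Finite (↥S ⧸ T.subgroupOf S) := inferInstance
  haveI : Finite (⊤ : Subgroup (↥S ⧸ T.subgroupOf S)) := inferInstance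
  have hS' : IsPGroup p (⊤ : Subgroup (↥S ⧸ T.subgroupOf S)) :=
    (hS.to_quotient _).to_subgroup ⊤
  -- the quotient is abelian
  have hcomm : ∀ a b : ↥S ⧸ T.subgroupOf S, a * b = b * a := by
    have h1 : commutator ↥S ≤ T.subgroupOf S := by
      rw [hTsub]
      exact Cfsg.Agent.Lib.Helper24.commutator_le_frattini_of_isPGroup hS
    have h2 := (Subgroup.Normal.quotient_commutative_iff_commutator_le
      (N := T.subgroupOf S)).mpr h1
    exact fun a b => h2.is_comm.comm a b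
  have hab : IsMulCommutative (⊤ : Subgroup (↥S ⧸ T.subgroupOf S)) :=
    ⟨⟨fun a b => Subtype.ext (hcomm a b)⟩⟩
  -- automorphisms of the whole quotient are trivial
  have htriv : ∀ α : (⊤ : Subgroup (↥S ⧸ T.subgroupOf S)) →* (↥S ⧸ T.subgroupOf S),
      α ∈ E.Hom ⊤ → ∀ x : (⊤ : Subgroup (↥S ⧸ T.subgroupOf S)), α x = x := by
    intro α hα x
    obtain ⟨φ, hφ, hP, hφS, hP', hind⟩ := hsurj.2.2 ⊤ le_rfl α hα
    have hpre : preimageAlong (QuotientGroup.mk' (T.subgroupOf S))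
        (⊤ : Subgroup (↥S ⧸ T.subgroupOf S)) = S := by
      apply le_antisymm (preimageAlong_le _ _)
      intro s hs
      exact mem_preimageAlong.mpr ⟨hs, Subgroup.mem_top _⟩
    have key : ∀ (X : Subgroup Ω) (_ : X = S) (φ : X →* Ω), φ ∈ F.Hom X →
        ∃ s ∈ S, ∀ x : X, φ x = s * x * s⁻¹ := by
      intro X hX
      subst hX
      exact hN
    obtain ⟨s, hs, hsx⟩ := key _ hpre φ hφ
    obtain ⟨y, hyx⟩ := QuotientGroup.mk'_surjective (T.subgroupOf S) (x : ↥S ⧸ T.subgroupOf S)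
    have hy : (y : Ω) ∈ preimageAlong (QuotientGroup.mk' (T.subgroupOf S))
        (⊤ : Subgroup (↥S ⧸ T.subgroupOf S)) := by
      rw [hpre]; exact y.2
    have h1 := hind ⟨y, hy⟩
    have e1 : (⟨(QuotientGroup.mk' (T.subgroupOf S)) ⟨((⟨y, hy⟩ : preimageAlong
        (QuotientGroup.mk' (T.subgroupOf S)) ⊤) : Ω), hP hy⟩, hP' ⟨y, hy⟩⟩ :
        (⊤ : Subgroup (↥S ⧸ T.subgroupOf S))) = x := Subtype.ext hyx
    rw [e1] at h1
    rw [h1]
    have e2 : (⟨φ ⟨y, hy⟩, hφS ⟨y, hy⟩⟩ : S) = ⟨s, hs⟩ * y * ⟨s, hs⟩⁻¹ :=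
      Subtype.ext (hsx ⟨y, hy⟩)
    rw [e2, map_mul, map_mul, map_inv, hcomm, inv_mul_cancel_left]
    exact hyx
  have hall := T11_hom_trivial hS' E hEsat hab htriv
  -- the focal subgroup of the quotient system is trivial
  have hfocE : E.focalSubgroup = ⊥ := by
    rw [eq_bot_iff]
    unfold focalSubgroup
    rw [Subgroup.closure_le]
    rintro y ⟨P, φ, x, hφ, rfl⟩
    rw [hall P φ hφ x]
    simp
  intro x hx
  have hxS : x ∈ S := focal_le_S F hx
  have h1 := focal_map F E _ hsurj.1 x hx hxS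
  rw [hfocE, Subgroup.mem_bot] at h1
  exact (hker ⟨x, hxS⟩).mp h1

end Cfsg.Agent.Lib.Helper34.Tate
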