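/-
Trace (norm) map for a group `N` acting on a commutative group `M` by automorphisms, relative to a
subgroup `S` of finite index: `tr S a = ∏_{q ∈ N/S} q.out • a`.  For `a` fixed by `S` the value is
fixed by `N`; on `N`-fixed elements it is the `|N : S|`-th power map.
-/
import Mathlib

set_option autoImplicit false

namespace Cfsg.Agent.Lib.Helper54.TraceMap

variable {N M : Type*} [Group N] [CommGroup M] [MulDistribMulAction N M]

/-- The trace map. -/
noncomputable def tr (S : Subgroup N) [Fintype (N ⧸ S)] (a : M) : M :=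
  ∏ q : N ⧸ S, (Quotient.out q : N) • a

theorem tr_mul (S : Subgroup N) [Fintype (N ⧸ S)] (a b : M) : tr S (a * b) = tr S a * tr S b := by
  unfold tr
  rw [← Finset.prod_mul_distrib]
  refine Finset.prod_congr rfl ?_
  intro q _
  exact smul_mul' _ a b

theorem tr_one (S : Subgroup N) [Fintype (N ⧸ S)] : tr S (1 : M) = 1 := by
  unfold tr
  simp

/-- The trace map as a homomorphism. -/
noncomputable def trHom (S : Subgroup N) [Fintype (N ⧸ S)] : M →* M where
  toFun := tr S
  map_one' := tr_one S
  map_mul' := tr_mul S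

@[simp] theorem trHom_apply (S : Subgroup N) [Fintype (N ⧸ S)] (a : M) : trHom S a = tr S a := rfl

theorem smul_tr (S : Subgroup N) [Fintype (N ⧸ S)] (a : M) (ha : ∀ s ∈ S, s • a = a) (n : N) :
    n • tr S a = tr S a := by
  unfold tr
  rw [Finset.smul_prod']
  have key : ∀ q : N ⧸ S, n • ((Quotient.out q : N) • a) = (Quotient.out (n • q) : N) • a := by
    intro q
    have h1 : n • q = ((n * Quotient.out q : N) : N ⧸ S) := by
      conv_lhs => rw [← QuotientGroup.out_eq' q]
      rfl
    obtain ⟨h, hh⟩ := QuotientGroup.mk_out_eq_mul S (n * Quotient.out q)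
    rw [h1, hh, mul_smul, mul_smul, ha _ h.2]
  rw [Finset.prod_congr rfl (fun q _ => key q)]
  exact Fintype.prod_equiv (MulAction.toPerm (α := N) (β := N ⧸ S) n) _ _ (fun q => rfl)

theorem tr_of_fixed (S : Subgroup N) [Fintype (N ⧸ S)] (a : M) (ha : ∀ n : N, n • a = a) :
    tr S a = a ^ S.index := by
  unfold tr
  rw [Finset.prod_congr rfl (fun q _ => ha _), Finset.prod_const, Finset.card_univ,
    Subgroup.index_eq_card, Nat.card_eq_fintype_card]

end Cfsg.Agent.Lib.Helper54.TraceMap
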