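/-
Splitting of the centre of a Sylow subgroup over the weakly closed elements, given a subgroup `N ≥ S`
normalizing an abelian subgroup `Y` with `Z(S) ≤ Y ≤ S` such that the elements of `Z(S) ∩ C_G(N)` are
weakly closed in `S`: trace-map argument.
-/
import Cfsg.Agent.Lib.Helper54.TraceMap

set_option autoImplicit false

namespace Cfsg.Agent.Lib.Helper54.WCSplit

open Cfsg.Agent.Lib.Helper54.TraceMap

variable {G : Type*} [Group G]

/-- The conjugation action of a subgroup `N` on a subgroup `Y` it normalizes. -/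
@[reducible] def conjMDMA (N Y : Subgroup G) (hNY : N ≤ Subgroup.normalizer (Y : Set G)) :
    MulDistribMulAction ↥N ↥Y where
  smul n y := ⟨(n : G) * y * (n : G)⁻¹, (Subgroup.mem_normalizer_iff.mp (hNY n.2) y).mp y.2⟩
  one_smul y := Subtype.ext (by show ((1 : ↥N) : G) * y * ((1 : ↥N) : G)⁻¹ = y; simp)
  mul_smul a b y := Subtype.ext (by
    show ((a * b : ↥N) : G) * y * ((a * b : ↥N) : G)⁻¹ = (a : G) * ((b : G) * y * (b : G)⁻¹) * (a : G)⁻¹
    simp [mul_assoc])
  smul_mul n y z := Subtype.ext (by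
    show (n : G) * ((y * z : ↥Y) : G) * (n : G)⁻¹ = ((n : G) * y * (n : G)⁻¹) * ((n : G) * z * (n : G)⁻¹)
    simp [mul_assoc])
  smul_one n := Subtype.ext (by show (n : G) * ((1 : ↥Y) : G) * (n : G)⁻¹ = 1; simp)

theorem split [Finite G] {p : ℕ} [Fact p.Prime] (S : Sylow p G)
    (N Y : Subgroup G) (hSN : (S : Subgroup G) ≤ N) (hNY : N ≤ Subgroup.normalizer (Y : Set G))
    (hYc : ∀ x ∈ Y, ∀ y ∈ Y, x * y = y * x) (hYS : Y ≤ (S : Subgroup G))
    (hZY : (S : Subgroup G) ⊓ Subgroup.centralizer ((S : Subgroup G) : Set G) ≤ Y)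
    (hwc : ∀ x ∈ (S : Subgroup G) ⊓ Subgroup.centralizer ((S : Subgroup G) : Set G) ⊓
        Subgroup.centralizer (N : Set G),
      ∀ g : G, g * x * g⁻¹ ∈ (S : Subgroup G) → g * x * g⁻¹ = x) :
    ∃ W K : Subgroup G, (∀ x : G, x ∈ W ↔ (x ∈ (S : Subgroup G) ∧
        ∀ g : G, g * x * g⁻¹ ∈ (S : Subgroup G) → g * x * g⁻¹ = x)) ∧
      K ≤ ((S : Subgroup G) ⊓ Subgroup.centralizer ((S : Subgroup G) : Set G)) ∧ W ⊓ K = ⊥ ∧
      W ⊔ K = ((S : Subgroup G) ⊓ Subgroup.centralizer ((S : Subgroup G) : Set G)) := by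
  classical
  set A : Subgroup G := (S : Subgroup G) ⊓ Subgroup.centralizer ((S : Subgroup G) : Set G) with hA
  letI iC : CommGroup ↥Y :=
    { (inferInstance : Group ↥Y) with mul_comm := fun a b => Subtype.ext (hYc a a.2 b b.2) }
  letI iA : MulDistribMulAction ↥N ↥Y := conjMDMA N Y hNY
  have hsmul : ∀ (n : ↥N) (y : ↥Y), ((n • y : ↥Y) : G) = (n : G) * y * (n : G)⁻¹ := fun _ _ => rfl
  let S' : Subgroup ↥N := (S : Subgroup G).subgroupOf N
  letI iF : Fintype (↥N ⧸ S') := Fintype.ofFinite _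
  -- the index of `S'` is prime to `p`
  have hidx : (S'.index).Coprime p := by
    have h1 : S'.index = (S : Subgroup G).relIndex N := rfl
    rw [h1]
    have h2 : ¬ p ∣ (S : Subgroup G).relIndex N := by
      intro hd
      exact S.not_dvd_index (dvd_trans hd (Subgroup.relIndex_dvd_index_of_le hSN))
    exact ((Nat.Prime.coprime_iff_not_dvd Fact.out).mpr h2).symm
  -- the trace homomorphism on `A`
  let T : ↥A →* ↥Y := (trHom S').comp (Subgroup.inclusion hZY)
  have hTval : ∀ a : ↥A, T a = tr S' (⟨(a : G), hZY a.2⟩ : ↥Y) := fun _ => rfl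
  -- elements of `A` are fixed by `S'`
  have hfixS : ∀ a : ↥A, ∀ s ∈ S', s • (⟨(a : G), hZY a.2⟩ : ↥Y) = ⟨(a : G), hZY a.2⟩ := by
    intro a s hs
    apply Subtype.ext
    rw [hsmul]
    have hsS : (s : G) ∈ (S : Subgroup G) := Subgroup.mem_subgroupOf.mp hs
    have hc := Subgroup.mem_centralizer_iff.mp a.2.2 (s : G) hsS
    show (s : G) * (a : G) * (s : G)⁻¹ = (a : G)
    rw [hc, mul_inv_cancel_right]
  -- the trace lands in `A ⊓ C(N)`
  have hTN : ∀ a : ↥A, ∀ n : ↥N, n • T a = T a := fun a n => by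
    rw [hTval]; exact smul_tr S' _ (hfixS a) n
  have hTcent : ∀ a : ↥A, ((T a : ↥Y) : G) ∈ Subgroup.centralizer (N : Set G) := by
    intro a
    refine Subgroup.mem_centralizer_iff.mpr ?_
    intro n hn
    have h := congrArg (fun y : ↥Y => (y : G)) (hTN a ⟨n, hn⟩)
    simp only [hsmul] at h
    have h' : n * ((T a : ↥Y) : G) * n⁻¹ = ((T a : ↥Y) : G) := h
    calc n * ((T a : ↥Y) : G) = n * ((T a : ↥Y) : G) * n⁻¹ * n := by group
      _ = ((T a : ↥Y) : G) * n := by rw [h']
  have hTW : ∀ a : ↥A, ((T a : ↥Y) : G) ∈ A ⊓ Subgroup.centralizer (N : Set G) := by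
    intro a
    refine ⟨⟨hYS (T a).2, ?_⟩, hTcent a⟩
    exact Subgroup.centralizer_le hSN (hTcent a)
  -- on `N`-central elements the trace is the index-th power
  have hTpow : ∀ a : ↥A, (a : G) ∈ Subgroup.centralizer (N : Set G) →
      ((T a : ↥Y) : G) = (a : G) ^ S'.index := by
    intro a ha
    rw [hTval, tr_of_fixed S' _ ?_]
    · rfl
    · intro n
      apply Subtype.ext
      rw [hsmul]
      have hc := Subgroup.mem_centralizer_iff.mp ha (n : G) n.2
      show (n : G) * (a : G) * (n : G)⁻¹ = (a : G)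
      rw [hc, mul_inv_cancel_right]
  refine ⟨A ⊓ Subgroup.centralizer (N : Set G), T.ker.map A.subtype, ?_, ?_, ?_, ?_⟩
  · -- characterisation of `W`
    intro x
    constructor
    · intro hx
      exact ⟨hx.1.1, hwc x hx⟩
    · rintro ⟨hxS, hxw⟩
      have hxC : x ∈ Subgroup.centralizer ((S : Subgroup G) : Set G) := by
        refine Subgroup.mem_centralizer_iff.mpr ?_
        intro s hs
        have h1 : s * x * s⁻¹ ∈ (S : Subgroup G) :=
          (S : Subgroup G).mul_mem ((S : Subgroup G).mul_mem hs hxS) ((S : Subgroup G).inv_mem hs)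
        have h2 := hxw s h1
        calc s * x = s * x * s⁻¹ * s := by group
          _ = x * s := by rw [h2]
      have hxA : x ∈ A := ⟨hxS, hxC⟩
      refine ⟨hxA, ?_⟩
      refine Subgroup.mem_centralizer_iff.mpr ?_
      intro n hn
      have h1 : n * x * n⁻¹ ∈ Y := (Subgroup.mem_normalizer_iff.mp (hNY hn) x).mp (hZY hxA)
      have h2 := hxw n (hYS h1)
      calc n * x = n * x * n⁻¹ * n := by group
        _ = x * n := by rw [h2]
  · exact Subgroup.map_subtype_le _
  · -- `W ⊓ K = ⊥`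
    rw [eq_bot_iff]
    rintro x ⟨hxW, hxK⟩
    obtain ⟨a, ha, rfl⟩ := hxK
    have h1 : T a = 1 := ha
    have h2 := hTpow a hxW.2
    rw [h1] at h2
    have h3 : (A.subtype a : G) ^ S'.index = 1 := h2.symm
    -- `a` is a `p`-element
    obtain ⟨k, hk⟩ := S.isPGroup' (⟨(a : G), a.2.1⟩ : ↥(S : Subgroup G))
    have hk' : (A.subtype a : G) ^ p ^ k = 1 := by
      have := congrArg (fun y : ↥(S : Subgroup G) => (y : G)) hk
      simpa using this
    have hcop : (S'.index).Coprime (p ^ k) := hidx.pow_right k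
    have : (A.subtype a : G) ^ (Nat.gcd S'.index (p ^ k)) = 1 :=
      pow_gcd_eq_one.mpr ⟨h3, hk'⟩
    rw [hcop.gcd_eq_one, pow_one] at this
    exact Subgroup.mem_bot.mpr this
  · -- `W ⊔ K = A`
    apply le_antisymm
    · exact sup_le inf_le_left (Subgroup.map_subtype_le _)
    · intro a ha
      set t : ↥Y := T ⟨a, ha⟩ with ht
      have htW := hTW ⟨a, ha⟩
      -- `t` is a `p`-element
      obtain ⟨k, hk⟩ := S.isPGroup' (⟨(t : G), hYS t.2⟩ : ↥(S : Subgroup G))
      have hk' : (t : G) ^ p ^ k = 1 := by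
        have := congrArg (fun y : ↥(S : Subgroup G) => (y : G)) hk
        simpa using this
      have hcop : (S'.index).Coprime (p ^ k) := hidx.pow_right k
      -- choose `r` with `index * r ≡ 1`
      obtain ⟨r, hr⟩ : ∃ r : ℕ, ((t : G) ^ r) ^ S'.index = (t : G) := by
        have hord : orderOf (t : G) ∣ p ^ k := orderOf_dvd_of_pow_eq_one hk'
        have hcop' : (S'.index).Coprime (orderOf (t : G)) := Nat.Coprime.coprime_dvd_right hord hcop
        obtain ⟨r, hr⟩ := exists_pow_eq_self_of_coprime hcop'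
        refine ⟨r, ?_⟩
        rw [← pow_mul, mul_comm, pow_mul]
        exact hr
      -- `w₁ = t ^ r ∈ W`
      have hw1 : (t : G) ^ r ∈ A ⊓ Subgroup.centralizer (N : Set G) := Subgroup.pow_mem _ htW r
      have hTw1 : ((T ⟨(t : G) ^ r, hw1.1⟩ : ↥Y) : G) = (t : G) := by
        rw [hTpow ⟨(t : G) ^ r, hw1.1⟩ hw1.2]
        exact hr
      have hker : (⟨a, ha⟩ : ↥A) * (⟨(t : G) ^ r, hw1.1⟩ : ↥A)⁻¹ ∈ T.ker := by
        rw [MonoidHom.mem_ker, map_mul, map_inv]
        have : T ⟨(t : G) ^ r, hw1.1⟩ = t := Subtype.ext hTw1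
        rw [this, ← ht, mul_inv_cancel]
      have hdec : a = (a * ((t : G) ^ r)⁻¹) * ((t : G) ^ r) := by group
      rw [hdec]
      refine Subgroup.mul_mem _ (Subgroup.mem_sup_right ?_) (Subgroup.mem_sup_left hw1)
      exact ⟨_, hker, rfl⟩
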