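import Mathlib
import Cfsg.Agent.Lib.Helper54.RelZJ2
import Cfsg.Agent.Lib.Helper54.QBalance

set_option autoImplicit false
set_option linter.style.haveILetI false

/-!
# The `Z(J)`-chain of a `p`-group: `Z₀ = 1`, `P₀ = T`, `Z_{i+1}/Z_i = Z(J(P_i/Z_i))`,
`P_{i+1} = C_{P_i}(Z_{i+1}/Z_i)`.
-/

namespace Cfsg.Agent.Lib.Helper54

open Cfsg.Agent.Lib.Helper11

section stab

variable {G : Type*} [Group G]

/-- elements normalizing `A` and `B` and acting trivially on `A` modulo `B`. -/
def stabC (A B : Subgroup G) : Subgroup G where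
  carrier := {g | g ∈ Subgroup.normalizer (A : Set G) ∧ g ∈ Subgroup.normalizer (B : Set G) ∧
    ∀ a ∈ A, g * a * g⁻¹ * a⁻¹ ∈ B}
  one_mem' := ⟨one_mem _, one_mem _, fun a _ => by simp⟩
  mul_mem' := by
    rintro g h ⟨hgA, hgB, hg⟩ ⟨hhA, hhB, hh⟩
    refine ⟨mul_mem hgA hhA, mul_mem hgB hhB, ?_⟩
    intro a ha
    have h1 : g * h * a * (g * h)⁻¹ * a⁻¹ = g * (h * a * h⁻¹ * a⁻¹) * g⁻¹ * (g * a * g⁻¹ * a⁻¹) := by
      group
    rw [h1]
    exact B.mul_mem ((Subgroup.mem_normalizer_iff.mp hgB _).mp (hh a ha)) (hg a ha)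
  inv_mem' := by
    rintro g ⟨hgA, hgB, hg⟩
    refine ⟨inv_mem hgA, inv_mem hgB, ?_⟩
    intro a ha
    have ha' : g⁻¹ * a * g ∈ A := by
      have := (Subgroup.mem_normalizer_iff.mp (inv_mem hgA) a).mp ha
      rwa [inv_inv] at this
    have h1 := hg _ ha'
    have h2 : g⁻¹ * a * g⁻¹⁻¹ * a⁻¹ = (g * (g⁻¹ * a * g) * g⁻¹ * (g⁻¹ * a * g)⁻¹)⁻¹ := by
      group
    rw [h2]
    exact B.inv_mem h1

theorem mem_stabC {A B : Subgroup G} {g : G} : g ∈ stabC A B ↔
    g ∈ Subgroup.normalizer (A : Set G) ∧ g ∈ Subgroup.normalizer (B : Set G) ∧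
      ∀ a ∈ A, g * a * g⁻¹ * a⁻¹ ∈ B := Iff.rfl

theorem stabC_le_normalizer_left (A B : Subgroup G) :
    stabC A B ≤ Subgroup.normalizer (A : Set G) := fun _ hg => hg.1

theorem stabC_le_normalizer_right (A B : Subgroup G) :
    stabC A B ≤ Subgroup.normalizer (B : Set G) := fun _ hg => hg.2.1

theorem mem_stabC_of_mem_centralizer {A B : Subgroup G} {g : G}
    (hA : g ∈ Subgroup.centralizer (A : Set G)) (hB : g ∈ Subgroup.centralizer (B : Set G)) :
    g ∈ stabC A B := by
  refine ⟨Subgroup.centralizer_le_normalizer _ hA, Subgroup.centralizer_le_normalizer _ hB, ?_⟩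
  intro a ha
  have := Subgroup.mem_centralizer_iff.mp hA a ha
  have h1 : g * a * g⁻¹ * a⁻¹ = 1 := by
    rw [← this]; group
  rw [h1]; exact B.one_mem

theorem mem_normalizer_map_iff {H : Type*} [Group H] (f : G →* H) (hf : Function.Injective f)
    (A : Subgroup G) (g : G) :
    f g ∈ Subgroup.normalizer ((A.map f : Subgroup H) : Set H) ↔
      g ∈ Subgroup.normalizer (A : Set G) := by
  constructor
  · intro h
    rw [Subgroup.mem_normalizer_iff] at h ⊢
    intro x
    have h1 := h (f x)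
    rw [Subgroup.mem_map_iff_mem hf] at h1
    rw [h1]
    have : f g * f x * (f g)⁻¹ = f (g * x * g⁻¹) := by simp
    rw [this, Subgroup.mem_map_iff_mem hf]
  · intro h
    exact Subgroup.le_normalizer_map f ⟨g, h, rfl⟩

theorem map_mem_stabC_iff {H : Type*} [Group H] (f : G →* H) (hf : Function.Injective f)
    (A B : Subgroup G) (g : G) : f g ∈ stabC (A.map f) (B.map f) ↔ g ∈ stabC A B := by
  rw [mem_stabC, mem_stabC, mem_normalizer_map_iff f hf, mem_normalizer_map_iff f hf]
  constructor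
  · rintro ⟨h1, h2, h3⟩
    refine ⟨h1, h2, fun a ha => ?_⟩
    have := h3 (f a) (Subgroup.mem_map_of_mem f ha)
    have h4 : f g * f a * (f g)⁻¹ * (f a)⁻¹ = f (g * a * g⁻¹ * a⁻¹) := by simp
    rwa [h4, Subgroup.mem_map_iff_mem hf] at this
  · rintro ⟨h1, h2, h3⟩
    refine ⟨h1, h2, ?_⟩
    rintro _ ⟨a, ha, rfl⟩
    have h4 : f g * f a * (f g)⁻¹ * (f a)⁻¹ = f (g * a * g⁻¹ * a⁻¹) := by simp
    rw [h4]
    exact Subgroup.mem_map_of_mem f (h3 a ha)

theorem map_inf_stabC {H : Type*} [Group H] (f : G →* H) (hf : Function.Injective f)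
    (P A B : Subgroup G) :
    (P ⊓ stabC A B).map f = P.map f ⊓ stabC (A.map f) (B.map f) := by
  ext w
  constructor
  · rintro ⟨g, hg, rfl⟩
    obtain ⟨hgP, hgS⟩ := Subgroup.mem_inf.mp hg
    exact Subgroup.mem_inf.mpr ⟨Subgroup.mem_map_of_mem f hgP,
      (map_mem_stabC_iff f hf A B g).mpr hgS⟩
  · intro hw
    obtain ⟨hwP, hwS⟩ := Subgroup.mem_inf.mp hw
    obtain ⟨g, hgP, rfl⟩ := hwP
    exact ⟨g, Subgroup.mem_inf.mpr ⟨hgP, (map_mem_stabC_iff f hf A B g).mp hwS⟩, rfl⟩

theorem map_equiv_stabC (φ : G ≃* G) (A B : Subgroup G) :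
    (stabC A B).map φ.toMonoidHom = stabC (A.map φ.toMonoidHom) (B.map φ.toMonoidHom) := by
  have h := map_inf_stabC φ.toMonoidHom φ.injective ⊤ A B
  rw [top_inf_eq, Subgroup.map_top_of_surjective _ φ.surjective, top_inf_eq] at h
  exact h

/-- Elements normalizing `A` and `B` normalize `stabC A B`. -/
theorem normalizer_inf_le_normalizer_stabC (A B : Subgroup G) :
    Subgroup.normalizer (A : Set G) ⊓ Subgroup.normalizer (B : Set G) ≤
      Subgroup.normalizer (stabC A B : Set G) := by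
  intro g hg
  obtain ⟨hgA, hgB⟩ := Subgroup.mem_inf.mp hg
  apply mem_normalizer_of_map_conj_eq'
  rw [map_equiv_stabC, map_conj_eq_of_mem_normalizer' hgA, map_conj_eq_of_mem_normalizer' hgB]

end stab

section chain

variable {G : Type*} [Group G]

/-- the `Z(J)`-chain -/
def zjChain (T : Subgroup G) : ℕ → Subgroup G × Subgroup G
  | 0 => (⊥, T)
  | (i + 1) => (relZJ (zjChain T i).2 (zjChain T i).1,
      (zjChain T i).2 ⊓ stabC (relZJ (zjChain T i).2 (zjChain T i).1) (zjChain T i).1)

/-- the `Z`-terms -/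
def chZ (T : Subgroup G) (i : ℕ) : Subgroup G := (zjChain T i).1

/-- the `P`-terms -/
def chP (T : Subgroup G) (i : ℕ) : Subgroup G := (zjChain T i).2

@[simp] theorem chZ_zero (T : Subgroup G) : chZ T 0 = ⊥ := rfl

@[simp] theorem chP_zero (T : Subgroup G) : chP T 0 = T := rfl

theorem chZ_succ (T : Subgroup G) (i : ℕ) : chZ T (i + 1) = relZJ (chP T i) (chZ T i) := rfl

theorem chP_succ (T : Subgroup G) (i : ℕ) :
    chP T (i + 1) = chP T i ⊓ stabC (chZ T (i + 1)) (chZ T i) := rfl

theorem chain_basic [Finite G] (T : Subgroup G) (i : ℕ) :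
    chZ T i ≤ chP T i ∧ chP T i ≤ Subgroup.normalizer (chZ T i : Set G) := by
  induction i with
  | zero =>
    refine ⟨by simp, ?_⟩
    intro g _
    rw [chZ_zero, Subgroup.mem_normalizer_iff]
    intro h
    simp [Subgroup.mem_bot]
  | succ i ih =>
    obtain ⟨h1, h2⟩ := ih
    have h3 : chZ T (i + 1) ≤ chP T i := by rw [chZ_succ]; exact relZJ_le h1
    have h4 : ⁅chZ T (i + 1), chZ T (i + 1)⁆ ≤ chZ T i := by
      rw [chZ_succ]; exact commutator_relZJ_le h1
    have h5 : chP T i ≤ Subgroup.normalizer (chZ T (i + 1) : Set G) := by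
      rw [chZ_succ]
      refine le_trans ?_ (normalizer_inf_le_normalizer_relZJ h1)
      exact le_inf Subgroup.le_normalizer h2
    refine ⟨?_, ?_⟩
    · rw [chP_succ]
      refine le_inf h3 ?_
      intro z hz
      refine ⟨h5 (h3 hz), h2 (h3 hz), ?_⟩
      intro a ha
      have := Subgroup.commutator_mem_commutator hz ha
      rw [commutatorElement_def] at this
      exact h4 this
    · rw [chP_succ]
      exact inf_le_right.trans (stabC_le_normalizer_left _ _)

theorem chZ_le_chP [Finite G] (T : Subgroup G) (i : ℕ) : chZ T i ≤ chP T i := (chain_basic T i).1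

theorem chP_le_normalizer_chZ [Finite G] (T : Subgroup G) (i : ℕ) :
    chP T i ≤ Subgroup.normalizer (chZ T i : Set G) := (chain_basic T i).2

theorem chP_succ_le (T : Subgroup G) (i : ℕ) : chP T (i + 1) ≤ chP T i := by
  rw [chP_succ]; exact inf_le_left

theorem chP_le (T : Subgroup G) (i : ℕ) : chP T i ≤ T := by
  induction i with
  | zero => simp
  | succ i ih => exact (chP_succ_le T i).trans ih

theorem chZ_le_succ (T : Subgroup G) (i : ℕ) : chZ T i ≤ chZ T (i + 1) := by
  rw [chZ_succ]; exact le_relZJ _ _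

theorem chZ_mono (T : Subgroup G) : Monotone (chZ T) := monotone_nat_of_le_succ (chZ_le_succ T)

theorem chP_normalizes_chZ_succ [Finite G] (T : Subgroup G) (i : ℕ) :
    chP T i ≤ Subgroup.normalizer (chZ T (i + 1) : Set G) := by
  rw [chZ_succ]
  refine le_trans ?_ (normalizer_inf_le_normalizer_relZJ (chZ_le_chP T i))
  exact le_inf Subgroup.le_normalizer (chP_le_normalizer_chZ T i)

theorem commutator_chZ_succ_le [Finite G] (T : Subgroup G) (i : ℕ) :
    ⁅chZ T (i + 1), chZ T (i + 1)⁆ ≤ chZ T i := by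
  rw [chZ_succ]; exact commutator_relZJ_le (chZ_le_chP T i)

/-- the chain commutes with injective homomorphisms -/
theorem chain_map [Finite G] {H : Type*} [Group H] (f : G →* H) (hf : Function.Injective f)
    (T : Subgroup G) (i : ℕ) :
    chZ (T.map f) i = (chZ T i).map f ∧ chP (T.map f) i = (chP T i).map f := by
  induction i with
  | zero => simp [Subgroup.map_bot]
  | succ i ih =>
    obtain ⟨h1, h2⟩ := ih
    have h3 : chZ (T.map f) (i + 1) = (chZ T (i + 1)).map f := by
      rw [chZ_succ, chZ_succ, h1, h2, relZJ_map f hf (chZ_le_chP T i)]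
    refine ⟨h3, ?_⟩
    rw [chP_succ, chP_succ, h3, h1, h2, map_inf_stabC f hf]

/-- elements normalizing the `i`-th terms normalize all later terms -/
theorem chain_normalizer [Finite G] (T : Subgroup G) (i : ℕ) {y : G}
    (hP : y ∈ Subgroup.normalizer (chP T i : Set G))
    (hZ : y ∈ Subgroup.normalizer (chZ T i : Set G)) (j : ℕ) (hij : i ≤ j) :
    y ∈ Subgroup.normalizer (chP T j : Set G) ∧ y ∈ Subgroup.normalizer (chZ T j : Set G) := by
  induction j, hij using Nat.le_induction with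
  | base => exact ⟨hP, hZ⟩
  | succ j _ ih =>
    obtain ⟨h1, h2⟩ := ih
    have h3 : y ∈ Subgroup.normalizer (chZ T (j + 1) : Set G) := by
      rw [chZ_succ]
      exact normalizer_inf_le_normalizer_relZJ (chZ_le_chP T j) (Subgroup.mem_inf.mpr ⟨h1, h2⟩)
    refine ⟨?_, h3⟩
    rw [chP_succ]
    apply normalizer_inf_normalizer_le_normalizer_inf
    refine Subgroup.mem_inf.mpr ⟨h1, ?_⟩
    exact normalizer_inf_le_normalizer_stabC _ _ (Subgroup.mem_inf.mpr ⟨h3, h2⟩)

theorem card_lt_of_lt'' [Finite G] {H K : Subgroup G} (h : H < K) : Nat.card H < Nat.card K := by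
  by_contra hc
  exact (ne_of_lt h) (Subgroup.eq_of_le_of_card_ge h.le (Nat.le_of_not_lt hc))

/-- the chain terminates -/
theorem chain_terminates [Finite G] {p : ℕ} [Fact p.Prime] (T : Subgroup G) (hT : IsPGroup p T) :
    chP T (Nat.card T) ≤ chZ T (Nat.card T) := by
  have key : ∀ i : ℕ, chP T i ≤ chZ T i ∨ i + 1 ≤ Nat.card (chZ T i) := by
    intro i
    induction i with
    | zero => right; simp
    | succ i ih =>
      by_cases hle : chP T i ≤ chZ T i
      · left
        exact ((chP_succ_le T i).trans hle).trans (chZ_le_succ T i)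
      · right
        have h1 : i + 1 ≤ Nat.card (chZ T i) := by
          rcases ih with h | h
          · exact absurd h hle
          · exact h
        have h2 : chZ T i ≠ chP T i := fun h => hle h.ge
        have h3 : chZ T (i + 1) ≠ chZ T i := by
          rw [chZ_succ]
          exact relZJ_ne (hT.to_le (chP_le T i)) (chZ_le_chP T i) (chP_le_normalizer_chZ T i) h2
        have h4 : chZ T i < chZ T (i + 1) := lt_of_le_of_ne (chZ_le_succ T i) h3.symm
        have := card_lt_of_lt'' h4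
        omega
  rcases key (Nat.card T) with h | h
  · exact h
  · exfalso
    have h1 : Nat.card (chZ T (Nat.card T)) ≤ Nat.card T :=
      Subgroup.card_le_of_le ((chZ_le_chP T _).trans (chP_le T _))
    omega

/-- the last term contains its centralizer in `T` -/
theorem centralizer_chP_inf_le [Finite G] (T : Subgroup G) (k : ℕ) :
    Subgroup.centralizer (chP T k : Set G) ⊓ T ≤ chP T k := by
  intro g hg
  obtain ⟨hgC, hgT⟩ := Subgroup.mem_inf.mp hg
  have hcZ : ∀ j ≤ k, g ∈ Subgroup.centralizer (chZ T j : Set G) := by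
    intro j hj
    exact Subgroup.centralizer_le (((chZ_mono T hj).trans (chZ_le_chP T k))) hgC
  have key : ∀ j ≤ k, g ∈ chP T j := by
    intro j
    induction j with
    | zero => intro _; simpa using hgT
    | succ j ih =>
      intro hj
      rw [chP_succ]
      refine Subgroup.mem_inf.mpr ⟨ih (by omega), ?_⟩
      exact mem_stabC_of_mem_centralizer (hcZ (j + 1) hj) (hcZ j (by omega))
  exact key k le_rfl

end chain

end Cfsg.Agent.Lib.Helper54
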