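import Mathlib
import Cfsg.Agent.Lib.Helper54.ZJChain
import Cfsg.Agent.Lib.Helper54.ZJChainTools
import Cfsg.Agent.S0659

set_option autoImplicit false
set_option linter.style.haveILetI false

/-!
# Thompson-type characteristic subgroup deciding normal `p`-complements
-/

namespace Cfsg.Agent.Lib.Helper54

open Cfsg Cfsg.Agent.Lib.Helper2 Cfsg.Agent.Lib.Helper19 Cfsg.Agent.Lib.Helper11

section rgt

variable {G : Type*} [Group G] {p : ℕ} [hp : Fact p.Prime]

/-- relative Glauberman–Thompson -/
theorem pn_of_pn_normalizer_relZJ [Finite G] (hp2 : p ≠ 2) {X Q Z : Subgroup G} (hZQ : Z ≤ Q)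
    (hQX : Q ≤ X) (hXZ : X ≤ Subgroup.normalizer (Z : Set G)) (hQp : IsPGroup p Q)
    (hQi : ¬ p ∣ Q.relIndex X)
    (hM : PN p (X ⊓ Subgroup.normalizer (relZJ Q Z : Set G)))
    (hc : ∀ g ∈ X, (orderOf g).Coprime p → g ∈ Subgroup.centralizer (Z : Set G)) : PN p X := by
  haveI hNn : (Z.subgroupOf X).Normal :=
    (Subgroup.normal_subgroupOf_iff_le_normalizer (hZQ.trans hQX)).mpr hXZ
  set N := Z.subgroupOf X with hN
  set Q' := Q.subgroupOf X with hQ'
  have hNQ' : N ≤ Q' := Subgroup.subgroupOf_mono X hZQ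
  have hQ'p : IsPGroup p Q' := hQp.comap_of_injective X.subtype X.subtype_injective
  have hsurj : Function.Surjective (QuotientGroup.mk' N) := QuotientGroup.mk'_surjective N
  have hQbp : IsPGroup p (Q'.map (QuotientGroup.mk' N)) := hQ'p.map _
  have hQbi : ¬ p ∣ (Q'.map (QuotientGroup.mk' N)).index := by
    intro hdvd
    apply hQi
    exact dvd_trans hdvd (Subgroup.index_map_dvd Q' hsurj)
  -- the relative ZJ inside `↥X`
  set W := relZJ Q Z with hW
  have hWQ : W ≤ Q := relZJ_le hZQ
  have hW' : relZJ Q' N = W.subgroupOf X := by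
    have h1 := relZJ_map X.subtype X.subtype_injective hNQ'
    rw [hQ', hN, Subgroup.map_subgroupOf_eq_of_le hQX,
      Subgroup.map_subgroupOf_eq_of_le (hZQ.trans hQX)] at h1
    rw [← hQ', ← hN] at h1
    rw [hW, h1]
    exact (Subgroup.comap_map_eq_self_of_injective X.subtype_injective _).symm
  -- `Z(J)` of the Sylow subgroup of the quotient
  have hZJ : centerThompsonAOf (Q'.map (QuotientGroup.mk' N)) =
      (W.subgroupOf X).map (QuotientGroup.mk' N) := by
    rw [Cfsg.Agent.S0653.centerThompsonAOf_eq_zQ, zQ_map_mk' N Q' hNQ', hW']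
  -- its normalizer
  have hker : (QuotientGroup.mk' N).ker ≤ W.subgroupOf X := by
    rw [QuotientGroup.ker_mk', hN]
    exact Subgroup.subgroupOf_mono X (le_relZJ Q Z)
  have hnorm : Subgroup.normalizer ((centerThompsonAOf (Q'.map (QuotientGroup.mk' N)) :
      Subgroup (X ⧸ N)) : Set (X ⧸ N)) =
      (Subgroup.normalizer ((W.subgroupOf X : Subgroup X) : Set X)).map (QuotientGroup.mk' N) := by
    rw [hZJ, normalizer_map_eq_of_ker_le _ hsurj _ hker]
  -- `N_X(W)` is `p`-nilpotent
  have hPN1 : PN p (Subgroup.normalizer ((W.subgroupOf X : Subgroup X) : Set X)) := by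
    apply PN.of_map_injective X.subtype X.subtype_injective
    rw [← Subgroup.subgroupOf_normalizer_eq (hWQ.trans hQX), Subgroup.subgroupOf_map_subtype,
      inf_comm]
    exact hM
  have hPN2 : PN p (Subgroup.normalizer ((centerThompsonAOf (Q'.map (QuotientGroup.mk' N)) :
      Subgroup (X ⧸ N)) : Set (X ⧸ N))) := by
    rw [hnorm]
    exact hPN1.map _
  -- Glauberman–Thompson in the quotient
  have hquot : HasNormalPComplement p (X ⧸ N) := by
    have := Cfsg.Agent.S0659.result hp2 (hQbp.toSylow hQbi)
    rw [IsPGroup.toSylow_coe] at this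
    exact this hPN2
  -- lifting
  have hNp : IsPGroup p N :=
    (hQp.to_le hZQ).comap_of_injective X.subtype X.subtype_injective
  apply hasNPC_of_quotient_pGroup N hNp _ hquot
  intro g hgo
  have hgo' : (orderOf (g : G)).Coprime p := by rw [Subgroup.orderOf_coe]; exact hgo
  have h1 := hc (g : G) g.2 hgo'
  rw [Subgroup.mem_centralizer_iff] at h1 ⊢
  intro n hn
  apply Subtype.ext
  exact h1 (n : G) (Subgroup.mem_subgroupOf.mp hn)

end rgt

section main

variable {G : Type*} [Group G] {p : ℕ} [hp : Fact p.Prime]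

/-- the stabilizers in `G` of the initial segments of the chain -/
def chG (T : Subgroup G) : ℕ → Subgroup G
  | 0 => ⊤
  | (i + 1) => chG T i ⊓ stabC (chZ T (i + 1)) (chZ T i)

@[simp] theorem chG_zero (T : Subgroup G) : chG T 0 = ⊤ := rfl

theorem chG_succ (T : Subgroup G) (i : ℕ) :
    chG T (i + 1) = chG T i ⊓ stabC (chZ T (i + 1)) (chZ T i) := rfl

theorem inf_chG (T : Subgroup G) (i : ℕ) : T ⊓ chG T i = chP T i := by
  induction i with
  | zero => simp
  | succ i ih => rw [chG_succ, ← inf_assoc, ih, chP_succ]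

theorem chP_le_chG (T : Subgroup G) (i : ℕ) : chP T i ≤ chG T i := by
  rw [← inf_chG]; exact inf_le_right

theorem chG_le_normalizer_chZ (T : Subgroup G) (i : ℕ) :
    chG T i ≤ Subgroup.normalizer (chZ T i : Set G) := by
  cases i with
  | zero =>
    intro g _
    rw [chZ_zero, Subgroup.mem_normalizer_iff]
    intro h
    simp [Subgroup.mem_bot]
  | succ i =>
    rw [chG_succ]
    exact inf_le_right.trans (stabC_le_normalizer_left _ _)

/-- the group `M_i` -/
theorem chG_succ_le (T : Subgroup G) (i : ℕ) :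
    chG T (i + 1) ≤ chG T i ⊓ Subgroup.normalizer (chZ T (i + 1) : Set G) := by
  rw [chG_succ]
  exact inf_le_inf_left _ (stabC_le_normalizer_left _ _)

theorem le_normalizer_chG_succ (T : Subgroup G) (i : ℕ) :
    chG T i ⊓ Subgroup.normalizer (chZ T (i + 1) : Set G) ≤
      Subgroup.normalizer (chG T (i + 1) : Set G) := by
  intro m hm
  obtain ⟨hm1, hm2⟩ := Subgroup.mem_inf.mp hm
  rw [chG_succ]
  apply normalizer_inf_normalizer_le_normalizer_inf
  refine Subgroup.mem_inf.mpr ⟨Subgroup.le_normalizer hm1, ?_⟩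
  exact normalizer_inf_le_normalizer_stabC _ _
    (Subgroup.mem_inf.mpr ⟨hm2, chG_le_normalizer_chZ T i hm1⟩)

theorem chP_le_M [Finite G] (T : Subgroup G) (i : ℕ) :
    chP T i ≤ chG T i ⊓ Subgroup.normalizer (chZ T (i + 1) : Set G) :=
  le_inf (chP_le_chG T i) (chP_normalizes_chZ_succ T i)

theorem not_dvd_relIndex_chP [Finite G] (P : Sylow p G) (i : ℕ) :
    ¬ p ∣ (chP (P : Subgroup G) i).relIndex (chG (P : Subgroup G) i) := by
  induction i with
  | zero =>
    rw [chP_zero, chG_zero, Subgroup.relIndex_top_right]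
    exact P.not_dvd_index
  | succ i ih =>
    set T := (P : Subgroup G) with hT
    set M := chG T i ⊓ Subgroup.normalizer (chZ T (i + 1) : Set G) with hM
    have h1 : ¬ p ∣ (chP T i).relIndex M := by
      intro hdvd
      apply ih
      rw [← Subgroup.relIndex_mul_relIndex (chP T i) M (chG T i) (chP_le_M T i) inf_le_left]
      exact Dvd.dvd.mul_right hdvd _
    have h2 := Cfsg.Agent.Lib.Helper32.not_dvd_relIndex_inf_of_relSylow (chP_le_M T i) h1
      (chG_succ_le T i) (le_normalizer_chG_succ T i)
    have h3 : chP T i ⊓ chG T (i + 1) = chP T (i + 1) := by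
      rw [chG_succ, ← inf_assoc, inf_eq_left.mpr (chP_le_chG T i), chP_succ]
    rwa [h3] at h2

theorem chG_coprime_centralizes [Finite G] (T : Subgroup G) (hT : IsPGroup p T) (i : ℕ) :
    ∀ g ∈ chG T i, (orderOf g).Coprime p → g ∈ Subgroup.centralizer (chZ T i : Set G) := by
  induction i with
  | zero =>
    intro g _ _
    rw [chZ_zero, Subgroup.mem_centralizer_iff]
    intro h hh
    have : h = 1 := hh
    rw [this]; simp
  | succ i ih =>
    intro g hg hgo
    rw [chG_succ] at hg
    obtain ⟨hg1, hg2⟩ := Subgroup.mem_inf.mp hg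
    have hZp : IsPGroup p (chZ T (i + 1)) :=
      hT.to_le ((chZ_le_chP T (i + 1)).trans (chP_le T (i + 1)))
    exact mem_centralizer_of_stab hZp (chZ_le_succ T i) hgo (ih g hg1 hgo) hg2.2.2

/-- Main theorem: if `p'`-elements normalizing the last term of the chain centralize it, then `G`
has a normal `p`-complement. -/
theorem hasNPC_of_chain [Finite G] (hp2 : p ≠ 2) (P : Sylow p G) (k : ℕ)
    (hk : chP (P : Subgroup G) k ≤ chZ (P : Subgroup G) k)
    (H : ∀ g ∈ Subgroup.normalizer (chP (P : Subgroup G) k : Set G), (orderOf g).Coprime p →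
      g ∈ Subgroup.centralizer (chP (P : Subgroup G) k : Set G)) :
    HasNormalPComplement p G := by
  set T := (P : Subgroup G) with hT
  have hTp : IsPGroup p T := P.isPGroup'
  have hKeq : chP T k = chZ T k := le_antisymm hk (chZ_le_chP T k)
  -- descending induction
  have key : ∀ j : ℕ, j ≤ k → PN p (chG T (k - j)) := by
    intro j
    induction j with
    | zero =>
      intro _
      rw [Nat.sub_zero]
      apply pn_of_frob
      intro Q hQX hQp g hgX _ hgo
      have hgN : g ∈ Subgroup.normalizer (chP T k : Set G) := by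
        rw [hKeq]; exact chG_le_normalizer_chZ T k hgX
      have hgC := H g hgN hgo
      have hXK : chG T k ≤ Subgroup.normalizer (chP T k : Set G) := by
        rw [hKeq]; exact chG_le_normalizer_chZ T k
      have hQK : Q ≤ chP T k :=
        le_of_normal_relSylow (chP_le_chG T k) hXK (not_dvd_relIndex_chP P k) hQX hQp
      exact Subgroup.centralizer_le (by exact_mod_cast hQK) hgC
    | succ j ih =>
      intro hj
      have hjk : j ≤ k := by omega
      obtain ⟨i, hi⟩ : ∃ i, k - (j + 1) = i := ⟨_, rfl⟩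
      have hi1 : k - j = i + 1 := by omega
      have hik : i + 1 ≤ k := by omega
      have hPNs : PN p (chG T (i + 1)) := by
        have := ih hjk
        rwa [hi1] at this
      rw [hi]
      set M := chG T i ⊓ Subgroup.normalizer (chZ T (i + 1) : Set G) with hM
      -- `p'`-elements of `M` lie in `chG T (i+1)`
      have hpe : ∀ g ∈ M, (orderOf g).Coprime p → g ∈ chG T (i + 1) := by
        apply mem_of_coprime_of_frattini (chG_succ_le T i) (le_normalizer_chG_succ T i)
          (chP_le_chG T (i + 1)) (hTp.to_le (chP_le T (i + 1))) (not_dvd_relIndex_chP P (i + 1))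
        intro y hy hyo
        obtain ⟨hyM, hyN⟩ := Subgroup.mem_inf.mp hy
        obtain ⟨hy1, hy2⟩ := Subgroup.mem_inf.mp hyM
        obtain ⟨hyPk, _⟩ := chain_normalizer T (i + 1) hyN hy2 k hik
        have hyC := H y hyPk hyo
        have hc1 : y ∈ Subgroup.centralizer (chZ T (i + 1) : Set G) :=
          Subgroup.centralizer_le (by exact_mod_cast (chZ_mono T hik).trans (chZ_le_chP T k)) hyC
        have hc0 : y ∈ Subgroup.centralizer (chZ T i : Set G) :=
          Subgroup.centralizer_le
            (by exact_mod_cast (chZ_mono T (by omega : i ≤ k)).trans (chZ_le_chP T k)) hyC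
        rw [chG_succ]
        exact Subgroup.mem_inf.mpr ⟨hy1, mem_stabC_of_mem_centralizer hc1 hc0⟩
      -- `M` is `p`-nilpotent
      have hPNM : PN p M := by
        apply pn_of_frob
        intro Q hQM hQp g hgM hgQ hgo
        have hgS : g ∈ chG T (i + 1) := hpe g hgM hgo
        set R := Q ⊓ chG T (i + 1) with hR
        have hgR : g ∈ Subgroup.normalizer (R : Set G) := by
          apply normalizer_inf_normalizer_le_normalizer_inf
          exact Subgroup.mem_inf.mpr ⟨hgQ, Subgroup.le_normalizer hgS⟩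
        have hgCR : g ∈ Subgroup.centralizer (R : Set G) :=
          hPNs.frob inf_le_right (hQp.to_le inf_le_left) hgS hgR hgo
        apply mem_centralizer_of_stab hQp inf_le_left hgo hgCR
        intro a ha
        refine Subgroup.mem_inf.mpr ⟨?_, ?_⟩
        · exact Q.mul_mem ((Subgroup.mem_normalizer_iff.mp hgQ a).mp ha) (Q.inv_mem ha)
        · have haN : a ∈ Subgroup.normalizer (chG T (i + 1) : Set G) :=
            le_normalizer_chG_succ T i (hQM ha)
          have h1 : a * g⁻¹ * a⁻¹ ∈ chG T (i + 1) :=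
            (Subgroup.mem_normalizer_iff.mp haN _).mp (inv_mem hgS)
          have h2 : g * a * g⁻¹ * a⁻¹ = g * (a * g⁻¹ * a⁻¹) := by group
          rw [h2]
          exact mul_mem hgS h1
      -- relative Glauberman–Thompson
      have hM' : PN p (chG T i ⊓ Subgroup.normalizer (relZJ (chP T i) (chZ T i) : Set G)) := by
        rw [← chZ_succ]; exact hPNM
      exact pn_of_pn_normalizer_relZJ hp2 (chZ_le_chP T i) (chP_le_chG T i)
        (chG_le_normalizer_chZ T i) (hTp.to_le (chP_le T i)) (not_dvd_relIndex_chP P i) hM'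
        (chG_coprime_centralizes T hTp i)
  have h0 := key k le_rfl
  rw [Nat.sub_self, chG_zero] at h0
  exact pn_top_iff.mp h0

end main

end Cfsg.Agent.Lib.Helper54
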