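import Mathlib
import Cfsg.Agent.Lib.Helper54.ZJChainNPC

set_option autoImplicit false
set_option linter.style.haveILetI false

/-!
# The characteristic subgroup deciding normal `p`-complements: transport along an isomorphism
-/

namespace Cfsg.Agent.Lib.Helper54

open Cfsg Cfsg.Agent.Lib.Helper2 Cfsg.Agent.Lib.Helper19 Cfsg.Agent.Lib.Helper11

universe u

/-- the subgroup `K(S)` -/
noncomputable def thompsonK (S : Type*) [Group S] : Subgroup S := chP (⊤ : Subgroup S) (Nat.card S)

theorem thompsonK_characteristic (S : Type*) [Group S] [Finite S] :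
    (thompsonK S).Characteristic := by
  rw [Subgroup.characteristic_iff_map_eq]
  intro φ
  have h := (chain_map φ.toMonoidHom φ.injective (⊤ : Subgroup S) (Nat.card S)).2
  rw [Subgroup.map_top_of_surjective _ φ.surjective] at h
  exact h.symm

theorem centralizer_thompsonK_le (S : Type*) [Group S] [Finite S] :
    Subgroup.centralizer (thompsonK S : Set S) ≤ thompsonK S := by
  have h := centralizer_chP_inf_le (⊤ : Subgroup S) (Nat.card S)
  rwa [inf_top_eq] at h

theorem thompsonK_iff {p : ℕ} [Fact p.Prime] (hp : p ≠ 2) {S : Type*} [Group S] [Finite S]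
    {G : Type*} [Group G] [Finite G] (P : Sylow p G) (e : ↥(P : Subgroup G) ≃* S) :
    HasNormalPComplement p G ↔
      ∀ g ∈ Subgroup.normalizer ((((thompsonK S).comap (e : ↥(P : Subgroup G) →* S)).map
          (P : Subgroup G).subtype : Subgroup G) : Set G),
        (orderOf g).Coprime p →
          g ∈ Subgroup.centralizer ((((thompsonK S).comap (e : ↥(P : Subgroup G) →* S)).map
            (P : Subgroup G).subtype : Subgroup G) : Set G) := by
  set f : S →* G := (P : Subgroup G).subtype.comp e.symm.toMonoidHom with hf
  have hfinj : Function.Injective f := by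
    intro a b hab
    have : (e.symm a : G) = (e.symm b : G) := hab
    exact e.symm.injective (Subtype.ext this)
  have hKmap : ((thompsonK S).comap (e : ↥(P : Subgroup G) →* S)).map (P : Subgroup G).subtype =
      (thompsonK S).map f := by
    have h1 : (thompsonK S).comap (e : ↥(P : Subgroup G) →* S) =
        (thompsonK S).map e.symm.toMonoidHom := by
      ext x
      simp only [Subgroup.mem_comap, Subgroup.mem_map]
      constructor
      · intro hx
        exact ⟨e x, hx, by simp⟩
      · rintro ⟨y, hy, rfl⟩
        simpa using hy
    rw [h1, hf, Subgroup.map_map]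
  have htop : (⊤ : Subgroup S).map f = (P : Subgroup G) := by
    rw [hf, ← Subgroup.map_map, Subgroup.map_top_of_surjective _ e.symm.surjective,
      ← MonoidHom.range_eq_map, Subgroup.range_subtype]
  have hcard : Nat.card S = Nat.card (P : Subgroup G) := (Nat.card_congr e.toEquiv).symm
  have hK : (thompsonK S).map f = chP (P : Subgroup G) (Nat.card (P : Subgroup G)) := by
    unfold thompsonK
    rw [← (chain_map f hfinj (⊤ : Subgroup S) (Nat.card S)).2, htop, hcard]
  rw [hKmap, hK]
  constructor
  · intro h g hg hgo
    have hF := (Cfsg.Agent.S0072.hasNormalPComplement_iff_frobCond p).mp h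
    exact hF _ (P.isPGroup'.to_le (chP_le _ _)) g hg hgo
  · intro H
    exact hasNPC_of_chain hp P _ (chain_terminates (P : Subgroup G) P.isPGroup') H

end Cfsg.Agent.Lib.Helper54
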